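import Cfsg.Agent.Lib.Helper32.BG12XDefs

/-!
# BGX piece SYL-DATA (rows S1421 / S1359 / S1360, helper32's job board; filled by helper64)

Notation: `R : Rows G` bundles the earlier rows (R.h5 = B&G 10.5, R.h8 = 10.8, R.h12 = 10.9,
R.h14 = 10.11 (S1414), R.h16, R.h17 = 12.5 (S1417), R.h18 = 12.6 (S1418), R.h19 = 12.7 (S1419),
R.h20 = 12.10 (S1420), R.h27 = 13.3(a)); `c : Ctx7 M E p A` = (hM : IsCoatom M,
hE : IsComplIn E (sigmaCore M) M, hp : p ∈ tau2 M, hAE : A ≤ E, hA : IsElementaryAbelian p A,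
hA2 : Nat.card A = p ^ 2).

Proof.  `A` is normal in `E` (R.h18 (a)) and a `p`-group, `S` is a Sylow `p`-subgroup of `E`
(`p ∤ |E : S|`), so `A ≤ S` (`A S` is a `p`-subgroup of `E` containing `S`).
`p ∉ σ(M)` so `p ∤ |M_σ| = |M : E|` and `S` is (the image of) a Sylow `p`-subgroup `P` of `M`;
R.h17 for this `P` gives: `P` abelian, `x ^ p = 1 ↔ x ∈ A` on `S`, `¬ N(S) ≤ M`.
`N(S) ≤ N(A)` because `A = {x ∈ S | x ^ p = 1}`.
-/

set_option autoImplicit false

open Cfsg Cfsg.Agent.Lib.Helper32 Cfsg.Agent.Lib.Helper32.BG10 Cfsg.Agent.Lib.Helper3.BG12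
  Cfsg.Agent.Lib.Helper15.BG12

namespace Cfsg.Agent.Lib.Helper32.BG12X

universe u

variable {G : Type u} [Group G] [Finite G]

/-- a `p`-subgroup `P` with `S ≤ P ≤ E` and `p ∤ |E : S|` is contained in `S` -/
theorem sylData_le_of_pgroup {p : ℕ} [Fact p.Prime] {S P E : Subgroup G} (hSP : S ≤ P)
    (hPE : P ≤ E) (hP : IsPGroup p P) (h : ¬ p ∣ S.relIndex E) : P ≤ S := by
  have hp : p.Prime := Fact.out
  have h1 : S.relIndex P * P.relIndex E = S.relIndex E :=
    Subgroup.relIndex_mul_relIndex S P E hSP hPE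
  have h2 : ¬ p ∣ S.relIndex P := fun hd => h (h1 ▸ Dvd.dvd.mul_right hd _)
  obtain ⟨n, hn⟩ := hP.exists_card_eq
  have h3 : S.relIndex P ∣ p ^ n := hn ▸ Subgroup.relIndex_dvd_card S P
  obtain ⟨m, -, hm⟩ := (Nat.dvd_prime_pow hp).1 h3
  have hm0 : m = 0 := by
    by_contra hne
    exact h2 (hm ▸ dvd_pow_self p hne)
  rw [hm0, pow_zero] at hm
  exact Subgroup.relIndex_eq_one.1 hm

theorem sylow_data (hG : IsMinSimpleOddOrder G) (R : Rows G) {M E A : Subgroup G} {p : ℕ}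
    [Fact p.Prime] (c : Ctx7 M E p A) {S : Subgroup G} (hSE : S ≤ E) (hSp : IsPGroup p S)
    (hSyl : ¬ p ∣ S.relIndex E) :
    A ≤ S ∧ IsMulCommutative S ∧ (∀ x ∈ S, x ^ p = 1 ↔ x ∈ A) ∧
      Subgroup.normalizer (S : Set G) ≤ Subgroup.normalizer (A : Set G) ∧
      ¬ Subgroup.normalizer (S : Set G) ≤ M := by
  have hp : p.Prime := Fact.out
  have hEM : E ≤ M := c.hE.1
  have h18 := R.h18 M c.hM E c.hE p c.hp A ⟨c.hAE, c.hA, c.hA2⟩
  have h17 := R.h17 M c.hM p c.hp A ⟨c.hAE.trans hEM, c.hA, c.hA2⟩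
  have hAp : IsPGroup p A := IsPGroup.of_card c.hA2
  -- `A ≤ S`
  have hAS : A ≤ S := by
    have hSA : IsPGroup p ↥(S ⊔ A) :=
      IsPGroup.to_sup_of_normal_right' hSp hAp (hSE.trans h18.1.1)
    have := sylData_le_of_pgroup (le_sup_left : S ≤ S ⊔ A) (sup_le hSE c.hAE) hSA hSyl
    exact le_sup_right.trans this
  -- `S` is the image of a Sylow `p`-subgroup of `M`
  have hSM : S ≤ M := hSE.trans hEM
  have hcard : Nat.card M = Nat.card E * Nat.card (sigmaCore M) := card_of_isComplIn c.hE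
  have hEidx : E.relIndex M = Nat.card (sigmaCore M) := by
    have h1 : Nat.card (E.subgroupOf M) * (E.subgroupOf M).index = Nat.card M :=
      Subgroup.card_mul_index _
    have h2 : Nat.card (E.subgroupOf M) = Nat.card E :=
      Nat.card_congr (Subgroup.subgroupOfEquivOfLe hEM).toEquiv
    have hEpos : 0 < Nat.card E := Nat.card_pos
    rw [h2, hcard] at h1
    exact Nat.eq_of_mul_eq_mul_left hEpos h1
  have hpσ : ¬ p ∣ Nat.card (sigmaCore M) := fun hd =>
    c.hp.2.1 (Cfsg.Agent.Lib.Helper32.BG12.mem_sigma_of_dvd_sigmaCore hp hd)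
  have hidx : ¬ p ∣ (S.subgroupOf M).index := by
    have h1 : S.relIndex E * E.relIndex M = S.relIndex M :=
      Subgroup.relIndex_mul_relIndex S E M hSE hEM
    have h2 : (S.subgroupOf M).index = S.relIndex M := rfl
    rw [h2, ← h1, hEidx]
    intro hd
    rcases (Nat.Prime.dvd_mul hp).1 hd with h | h
    · exact hSyl h
    · exact hpσ h
  have hSp' : IsPGroup p ↥(S.subgroupOf M) :=
    hSp.of_equiv (Subgroup.subgroupOfEquivOfLe hSM).symm
  let P : Sylow p M := hSp'.toSylow hidx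
  have hPS : (P : Subgroup M).map M.subtype = S := by
    have : (P : Subgroup M) = S.subgroupOf M := IsPGroup.toSylow_coe hSp' hidx
    rw [this]
    exact Subgroup.map_subgroupOf_eq_of_le hSM
  obtain ⟨hPab, hP2⟩ := h17.2.1 P
  rw [hPS] at hP2
  obtain ⟨hiff, hnot⟩ := hP2 hAS
  refine ⟨hAS, ?_, hiff, ?_, hnot⟩
  · -- `S` abelian
    refine ⟨⟨?_⟩⟩
    rintro ⟨x, hx⟩ ⟨y, hy⟩
    have hxP : (⟨x, hSM hx⟩ : M) ∈ (P : Subgroup M) := by
      have : (P : Subgroup M) = S.subgroupOf M := IsPGroup.toSylow_coe hSp' hidx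
      rw [this, Subgroup.mem_subgroupOf]
      exact hx
    have hyP : (⟨y, hSM hy⟩ : M) ∈ (P : Subgroup M) := by
      have : (P : Subgroup M) = S.subgroupOf M := IsPGroup.toSylow_coe hSp' hidx
      rw [this, Subgroup.mem_subgroupOf]
      exact hy
    have hc := hPab.is_comm.comm ⟨_, hxP⟩ ⟨_, hyP⟩
    have hc' : x * y = y * x := by
      have := congrArg (fun z : (P : Subgroup M) => ((z : M) : G)) hc
      simpa using this
    exact Subtype.ext hc'
  · -- `N(S) ≤ N(A)`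
    intro g hg
    have key : ∀ (g : G), g ∈ Subgroup.normalizer (S : Set G) → ∀ a ∈ A, g * a * g⁻¹ ∈ A := by
      intro g hg a ha
      have h1 : g * a * g⁻¹ ∈ S := (Subgroup.mem_normalizer_iff.1 hg a).1 (hAS ha)
      refine (hiff _ h1).1 ?_
      rw [conj_pow, c.hA.2 a ha]
      simp
    rw [Subgroup.mem_normalizer_iff]
    intro a
    refine ⟨key g hg a, fun h => ?_⟩
    have := key g⁻¹ (Subgroup.inv_mem _ hg) _ h
    simpa [mul_assoc] using this

end Cfsg.Agent.Lib.Helper32.BG12X
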