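import Cfsg.Agent.Lib.Helper32.BG12XDefs
import Cfsg.Agent.Lib.Helper32.BG12XSylData

/-!
# BGX piece SYL-G (rows S1421 / S1359 / S1360, helper32's job board; filled by helper64)

`cs : CtxS M E p A S` = (c : Ctx7 M E p A, hab : G has an abelian Sylow p-subgroup, hSE : S ≤ E,
hSp : IsPGroup p S, hSyl : ¬ p ∣ S.relIndex E).

Proof.  `S` is a `p`-subgroup of `G`, so `S ≤ T'` for a Sylow `p`-subgroup `T'` of `G`, and `T'` is
abelian (isomorphic to `T` from `cs.hab`).  `A ≤ S ≤ T'` (sylow_data) so `T' ≤ C(A) ≤ E`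
(R.h18 (b): `C(A) ≤ M ⊓ N(A) = E`).  `T'` is a `p`-subgroup of `E` containing `S`, and
`p ∤ |E : S|`, so `T' = S`.  Hence `S` is a Sylow `p`-subgroup of `G`, and any `p`-subgroup
`P ≥ S` equals `S`.
-/

set_option autoImplicit false

open Cfsg Cfsg.Agent.Lib.Helper32 Cfsg.Agent.Lib.Helper32.BG10 Cfsg.Agent.Lib.Helper3.BG12
  Cfsg.Agent.Lib.Helper15.BG12

namespace Cfsg.Agent.Lib.Helper32.BG12X

universe u

variable {G : Type u} [Group G] [Finite G]

theorem sylow_of_G (hG : IsMinSimpleOddOrder G) (R : Rows G) {M E A S : Subgroup G} {p : ℕ}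
    [Fact p.Prime] (cs : CtxS M E p A S) :
    ∀ P : Subgroup G, IsPGroup p P → S ≤ P → P = S := by
  have c := cs.c
  have h18 := R.h18 M c.hM E c.hE p c.hp A ⟨c.hAE, c.hA, c.hA2⟩
  obtain ⟨hAS, -, -, -, -⟩ := sylow_data hG R c cs.hSE cs.hSp cs.hSyl
  obtain ⟨T', hST'⟩ := cs.hSp.exists_le_sylow
  obtain ⟨T, hT⟩ := cs.hab
  -- `T'` is abelian
  have hT'ab : ∀ x ∈ (T' : Subgroup G), ∀ y ∈ (T' : Subgroup G), x * y = y * x := by
    intro x hx y hy
    let e : (T : Subgroup G) ≃* (T' : Subgroup G) := Sylow.equiv T T'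
    have h1 := hT.is_comm.comm (e.symm ⟨x, hx⟩) (e.symm ⟨y, hy⟩)
    have h2 := congrArg e h1
    rw [map_mul, map_mul, e.apply_symm_apply, e.apply_symm_apply] at h2
    exact congrArg Subtype.val h2
  -- `T' ≤ C(A) ≤ E`
  have hT'C : (T' : Subgroup G) ≤ Subgroup.centralizer (A : Set G) := by
    intro t ht
    rw [Subgroup.mem_centralizer_iff]
    intro a ha
    exact hT'ab a (hST' (hAS ha)) t ht
  have hCE : Subgroup.centralizer (A : Set G) ≤ E := by
    have := h18.2.1.1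
    rw [h18.2.1.2.1] at this
    exact this
  have hT'S : (T' : Subgroup G) ≤ S :=
    sylData_le_of_pgroup hST' (hT'C.trans hCE) T'.isPGroup' cs.hSyl
  have hTS : (T' : Subgroup G) = S := le_antisymm hT'S hST'
  intro P hP hSP
  rw [← hTS]
  exact T'.is_maximal' hP (hTS ▸ hSP)

end Cfsg.Agent.Lib.Helper32.BG12X
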