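import Mathlib
import Cfsg.Agent.Lib.Helper26.GrossLin

/-!
# Rank-one projections commuting with a commuting family of operators of order dividing `p - 1`
-/

set_option autoImplicit false

open Cfsg.Agent.Lib.Helper26

namespace Cfsg.Agent.Lib.Helper32.DOR1

theorem exists_primitiveRoot_zmod (p : ℕ) [Fact p.Prime] :
    ∃ ζ : ZMod p, IsPrimitiveRoot ζ (p - 1) := by
  obtain ⟨g, hg⟩ := IsCyclic.exists_generator (α := (ZMod p)ˣ)
  have h1 : orderOf g = p - 1 := by
    rw [orderOf_eq_card_of_forall_mem_zpowers hg, Nat.card_eq_fintype_card, ZMod.card_units]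
  refine ⟨(g : ZMod p), ?_⟩
  rw [IsPrimitiveRoot.coe_units_iff, ← h1]
  exact IsPrimitiveRoot.orderOf g

theorem rank_one_proj_zmod (p : ℕ) [Fact p.Prime] {W : Type*} [AddCommGroup W]
    [Module (ZMod p) W] [Finite W] [Nontrivial W] (T : Set (Module.End (ZMod p) W))
    (hcomm : ∀ f ∈ T, ∀ g ∈ T, f * g = g * f) (hpow : ∀ f ∈ T, f ^ (p - 1) = 1) :
    ∃ (e : Module.End (ZMod p) W) (s : W), s ≠ 0 ∧
      (∀ v, e v ∈ Submodule.span (ZMod p) {s}) ∧
      (∀ u ∈ Submodule.span (ZMod p) {s}, e u = u) ∧ ∀ f ∈ T, e * f = f * e := by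
  classical
  have hp : p.Prime := Fact.out
  have hp1 : 0 < p - 1 := by have := hp.two_le; omega
  haveI : Finite (Module.End (ZMod p) W) :=
    Finite.of_injective (fun f : Module.End (ZMod p) W => (f : W → W)) DFunLike.coe_injective
  haveI : Finite (Module.End (ZMod p) W)ˣ :=
    Finite.of_injective (fun u : (Module.End (ZMod p) W)ˣ => (u : Module.End (ZMod p) W))
      Units.val_injective
  have hS : ∀ f ∈ T, ∃ u : (Module.End (ZMod p) W)ˣ,
      u ∈ {u : (Module.End (ZMod p) W)ˣ | (u : Module.End (ZMod p) W) ∈ T} ∧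
        (u : Module.End (ZMod p) W) = f := by
    intro f hf
    refine ⟨Units.ofPowEqOne f (p - 1) (hpow f hf) hp1.ne', ?_, rfl⟩
    exact hf
  obtain ⟨B, hBdef⟩ : ∃ B : Subgroup (Module.End (ZMod p) W)ˣ,
      B = Subgroup.closure {u : (Module.End (ZMod p) W)ˣ | (u : Module.End (ZMod p) W) ∈ T} :=
    ⟨_, rfl⟩
  have hScomm : ∀ x ∈ {u : (Module.End (ZMod p) W)ˣ | (u : Module.End (ZMod p) W) ∈ T},
      ∀ y ∈ {u : (Module.End (ZMod p) W)ˣ | (u : Module.End (ZMod p) W) ∈ T},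
        x * y = y * x := by
    intro x hx y hy
    apply Units.ext
    rw [Units.val_mul, Units.val_mul]
    exact hcomm _ hx _ hy
  have hB1 : B ≤ Subgroup.centralizer
      {u : (Module.End (ZMod p) W)ˣ | (u : Module.End (ZMod p) W) ∈ T} := by
    rw [hBdef, Subgroup.closure_le]
    intro x hx
    rw [SetLike.mem_coe, Subgroup.mem_centralizer_iff]
    intro y hy
    exact hScomm y hy x hx
  have hB2 : B ≤ Subgroup.centralizer (B : Set (Module.End (ZMod p) W)ˣ) := by
    conv_lhs => rw [hBdef]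
    rw [Subgroup.closure_le]
    intro x hx
    rw [SetLike.mem_coe, Subgroup.mem_centralizer_iff]
    intro b hb
    exact (Subgroup.mem_centralizer_iff.mp (hB1 hb) x hx).symm
  have hBcomm : ∀ b ∈ B, ∀ b' ∈ B, b * b' = b' * b := by
    intro b hb b' hb'
    exact Subgroup.mem_centralizer_iff.mp (hB2 hb') b hb
  have hBpow : ∀ b ∈ B, b ^ (p - 1) = 1 := by
    intro b hb
    have hle : B ≤ (Subgroup.centralizer (B : Set (Module.End (ZMod p) W)ˣ)) ⊓ B := le_inf hB2 le_rfl
    rw [hBdef] at hb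
    induction hb using Subgroup.closure_induction with
    | mem x hx =>
      apply Units.ext
      rw [Units.val_pow_eq_pow_val, Units.val_one]
      exact hpow _ hx
    | one => exact one_pow _
    | mul x y hx hy ihx ihy =>
      have hx' : x ∈ B := by rw [hBdef]; exact hx
      have hy' : y ∈ B := by rw [hBdef]; exact hy
      have hc : Commute x y := hBcomm x hx' y hy'
      rw [hc.mul_pow, ihx, ihy, one_mul]
    | inv x hx ih => rw [inv_pow, ih, inv_one]
  obtain ⟨ζ, hζ⟩ := exists_primitiveRoot_zmod p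
  have hroot : ∀ b ∈ B, ∃ m : ℕ, 0 < m ∧ b ^ m = 1 ∧ ∃ ζ : ZMod p, IsPrimitiveRoot ζ m :=
    fun b hb => ⟨p - 1, hp1, hBpow b hb, ζ, hζ⟩
  obtain ⟨s, -, hs0, hs⟩ := gross_common_eig (Units.coeHom (Module.End (ZMod p) W)) B hroot _ ⊤
    rfl top_ne_bot (fun _ _ _ _ => Submodule.mem_top) (by
      intro b hb b' hb' u _
      have h1 := hBcomm b hb b' hb'
      have h2 := congrArg (fun x : (Module.End (ZMod p) W)ˣ => (x : Module.End (ZMod p) W) u) h1
      simpa using h2)
  have hLinv : ∀ b ∈ B, ∀ u ∈ Submodule.span (ZMod p) {s},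
      Units.coeHom (Module.End (ZMod p) W) b u ∈ Submodule.span (ZMod p) {s} := by
    intro b hb u hu
    obtain ⟨c, hc⟩ := hs b hb
    obtain ⟨a, rfl⟩ := Submodule.mem_span_singleton.mp hu
    rw [map_smul, hc]
    exact Submodule.smul_mem _ _ (Submodule.smul_mem _ _ (Submodule.mem_span_singleton_self s))
  obtain ⟨g, hg⟩ := LinearMap.exists_leftInverse_of_injective
    (Submodule.span (ZMod p) {s}).subtype (Submodule.ker_subtype _)
  have hBcard : (Nat.card B : ZMod p) ≠ 0 := by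
    rw [Ne, ZMod.natCast_eq_zero_iff]
    intro hdvd
    obtain ⟨b, hb⟩ := exists_prime_orderOf_dvd_card' p hdvd
    have h1 : (b : (Module.End (ZMod p) W)ˣ) ^ (p - 1) = 1 := hBpow b b.2
    have h2 : orderOf b ∣ p - 1 := by
      apply orderOf_dvd_of_pow_eq_one
      apply Subtype.ext
      rw [Subgroup.coe_pow, h1]; rfl
    rw [hb] at h2
    exact absurd (Nat.le_of_dvd hp1 h2) (by omega)
  obtain ⟨π', h1, h2, h3, -⟩ := gross_avg (Units.coeHom (Module.End (ZMod p) W)) B ⊥ hBcard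
    (Submodule.span (ZMod p) {s}) hLinv ((Submodule.span (ZMod p) {s}).subtype ∘ₗ g)
    (fun v => (g v).2)
    (fun u hu => by
      have h4 := congrArg (fun F : Submodule.span (ZMod p) {s} →ₗ[ZMod p]
        Submodule.span (ZMod p) {s} => ((F ⟨u, hu⟩ : Submodule.span (ZMod p) {s}) : W)) hg
      exact h4)
    (fun b _ h hh => by
      rw [Subgroup.mem_bot] at hh ⊢
      subst hh
      group)
    (fun h hh v => by
      rw [Subgroup.mem_bot] at hh
      subst hh
      simp)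
  refine ⟨π', s, hs0, h1, h2, ?_⟩
  intro f hf
  obtain ⟨u, hu, rfl⟩ := hS f hf
  apply LinearMap.ext
  intro v
  have hub : u ∈ B := by rw [hBdef]; exact Subgroup.subset_closure hu
  exact h3 u hub v

theorem rank_one_idem_aux (p : ℕ) [Fact p.Prime] {W : Type*} [AddCommGroup W]
    [Module (ZMod p) W] [Finite W] [Nontrivial W] (T : Set (W →ₗ[ℤ] W))
    (hcomm : ∀ f ∈ T, ∀ g ∈ T, f ∘ₗ g = g ∘ₗ f) (hpow : ∀ f ∈ T, f ^ (p - 1) = 1) :
    ∃ e : W →ₗ[ℤ] W, e ∘ₗ e = e ∧ Nat.card (LinearMap.range e) = p ∧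
      ∀ f ∈ T, e ∘ₗ f = f ∘ₗ e := by
  classical
  have hcomm' : ∀ F ∈ {F : Module.End (ZMod p) W | ∃ f ∈ T, ∀ w, F w = f w},
      ∀ G ∈ {F : Module.End (ZMod p) W | ∃ f ∈ T, ∀ w, F w = f w}, F * G = G * F := by
    rintro F ⟨f, hf, hFf⟩ G ⟨g, hg, hGg⟩
    apply LinearMap.ext
    intro w
    rw [Module.End.mul_apply, Module.End.mul_apply, hGg, hFf, hFf, hGg]
    exact congrArg (fun h : W →ₗ[ℤ] W => h w) (hcomm f hf g hg)
  have hpow' : ∀ F ∈ {F : Module.End (ZMod p) W | ∃ f ∈ T, ∀ w, F w = f w},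
      F ^ (p - 1) = 1 := by
    rintro F ⟨f, hf, hFf⟩
    apply LinearMap.ext
    intro w
    have h1 := congrArg (fun h : W →ₗ[ℤ] W => h w) (hpow f hf)
    have hF : (F : W → W) = f := funext hFf
    rw [Module.End.pow_apply, hF, ← Module.End.pow_apply]
    exact h1
  obtain ⟨e, s, hs0, h1, h2, h3⟩ := rank_one_proj_zmod p _ hcomm' hpow'
  refine ⟨e.restrictScalars ℤ, ?_, ?_, ?_⟩
  · apply LinearMap.ext
    intro w
    show e (e w) = e w
    exact h2 _ (h1 w)
  · have hrange : ∀ w : W, w ∈ LinearMap.range (e.restrictScalars ℤ) ↔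
        w ∈ Submodule.span (ZMod p) {s} := by
      intro w
      constructor
      · rintro ⟨v, rfl⟩
        exact h1 v
      · intro hw
        exact ⟨w, h2 w hw⟩
    rw [Nat.card_congr (Equiv.subtypeEquivRight hrange)]
    rw [Module.natCard_eq_pow_finrank (K := ZMod p) (V := Submodule.span (ZMod p) {s}),
      finrank_span_singleton hs0, pow_one, Nat.card_eq_fintype_card, ZMod.card]
  · intro f hf
    apply LinearMap.ext
    intro w
    have hF : (f.toAddMonoidHom.toZModLinearMap p) ∈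
        {F : Module.End (ZMod p) W | ∃ f ∈ T, ∀ w, F w = f w} := ⟨f, hf, fun w => rfl⟩
    have h4 := congrArg (fun h : Module.End (ZMod p) W => h w) (h3 _ hF)
    exact h4

theorem rank_one_idem (p : ℕ) [Fact p.Prime] {W : Type*} [AddCommGroup W] [Finite W]
    [Nontrivial W] (hW : ∀ w : W, (p : ℤ) • w = 0) (T : Set (W →ₗ[ℤ] W))
    (hcomm : ∀ f ∈ T, ∀ g ∈ T, f ∘ₗ g = g ∘ₗ f) (hpow : ∀ f ∈ T, f ^ (p - 1) = 1) :
    ∃ e : W →ₗ[ℤ] W, e ∘ₗ e = e ∧ Nat.card (LinearMap.range e) = p ∧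
      ∀ f ∈ T, e ∘ₗ f = f ∘ₗ e := by
  letI : Module (ZMod p) W := AddCommGroup.zmodModule (n := p) (fun w => by
    have := hW w
    rwa [natCast_zsmul] at this)
  exact rank_one_idem_aux p T hcomm hpow

end Cfsg.Agent.Lib.Helper32.DOR1
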