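import Cfsg.Agent.Lib.Helper32.NcAxB

set_option autoImplicit false
open scoped commutatorElement

namespace Cfsg.Agent.Lib.Helper32

section Fixed

variable {G : Type*} [Group G]

/-- A `p`-group acting by conjugation on an invariant set of elements of size prime to `p` fixes
one of them. -/
theorem exists_conj_fixed_elt {A : Subgroup G} (p : ℕ) [Fact p.Prime] (hA : IsPGroup p A)
    (T : Set G) (hinv : ∀ a ∈ A, ∀ t ∈ T, a * t * a⁻¹ ∈ T) (hT : ¬ p ∣ Nat.card T) :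
    ∃ t ∈ T, ∀ a ∈ A, a * t * a⁻¹ = t := by
  let _inst : MulAction A T :=
    { smul := fun a t => ⟨(a : G) * t * (a : G)⁻¹, hinv a a.2 t t.2⟩
      one_smul := by intro t; apply Subtype.ext; simp [HSMul.hSMul]
      mul_smul := by intro a b t; apply Subtype.ext; simp [HSMul.hSMul, mul_assoc] }
  obtain ⟨⟨t, ht⟩, hfix⟩ := hA.nonempty_fixed_point_of_prime_not_dvd_card T hT
  refine ⟨t, ht, fun a ha => ?_⟩
  exact congrArg Subtype.val (hfix ⟨a, ha⟩)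

/-- A `p`-group `A` normalizing a `p'`-subgroup `N` and stabilizing the coset `g N` centralizes an
element of that coset. -/
theorem coset_fixed_elt [Finite G] {A N : Subgroup G} (p : ℕ) [Fact p.Prime] (hA : IsPGroup p A)
    (hAN : A ≤ Subgroup.normalizer (N : Set G)) (hN : (Nat.card N).Coprime p) (g : G)
    (hg : ∀ a ∈ A, g⁻¹ * (a * g * a⁻¹) ∈ N) :
    ∃ n ∈ N, ∀ a ∈ A, a * (g * n) * a⁻¹ = g * n := by
  have hinv : ∀ a ∈ A, ∀ t ∈ (fun n => g * n) '' (N : Set G),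
      a * t * a⁻¹ ∈ (fun n => g * n) '' (N : Set G) := by
    rintro a ha _ ⟨n, hn, rfl⟩
    refine ⟨(g⁻¹ * (a * g * a⁻¹)) * (a * n * a⁻¹), N.mul_mem (hg a ha) ?_, by group⟩
    exact (Subgroup.mem_normalizer_iff.mp (hAN ha) n).mp hn
  have hcard : Nat.card ((fun n => g * n) '' (N : Set G)) = Nat.card N :=
    Nat.card_image_of_injective (mul_right_injective g) _
  have hp : ¬ p ∣ Nat.card ((fun n => g * n) '' (N : Set G)) := by
    rw [hcard]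
    intro hdvd
    have h1 := Nat.Coprime.eq_one_of_dvd hN.symm hdvd
    exact (Fact.out : p.Prime).one_lt.ne' h1
  obtain ⟨_, ⟨n, hn, rfl⟩, hfix⟩ := exists_conj_fixed_elt p hA _ hinv hp
  exact ⟨n, hn, hfix⟩

/-- Coprime action: `K = C_K(A) [K, A]`. -/
theorem coprime_decomp [Finite G] {p : ℕ} [Fact p.Prime] {K A : Subgroup G}
    (hK : (Nat.card K).Coprime p) (hA : IsPGroup p A)
    (hAK : A ≤ Subgroup.normalizer (K : Set G)) {k : G} (hk : k ∈ K) :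
    ∃ n ∈ ⁅K, A⁆, k * n ∈ K ∧ k * n ∈ Subgroup.centralizer (A : Set G) := by
  have hNK : ⁅K, A⁆ ≤ K := Cfsg.Agent.Lib.Helper40.commutator_le_of_le_normalizer' hAK
  have hAN : A ≤ Subgroup.normalizer ((⁅K, A⁆ : Subgroup G) : Set G) :=
    Cfsg.Agent.Lib.Helper40.le_normalizer_commutator' hAK Subgroup.le_normalizer
  have hN : (Nat.card (⁅K, A⁆ : Subgroup G)).Coprime p :=
    Nat.Coprime.coprime_dvd_left (Subgroup.card_dvd_of_le hNK) hK
  obtain ⟨n, hn, hfix⟩ := coset_fixed_elt p hA hAN hN k (by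
    intro a ha
    have h1 : ⁅k⁻¹, a⁆ ∈ ⁅K, A⁆ := Subgroup.commutator_mem_commutator (K.inv_mem hk) ha
    have h2 : ⁅k⁻¹, a⁆ = k⁻¹ * (a * k * a⁻¹) := by rw [commutatorElement_def]; group
    rwa [h2] at h1)
  refine ⟨n, hn, K.mul_mem hk (hNK hn), ?_⟩
  rw [Subgroup.mem_centralizer_iff]
  intro a ha
  calc a * (k * n) = (a * (k * n) * a⁻¹) * a := by group
    _ = k * n * a := by rw [hfix a ha]

end Fixed

section Norm

variable {G : Type*} [Group G]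

/-- **Non-commuting `A × B` lemma, normalizing version** (any prime). Let the abelian `p`-group `A`
normalize the `p'`-group `K`, both normalizing the `p`-group `R`, and suppose `R` normalizes `A`
and `C_R(A) ≤ A`. Then `K` centralizes `R`. -/
theorem nc_AxB_norm [Finite G] {p : ℕ} [Fact p.Prime] {R K A : Subgroup G}
    (hR : IsPGroup p R) (hK : (Nat.card K).Coprime p) (hA : IsPGroup p A)
    (hAc : ∀ a ∈ A, ∀ b ∈ A, a * b = b * a)
    (hKR : K ≤ Subgroup.normalizer (R : Set G)) (hAR : A ≤ Subgroup.normalizer (R : Set G))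
    (hAK : A ≤ Subgroup.normalizer (K : Set G)) (hRA : R ≤ Subgroup.normalizer (A : Set G))
    (h : R ⊓ Subgroup.centralizer (A : Set G) ≤ A) :
    R ≤ Subgroup.centralizer (K : Set G) := by
  have nR := Subgroup.le_normalizer_iff.mp hKR
  have nAR := Subgroup.le_normalizer_iff.mp hAR
  have nAK := Subgroup.le_normalizer_iff.mp hAK
  have nRA := Subgroup.le_normalizer_iff.mp hRA
  -- F1 : commutators of `R` with `A` lie in `A ⊓ R`
  have F1 : ∀ r ∈ R, ∀ a ∈ A, ⁅r, a⁆ ∈ A ∧ ⁅r, a⁆ ∈ R := by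
    intro r hr a ha
    constructor
    · have : ⁅r, a⁆ = (r * a * r⁻¹) * a⁻¹ := by rw [commutatorElement_def]
      rw [this]
      exact A.mul_mem (nRA r hr a ha) (A.inv_mem ha)
    · have : ⁅r, a⁆ = r * (a * r⁻¹ * a⁻¹) := by rw [commutatorElement_def]; group
      rw [this]
      exact R.mul_mem hr (nAR a ha _ (R.inv_mem hr))
  -- F2 : `K` centralizes `A ⊓ R`
  have F2 : ∀ b ∈ A, b ∈ R → ∀ k ∈ K, k * b = b * k := by
    intro b hbA hbR k hk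
    have h1 : ⁅k, b⁆ ∈ K := by
      have : ⁅k, b⁆ = k * (b * k⁻¹ * b⁻¹) := by rw [commutatorElement_def]; group
      rw [this]
      exact K.mul_mem hk (nAK b hbA _ (K.inv_mem hk))
    have h2 : ⁅k, b⁆ ∈ R := by
      have : ⁅k, b⁆ = (k * b * k⁻¹) * b⁻¹ := by rw [commutatorElement_def]
      rw [this]
      exact R.mul_mem (nR k hk b hbR) (R.inv_mem hbR)
    have h3 := eq_one_of_mem_of_mem hR hK h2 h1
    exact (commutatorElement_eq_one_iff_commute.mp h3).eq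
  -- Step 1 : `[K, A]` centralizes `R`
  have S1 : ⁅K, A⁆ ≤ Subgroup.centralizer (R : Set G) := by
    rw [Subgroup.commutator_le]
    intro k hk a ha
    rw [Subgroup.mem_centralizer_iff]
    intro r hr
    have hu : ⁅k, a⁆ ∈ K := by
      have : ⁅k, a⁆ = k * (a * k⁻¹ * a⁻¹) := by rw [commutatorElement_def]; group
      rw [this]
      exact K.mul_mem hk (nAK a ha _ (K.inv_mem hk))
    have hr' : k⁻¹ * r * k ∈ R := by
      have := nR k⁻¹ (K.inv_mem hk) r hr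
      simpa using this
    obtain ⟨hb₁A, hb₁R⟩ := F1 _ hr' a ha
    obtain ⟨hb₂A, hb₂R⟩ := F1 r hr a⁻¹ (A.inv_mem ha)
    have e1 : k * ⁅k⁻¹ * r * k, a⁆ * k⁻¹ = ⁅k⁻¹ * r * k, a⁆ := by
      rw [F2 _ hb₁A hb₁R k hk]; group
    have e2 : (k * a * k⁻¹) * ⁅r, a⁻¹⁆ * (k * a * k⁻¹)⁻¹ = ⁅r, a⁻¹⁆ := by
      have h1 : k⁻¹ * ⁅r, a⁻¹⁆ = ⁅r, a⁻¹⁆ * k⁻¹ := F2 _ hb₂A hb₂R k⁻¹ (K.inv_mem hk)
      have h2 : a * ⁅r, a⁻¹⁆ = ⁅r, a⁻¹⁆ * a := hAc a ha _ hb₂A
      have h3 : k * ⁅r, a⁻¹⁆ = ⁅r, a⁻¹⁆ * k := F2 _ hb₂A hb₂R k hk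
      calc (k * a * k⁻¹) * ⁅r, a⁻¹⁆ * (k * a * k⁻¹)⁻¹
          = k * a * (k⁻¹ * ⁅r, a⁻¹⁆) * k * a⁻¹ * k⁻¹ := by group
        _ = k * a * (⁅r, a⁻¹⁆ * k⁻¹) * k * a⁻¹ * k⁻¹ := by rw [h1]
        _ = k * (a * ⁅r, a⁻¹⁆) * a⁻¹ * k⁻¹ := by group
        _ = k * (⁅r, a⁻¹⁆ * a) * a⁻¹ * k⁻¹ := by rw [h2]
        _ = (k * ⁅r, a⁻¹⁆) * k⁻¹ := by group
        _ = (⁅r, a⁻¹⁆ * k) * k⁻¹ := by rw [h3]
        _ = ⁅r, a⁻¹⁆ := by group
    have e3 : ⁅r, ⁅k, a⁆⁆ = (k * ⁅k⁻¹ * r * k, a⁆ * k⁻¹) *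
        ((k * a * k⁻¹) * ⁅r, a⁻¹⁆ * (k * a * k⁻¹)⁻¹) := by
      simp only [commutatorElement_def]; group
    rw [e1, e2] at e3
    have hcA : ⁅r, ⁅k, a⁆⁆ ∈ A := e3 ▸ A.mul_mem hb₁A hb₂A
    have hcR : ⁅r, ⁅k, a⁆⁆ ∈ R := e3 ▸ R.mul_mem hb₁R hb₂R
    have hcu : ⁅r, ⁅k, a⁆⁆ * ⁅k, a⁆ = ⁅k, a⁆ * ⁅r, ⁅k, a⁆⁆ := (F2 _ hcA hcR _ hu).symm
    obtain ⟨j, hj⟩ := hR ⟨_, hcR⟩
    have hcj : ⁅r, ⁅k, a⁆⁆ ^ p ^ j = 1 := by
      have h2 : (((⟨_, hcR⟩ : ↥R) ^ p ^ j : ↥R) : G) = 1 := by rw [hj]; rfl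
      simpa only [Subgroup.coe_pow] using h2
    have hc1 := Cfsg.Agent.Lib.Helper40.commutator_eq_one_of_coprime r ⁅k, a⁆ j hcu hcj
      (Cfsg.Agent.Lib.Helper40.orderOf_coprime_of_mem hK hu)
    exact (commutatorElement_eq_one_iff_commute.mp hc1).eq
  -- Step 2 : `C_K(A)` centralizes `R` (Thompson `A × B`)
  have S2 : ∀ u ∈ R, ∀ w ∈ K ⊓ Subgroup.centralizer (A : Set G), w * u = u * w := by
    refine Cfsg.Agent.Lib.Helper40.thompson_AxB (K ⊓ Subgroup.centralizer (A : Set G)) A hA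
      (Nat.Coprime.coprime_dvd_left (Subgroup.card_dvd_of_le inf_le_left) hK) ?_ _ R rfl hR
      (inf_le_left.trans hKR) hAR ?_
    · intro w hw y hy
      exact (Subgroup.mem_centralizer_iff.mp hw.2 y hy).symm
    · intro u hu hfix w hw
      have huA : u ∈ A := h ⟨hu, Subgroup.mem_centralizer_iff.mpr hfix⟩
      exact F2 u huA hu w hw.1
  -- Step 3
  intro r hr
  rw [Subgroup.mem_centralizer_iff]
  intro k hk
  obtain ⟨n, hn, hknK, hknA⟩ := coprime_decomp hK hA hAK hk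
  have h1 : r * n = n * r := Subgroup.mem_centralizer_iff.mp (S1 hn) r hr
  have h2 : (k * n) * r = r * (k * n) := S2 r hr (k * n) ⟨hknK, hknA⟩
  calc k * r = k * (r * n) * n⁻¹ := by group
    _ = (k * n * r) * n⁻¹ := by rw [h1]; group
    _ = r * (k * n) * n⁻¹ := by rw [h2]
    _ = r * k := by group

end Norm

end Cfsg.Agent.Lib.Helper32
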