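import Cfsg.Prelude.Def_Local
import Cfsg.Agent.Lib.Helper30.Cores
import Cfsg.Agent.Lib.Helper32.NcAxB2

set_option autoImplicit false
open Cfsg
open scoped commutatorElement

namespace Cfsg.Agent.Lib.Helper32

section Lift

variable {H : Type*} [Group H]

theorem card_map_of_inj_on {H' : Type*} [Group H'] (f : H →* H') (S : Subgroup H)
    (h : ∀ x ∈ S, f x = 1 → x = 1) : Nat.card (S.map f) = Nat.card S := by
  symm
  refine Nat.card_congr (Equiv.ofBijective
    (fun s : S => (⟨f s, Subgroup.mem_map_of_mem f s.2⟩ : S.map f)) ⟨?_, ?_⟩)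
  · intro s s' hss'
    have h1 : f (s : H) = f (s' : H) := congrArg Subtype.val hss'
    have h2 : f ((s : H)⁻¹ * (s' : H)) = 1 := by rw [map_mul, map_inv, h1, inv_mul_cancel]
    have h3 := h _ (S.mul_mem (S.inv_mem s.2) s'.2) h2
    apply Subtype.ext
    calc (s : H) = (s : H) * ((s : H)⁻¹ * (s' : H)) := by rw [h3, mul_one]
      _ = s' := by group
  · rintro ⟨_, ⟨x, hx, rfl⟩⟩
    exact ⟨⟨x, hx⟩, rfl⟩

theorem exists_pow_eq_one_of_mem {p : ℕ} {R : Subgroup H} (hR : IsPGroup p R) {c : H} (hc : c ∈ R) :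
    ∃ j : ℕ, c ^ p ^ j = 1 := by
  obtain ⟨j, hj⟩ := hR ⟨c, hc⟩
  refine ⟨j, ?_⟩
  have h2 : (((⟨c, hc⟩ : ↥R) ^ p ^ j : ↥R) : H) = 1 := by rw [hj]; rfl
  simpa only [Subgroup.coe_pow] using h2

variable [Finite H] {p : ℕ} [Fact p.Prime]

/-- A coset of a normal `p'`-subgroup `N` fixed by the `p`-group `A` contains an element
centralizing `A`. -/
theorem exists_lift_centralizing {A : Subgroup H} (hA : IsPGroup p A) (N : Subgroup H)
    [hn : N.Normal] (hN : (Nat.card N).Coprime p) {x : H}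
    (hx : ∀ a ∈ A, x⁻¹ * (a * x * a⁻¹) ∈ N) :
    ∃ n ∈ N, x * n ∈ Subgroup.centralizer (A : Set H) := by
  have hAN : A ≤ Subgroup.normalizer (N : Set H) := by
    rw [Subgroup.normalizer_eq_top_iff.mpr hn]; exact le_top
  obtain ⟨n, hn', hfix⟩ := coset_fixed_elt p hA hAN hN x hx
  refine ⟨n, hn', ?_⟩
  rw [Subgroup.mem_centralizer_iff]
  intro a ha
  calc a * (x * n) = (a * (x * n) * a⁻¹) * a := by group
    _ = x * n * a := by rw [hfix a ha]

/-- For a normal `p'`-subgroup `N` and a `p`-subgroup `A` containing every `p`-element of its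
centralizer, the image of `A` in `H ⧸ N` contains every `p`-element of its centralizer. -/
theorem mem_map_of_mem_centralizer_map {A : Subgroup H} (hA : IsPGroup p A) (N : Subgroup H)
    [hn : N.Normal] (hN : (Nat.card N).Coprime p)
    (hfull : ∀ x ∈ Subgroup.centralizer (A : Set H), (∃ j : ℕ, x ^ p ^ j = 1) → x ∈ A)
    {y : H ⧸ N}
    (hy : y ∈ Subgroup.centralizer ((A.map (QuotientGroup.mk' N) : Subgroup (H ⧸ N)) : Set (H ⧸ N)))
    (hyp : ∃ j : ℕ, y ^ p ^ j = 1) : y ∈ A.map (QuotientGroup.mk' N) := by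
  have hp := (Fact.out : p.Prime)
  obtain ⟨x, rfl⟩ := QuotientGroup.mk'_surjective N y
  obtain ⟨j, hj⟩ := hyp
  have hmk1 : ∀ g : H, QuotientGroup.mk' N g = 1 ↔ g ∈ N := fun g => QuotientGroup.eq_one_iff g
  have hx : ∀ a ∈ A, x⁻¹ * (a * x * a⁻¹) ∈ N := by
    intro a ha
    rw [← hmk1]
    have h1 := Subgroup.mem_centralizer_iff.mp hy _ (Subgroup.mem_map_of_mem (QuotientGroup.mk' N) ha)
    simp only [map_mul, map_inv]
    rw [h1]
    group
  obtain ⟨n, hn', hxn⟩ := exists_lift_centralizing hA N hN hx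
  have hmk : QuotientGroup.mk' N (x * n) = QuotientGroup.mk' N x := by
    rw [map_mul, (hmk1 n).mpr hn', mul_one]
  have hpowN : (x * n) ^ p ^ j ∈ N := by
    rw [← hmk1, map_pow, hmk]
    exact hj
  by_cases hj0 : j = 0
  · subst hj0
    rw [pow_zero, pow_one] at hj
    rw [hj]
    exact Subgroup.one_mem _
  have hpj : 1 < p ^ j := Nat.one_lt_pow hj0 hp.one_lt
  obtain ⟨v, -, hv⟩ := Nat.exists_mul_mod_eq_one_of_coprime (Nat.Coprime.pow_right j hN) hpj
  have hmem : (x * n) ^ (Nat.card N * v) ∈ A := by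
    apply hfull
    · exact Subgroup.pow_mem _ hxn _
    · refine ⟨j, ?_⟩
      rw [← pow_mul, mul_comm, pow_mul, pow_mul, pow_card_eq_one_of_mem'' N hpowN, one_pow]
  have himg : QuotientGroup.mk' N ((x * n) ^ (Nat.card N * v)) = QuotientGroup.mk' N x := by
    rw [map_pow, hmk, ← Nat.div_add_mod (Nat.card N * v) (p ^ j), hv, pow_add, pow_mul, hj, one_pow,
      one_mul, pow_one]
  rw [← himg]
  exact Subgroup.mem_map_of_mem _ hmem

/-- A Sylow `p`-subgroup of the preimage of a `p`-subgroup `Q` of `H ⧸ N` (`N` a normal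
`p'`-subgroup) maps onto `Q`. -/
theorem map_sylow_comap (N : Subgroup H) [hn : N.Normal] (hN : (Nat.card N).Coprime p)
    {Q : Subgroup (H ⧸ N)} (hQ : IsPGroup p Q) (S : Sylow p ↥(Q.comap (QuotientGroup.mk' N))) :
    ((S : Subgroup ↥(Q.comap (QuotientGroup.mk' N))).map
      (Q.comap (QuotientGroup.mk' N)).subtype).map (QuotientGroup.mk' N) = Q := by
  have hp := (Fact.out : p.Prime)
  obtain ⟨S', hS'⟩ : ∃ S' : Subgroup H, S' = (S : Subgroup ↥(Q.comap (QuotientGroup.mk' N))).map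
      (Q.comap (QuotientGroup.mk' N)).subtype := ⟨_, rfl⟩
  rw [← hS']
  have hS'p : IsPGroup p S' := hS' ▸ S.2.map _
  have hle : S'.map (QuotientGroup.mk' N) ≤ Q := by
    rw [Subgroup.map_le_iff_le_comap, hS']
    rintro _ ⟨y, -, rfl⟩
    exact y.2
  obtain ⟨i, hi⟩ := IsPGroup.iff_card.mp hQ
  have hNp : ¬ p ∣ Nat.card N := by
    intro hdvd
    exact hp.one_lt.ne' (Nat.Coprime.eq_one_of_dvd hN.symm hdvd)
  have hcardS : Nat.card S' = p ^ i := by
    rw [hS', Cfsg.Agent.Lib.Helper30.card_map_subtype, S.card_eq_multiplicity,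
      Cfsg.Agent.Lib.Helper30.card_comap_mk', hi,
      Nat.factorization_mul Nat.card_pos.ne' (pow_ne_zero _ hp.ne_zero), Finsupp.add_apply,
      Nat.factorization_eq_zero_of_not_dvd hNp, hp.factorization_pow, Finsupp.single_eq_same,
      zero_add]
  have hcard : Nat.card (S'.map (QuotientGroup.mk' N)) = Nat.card S' := by
    apply card_map_of_inj_on
    intro x hx hx1
    have hxN : x ∈ N := (QuotientGroup.eq_one_iff x).mp hx1
    exact eq_one_of_mem_of_mem hS'p hN hx hxN
  exact Subgroup.eq_of_le_of_card_ge hle (by rw [hcard, hcardS, hi])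

end Lift

section LemmaX

variable {H : Type*} [Group H] [Finite H] {p : ℕ} [Fact p.Prime]

/-- Abstract form: `N` a normal `p'`-subgroup of `H`, `Rb` a normal `p`-subgroup of `H ⧸ N` that
contains its centralizer; `A` a `p`-subgroup of `H` containing every `p`-element of its
centralizer. Then (for `p` odd, or when every `p`-subgroup containing the abelian `A` normalizes
it) every `A`-invariant `p'`-subgroup of `H` lies in `N`. -/
theorem inv_le_of_quot (N : Subgroup H) [hn : N.Normal] (hN : (Nat.card N).Coprime p)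
    (Rb : Subgroup (H ⧸ N)) [hRn : Rb.Normal] (hRb : IsPGroup p Rb)
    (hcon : Subgroup.centralizer (Rb : Set (H ⧸ N)) ≤ Rb)
    {A K : Subgroup H} (hA : IsPGroup p A)
    (hfull : ∀ x ∈ Subgroup.centralizer (A : Set H), (∃ j : ℕ, x ^ p ^ j = 1) → x ∈ A)
    (hK : (Nat.card K).Coprime p) (hAK : A ≤ Subgroup.normalizer (K : Set H))
    (hcase : p ≠ 2 ∨ ((∀ a ∈ A, ∀ b ∈ A, a * b = b * a) ∧
      ∀ S : Subgroup H, IsPGroup p S → A ≤ S → S ≤ Subgroup.normalizer (A : Set H))) :
    K ≤ N := by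
  have hAb : IsPGroup p (A.map (QuotientGroup.mk' N)) := hA.map _
  have hKb : (Nat.card (K.map (QuotientGroup.mk' N))).Coprime p :=
    Nat.Coprime.coprime_dvd_left (Subgroup.card_map_dvd K _) hK
  have hAKb : A.map (QuotientGroup.mk' N) ≤
      Subgroup.normalizer ((K.map (QuotientGroup.mk' N) : Subgroup (H ⧸ N)) : Set (H ⧸ N)) :=
    (Subgroup.map_mono hAK).trans (Subgroup.le_normalizer_map _)
  have hnormR : ∀ X : Subgroup (H ⧸ N), X ≤ Subgroup.normalizer (Rb : Set (H ⧸ N)) := by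
    intro X
    rw [Subgroup.normalizer_eq_top_iff.mpr hRn]
    exact le_top
  have hfullb : Rb ⊓ Subgroup.centralizer ((A.map (QuotientGroup.mk' N) : Subgroup (H ⧸ N)) :
      Set (H ⧸ N)) ≤ A.map (QuotientGroup.mk' N) := by
    intro y hy
    exact mem_map_of_mem_centralizer_map hA N hN hfull hy.2 (exists_pow_eq_one_of_mem hRb hy.1)
  have hcen : Rb ≤ Subgroup.centralizer ((K.map (QuotientGroup.mk' N) : Subgroup (H ⧸ N)) :
      Set (H ⧸ N)) := by
    rcases hcase with hp2 | ⟨hAc, hnorm⟩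
    · apply nc_AxB_odd hp2 hRb hKb hAb (hnormR _) (hnormR _) hAKb
      intro y hy
      have hyA := hfullb hy
      rw [Subgroup.mem_centralizer_iff]
      intro k hk
      have h1 : ⁅k, y⁆ ∈ K.map (QuotientGroup.mk' N) := by
        have : ⁅k, y⁆ = k * (y * k⁻¹ * y⁻¹) := by rw [commutatorElement_def]; group
        rw [this]
        exact Subgroup.mul_mem _ hk
          ((Subgroup.le_normalizer_iff.mp hAKb) y hyA _ (Subgroup.inv_mem _ hk))
      have h2 : ⁅k, y⁆ ∈ Rb := by
        have : ⁅k, y⁆ = (k * y * k⁻¹) * y⁻¹ := by rw [commutatorElement_def]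
        rw [this]
        exact Rb.mul_mem (hRn.conj_mem y hy.1 k) (Rb.inv_mem hy.1)
      exact (commutatorElement_eq_one_iff_commute.mp (eq_one_of_mem_of_mem hRb hKb h2 h1)).eq
    · have hAcb : ∀ a ∈ A.map (QuotientGroup.mk' N), ∀ b ∈ A.map (QuotientGroup.mk' N),
          a * b = b * a := by
        rintro _ ⟨a, ha, rfl⟩ _ ⟨b, hb, rfl⟩
        rw [← map_mul, ← map_mul, hAc a ha b hb]
      have hRA : Rb ≤ Subgroup.normalizer ((A.map (QuotientGroup.mk' N) : Subgroup (H ⧸ N)) :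
          Set (H ⧸ N)) := by
        have hQ : IsPGroup p (Rb ⊔ A.map (QuotientGroup.mk' N) : Subgroup (H ⧸ N)) :=
          IsPGroup.to_sup_of_normal_left' hRb hAb (hnormR _)
        have hAL : A ≤ (Rb ⊔ A.map (QuotientGroup.mk' N)).comap (QuotientGroup.mk' N) :=
          fun a ha => Subgroup.mem_comap.mpr
            (Subgroup.mem_sup_right (Subgroup.mem_map_of_mem _ ha))
        obtain ⟨S, hS⟩ := (hA.comap_subtype
          (K := (Rb ⊔ A.map (QuotientGroup.mk' N)).comap (QuotientGroup.mk' N))).exists_le_sylow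
        have hmap := map_sylow_comap N hN hQ S
        have hAS' : A ≤ (S : Subgroup _).map
            ((Rb ⊔ A.map (QuotientGroup.mk' N)).comap (QuotientGroup.mk' N)).subtype :=
          fun a ha => ⟨⟨a, hAL ha⟩, hS (Subgroup.mem_comap.mpr ha), rfl⟩
        have hS'N := hnorm _ (S.2.map _) hAS'
        calc Rb ≤ Rb ⊔ A.map (QuotientGroup.mk' N) := le_sup_left
          _ = _ := hmap.symm
          _ ≤ (Subgroup.normalizer (A : Set H)).map (QuotientGroup.mk' N) := Subgroup.map_mono hS'N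
          _ ≤ _ := Subgroup.le_normalizer_map _
      exact nc_AxB_norm hRb hKb hAb hAcb (hnormR _) (hnormR _) hAKb hRA hfullb
  have hKR : K.map (QuotientGroup.mk' N) ≤ Rb := (Subgroup.le_centralizer_iff.mp hcen).trans hcon
  have hKbot : K.map (QuotientGroup.mk' N) = ⊥ := by
    rw [eq_bot_iff]
    intro k hk
    rw [Subgroup.mem_bot]
    exact eq_one_of_mem_of_mem hRb hKb (hKR hk) hk
  have := (Subgroup.map_eq_bot_iff _).mp hKbot
  rwa [QuotientGroup.ker_mk'] at this

/-- `p`-constraint in the quotient by `O_{p'}`: `C(O_p(H / O_{p'}(H))) ≤ O_p(H / O_{p'}(H))`. -/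
theorem centralizer_pCore_quot_le (hc : IsPConstrained p H) :
    Subgroup.centralizer ((pCore p (H ⧸ pPrimeCore p H) : Subgroup (H ⧸ pPrimeCore p H)) :
      Set (H ⧸ pPrimeCore p H)) ≤ pCore p (H ⧸ pPrimeCore p H) := by
  have hN : (Nat.card (pPrimeCore p H)).Coprime p := Cfsg.Agent.Lib.Helper30.pPrimeCore_coprime p
  have hQ : IsPGroup p (pCore p (H ⧸ pPrimeCore p H)) := Cfsg.Agent.Lib.Helper30.pCore_isPGroup p
  obtain ⟨S⟩ : Nonempty (Sylow p ↥((pCore p (H ⧸ pPrimeCore p H)).comap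
      (QuotientGroup.mk' (pPrimeCore p H)))) := inferInstance
  have hS := map_sylow_comap (pPrimeCore p H) hN hQ S
  have hcS : Subgroup.centralizer (((S : Subgroup _).map
      ((pCore p (H ⧸ pPrimeCore p H)).comap (QuotientGroup.mk' (pPrimeCore p H))).subtype :
        Subgroup H) : Set H) ≤
      (pCore p (H ⧸ pPrimeCore p H)).comap (QuotientGroup.mk' (pPrimeCore p H)) := hc S
  have hmk1 : ∀ g : H, QuotientGroup.mk' (pPrimeCore p H) g = 1 ↔ g ∈ pPrimeCore p H :=
    fun g => QuotientGroup.eq_one_iff g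
  intro y hy
  obtain ⟨x, rfl⟩ := QuotientGroup.mk'_surjective _ y
  have hS'p : IsPGroup p ((S : Subgroup _).map
      ((pCore p (H ⧸ pPrimeCore p H)).comap (QuotientGroup.mk' (pPrimeCore p H))).subtype :
        Subgroup H) := S.2.map _
  have hx : ∀ b ∈ ((S : Subgroup _).map
      ((pCore p (H ⧸ pPrimeCore p H)).comap (QuotientGroup.mk' (pPrimeCore p H))).subtype :
        Subgroup H), x⁻¹ * (b * x * b⁻¹) ∈ pPrimeCore p H := by
    intro b hb
    rw [← hmk1]
    have hbQ : QuotientGroup.mk' (pPrimeCore p H) b ∈ pCore p (H ⧸ pPrimeCore p H) := by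
      rw [← hS]
      exact Subgroup.mem_map_of_mem _ hb
    have h1 := Subgroup.mem_centralizer_iff.mp hy _ hbQ
    simp only [map_mul, map_inv]
    rw [h1]
    group
  obtain ⟨n, hn, hxn⟩ := exists_lift_centralizing hS'p (pPrimeCore p H) hN hx
  have h2 := hcS hxn
  rw [Subgroup.mem_comap, map_mul, (hmk1 n).mpr hn, mul_one] at h2
  exact h2

/-- **Lemma X.** In a `p`-constrained group `H`, let `A` be a `p`-subgroup containing every
`p`-element of `C_H(A)`. If `p` is odd, or if `A` is abelian and normalized by every `p`-subgroup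
containing it, then every `A`-invariant `p'`-subgroup of `H` lies in `O_{p'}(H)`. -/
theorem inv_le_pPrimeCore (hc : IsPConstrained p H) {A K : Subgroup H} (hA : IsPGroup p A)
    (hfull : ∀ x ∈ Subgroup.centralizer (A : Set H), (∃ j : ℕ, x ^ p ^ j = 1) → x ∈ A)
    (hK : (Nat.card K).Coprime p) (hAK : A ≤ Subgroup.normalizer (K : Set H))
    (hcase : p ≠ 2 ∨ ((∀ a ∈ A, ∀ b ∈ A, a * b = b * a) ∧
      ∀ S : Subgroup H, IsPGroup p S → A ≤ S → S ≤ Subgroup.normalizer (A : Set H))) :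
    K ≤ pPrimeCore p H :=
  inv_le_of_quot (pPrimeCore p H) (Cfsg.Agent.Lib.Helper30.pPrimeCore_coprime p)
    (pCore p (H ⧸ pPrimeCore p H)) (Cfsg.Agent.Lib.Helper30.pCore_isPGroup p)
    (centralizer_pCore_quot_le hc) hA hfull hK hAK hcase

end LemmaX

end Cfsg.Agent.Lib.Helper32
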