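import Mathlib
import Cfsg.Prelude.Def_GeometricClasses
import Cfsg.Prelude.Def_LieClassical
import Cfsg.Agent.Lib.Helper71.Asch5
import Cfsg.Agent.Lib.Helper82.ASB8UNITS
import Cfsg.Agent.Lib.Helper44.BADDefs

/-! Project BAD (helper44; sub-project of helper49's SUG = S5663), piece `SWP` (helper32):
the swap of the two tensor factors is an isometry and intertwines `tmat a b` with `tmat b a`. -/

set_option autoImplicit false

namespace Cfsg.Agent.Lib.Helper44.BAD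

open Matrix Cfsg.Geo Cfsg.Agent.Lib.Helper71.Asch
open scoped Kronecker

variable {n : ℕ} {F : Type*} [Field F] [Fintype F] {q : ℕ}

/-- the swap matrix on `Fin 3 × Fin 3` -/
def SWP_W (F : Type*) [Field F] : Matrix (Fin 3 × Fin 3) (Fin 3 × Fin 3) F :=
  Matrix.of fun x y => if y = x.swap then 1 else 0

omit [Fintype F] in
theorem SWP_W_mul (M : Matrix (Fin 3 × Fin 3) (Fin 3 × Fin 3) F) (p r : Fin 3 × Fin 3) :
    (SWP_W F * M) p r = M p.swap r := by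
  rw [Matrix.mul_apply, Finset.sum_eq_single p.swap]
  · simp [SWP_W]
  · intro y _ hy
    simp [SWP_W, hy]
  · intro h
    exact absurd (Finset.mem_univ _) h

omit [Fintype F] in
theorem SWP_mul_W (M : Matrix (Fin 3 × Fin 3) (Fin 3 × Fin 3) F) (p r : Fin 3 × Fin 3) :
    (M * SWP_W F) p r = M p r.swap := by
  rw [Matrix.mul_apply, Finset.sum_eq_single r.swap]
  · simp [SWP_W]
  · intro y _ hy
    have hne : r ≠ y.swap := by
      intro h
      apply hy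
      rw [h, Prod.swap_swap]
    simp [SWP_W, hne]
  · intro h
    exact absurd (Finset.mem_univ _) h

omit [Fintype F] in
theorem SWP_W_sq : SWP_W F * SWP_W F = 1 := by
  ext p r
  rw [SWP_W_mul, Matrix.one_apply]
  simp only [SWP_W, Matrix.of_apply, Prod.swap_swap]
  by_cases h : p = r
  · subst h
    simp
  · rw [if_neg h, if_neg (fun h' => h h'.symm)]

omit [Fintype F] in
theorem SWP_W_kron (a b : Matrix (Fin 3) (Fin 3) F) :
    SWP_W F * (a ⊗ₖ b) = (b ⊗ₖ a) * SWP_W F := by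
  ext p r
  rw [SWP_W_mul, SWP_mul_W]
  obtain ⟨p1, p2⟩ := p
  obtain ⟨r1, r2⟩ := r
  simp only [Matrix.kroneckerMap_apply, Prod.swap_prod_mk]
  exact mul_comm _ _

omit [Fintype F] in
theorem SWP_W_mulVec (x : Fin 3 × Fin 3 → F) (p : Fin 3 × Fin 3) :
    (SWP_W F *ᵥ x) p = x p.swap := by
  show ∑ y, SWP_W F p y * x y = x p.swap
  rw [Finset.sum_eq_single p.swap]
  · simp [SWP_W]
  · intro y _ hy
    simp [SWP_W, hy]
  · intro h
    exact absurd (Finset.mem_univ _) h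

/-- SWP: the swap of the two tensor factors is an isometry. -/
theorem SWP (hF : Fintype.card F = q ^ 2) (e : Fin n ≃ Fin 3 × Fin 3) (P' : GL (Fin n) F) (c : F)
    (hc : c ≠ 0) (hstd : StdF q e P' c) :
    ∃ s : GL (Fin n) F, s ∈ Cfsg.GU n F q ∧
      ∀ a b : Matrix (Fin 3) (Fin 3) F, s.1 * tmat e P' a b = tmat e P' b a * s.1 := by
  classical
  have hPi : (P'⁻¹ : GL (Fin n) F).1 * P'.1 = 1 := by
    rw [← Units.val_mul, inv_mul_cancel, Units.val_one]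
  have hPi' : P'.1 * (P'⁻¹ : GL (Fin n) F).1 = 1 := by
    rw [← Units.val_mul, mul_inv_cancel, Units.val_one]
  have hconj : ∀ X Y : Matrix (Fin n) (Fin n) F,
      (P'.1 * X * (P'⁻¹ : GL (Fin n) F).1) * (P'.1 * Y * (P'⁻¹ : GL (Fin n) F).1) =
        P'.1 * (X * Y) * (P'⁻¹ : GL (Fin n) F).1 := by
    intro X Y
    calc (P'.1 * X * (P'⁻¹ : GL (Fin n) F).1) * (P'.1 * Y * (P'⁻¹ : GL (Fin n) F).1)
        = P'.1 * X * ((P'⁻¹ : GL (Fin n) F).1 * P'.1) * Y * (P'⁻¹ : GL (Fin n) F).1 := by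
          simp only [Matrix.mul_assoc]
      _ = P'.1 * (X * Y) * (P'⁻¹ : GL (Fin n) F).1 := by
          rw [hPi, Matrix.mul_one, Matrix.mul_assoc P'.1]
  obtain ⟨R, hR⟩ : ∃ R : Matrix (Fin n) (Fin n) F, R = (SWP_W F).submatrix e e := ⟨_, rfl⟩
  have hRR : R * R = 1 := by
    rw [hR, Matrix.submatrix_mul_equiv, SWP_W_sq, Matrix.submatrix_one_equiv]
  obtain ⟨S, hS⟩ : ∃ S : Matrix (Fin n) (Fin n) F, S = P'.1 * R * (P'⁻¹ : GL (Fin n) F).1 :=
    ⟨_, rfl⟩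
  have hSS : S * S = 1 := by
    rw [hS, hconj, hRR, Matrix.mul_one, hPi']
  refine ⟨⟨S, S, hSS, hSS⟩, ?_, ?_⟩
  · -- isometry
    show ∀ u v : Fin n → F, Cfsg.hermForm n F q (S *ᵥ u) (S *ᵥ v) = Cfsg.hermForm n F q u v
    intro u v
    have key : ∀ u : Fin n → F, S *ᵥ u =
        P'.1 *ᵥ ((SWP_W F *ᵥ (((P'⁻¹ : GL (Fin n) F).1 *ᵥ u) ∘ e.symm)) ∘ e) := by
      intro u
      rw [hS, hR, ← Matrix.mulVec_mulVec, ← Matrix.mulVec_mulVec, Matrix.submatrix_mulVec_equiv]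
    have hu : ∀ u : Fin n → F,
        P'.1 *ᵥ ((((P'⁻¹ : GL (Fin n) F).1 *ᵥ u) ∘ e.symm) ∘ e) = u := by
      intro u
      have h1 : (((P'⁻¹ : GL (Fin n) F).1 *ᵥ u) ∘ e.symm) ∘ e = (P'⁻¹ : GL (Fin n) F).1 *ᵥ u := by
        funext i
        simp
      rw [h1, Matrix.mulVec_mulVec, hPi', Matrix.one_mulVec]
    obtain ⟨X, hX⟩ : ∃ X : Fin 3 × Fin 3 → F, X = ((P'⁻¹ : GL (Fin n) F).1 *ᵥ u) ∘ e.symm :=
      ⟨_, rfl⟩
    obtain ⟨Y, hY⟩ : ∃ Y : Fin 3 × Fin 3 → F, Y = ((P'⁻¹ : GL (Fin n) F).1 *ᵥ v) ∘ e.symm :=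
      ⟨_, rfl⟩
    have hu' : P'.1 *ᵥ (X ∘ e) = u := by rw [hX]; exact hu u
    have hv' : P'.1 *ᵥ (Y ∘ e) = v := by rw [hY]; exact hu v
    have ku : S *ᵥ u = P'.1 *ᵥ ((SWP_W F *ᵥ X) ∘ e) := by rw [hX]; exact key u
    have kv : S *ᵥ v = P'.1 *ᵥ ((SWP_W F *ᵥ Y) ∘ e) := by rw [hY]; exact key v
    have e1 := hstd (SWP_W F *ᵥ X) (SWP_W F *ᵥ Y)
    have e2 := hstd X Y
    rw [hu', hv'] at e2
    rw [ku, kv, e1, e2]
    congr 1
    refine (Finset.sum_congr rfl fun p _ => ?_).trans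
      (Equiv.sum_comp (Equiv.prodComm (Fin 3) (Fin 3)) (fun a => X a * (Y a) ^ q))
    rw [SWP_W_mulVec, SWP_W_mulVec]
    rfl
  · intro a b
    show S * (P'.1 * (a ⊗ₖ b).submatrix e e * (P'⁻¹ : GL (Fin n) F).1) =
      (P'.1 * (b ⊗ₖ a).submatrix e e * (P'⁻¹ : GL (Fin n) F).1) * S
    rw [hS, hconj, hconj, hR, Matrix.submatrix_mul_equiv, Matrix.submatrix_mul_equiv, SWP_W_kron]

end Cfsg.Agent.Lib.Helper44.BAD
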