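import Cfsg.Agent.Lib.Helper32.BG12XDefs
import Cfsg.Agent.Lib.Helper32.BG12XSylG

/-!
# BGX piece NOT-BETA (rows S1421 / S1359 / S1360, helper32's job board)

Notation: `R : Rows G` bundles the earlier rows (R.h5 = B&G 10.5, R.h8 = 10.8, R.h12 = 10.9,
R.h14 = 10.11 (S1414), R.h16, R.h17 = 12.5 (S1417), R.h18 = 12.6 (S1418), R.h19 = 12.7 (S1419),
R.h20 = 12.10 (S1420), R.h27 = 13.3(a)); `c : Ctx7 M E p A` = (hM : IsCoatom M,
hE : IsComplIn E (sigmaCore M) M, hp : p ∈ tau2 M, hAE : A ≤ E, hA : IsElementaryAbelian p A,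
hA2 : Nat.card A = p ^ 2).  Kit: Cfsg.Agent.Lib.Helper32.BG12.* (pgroup_le_sigmaCore,
mem_sigma_of_dvd_sigmaCore, alpha_sub_sigma, card_of_isComplIn, ...), Helper3.BG13T.*
(exists_compl_ge, exists_tau2_elemAb, coprime_of_sigma, ...), `minSimple_solvable`,
`minSimple_odd_sub`, `ut_of`.

You may use `sylow_of_G` (imported placeholder): `S` is a maximal `p`-subgroup of `G`.

Proof.  `p ∈ β(L)` would give `p ∈ α(L)`, i.e. `¬ PRankLE p 2 L`: an abelian subgroup `B ≤ L` of
exponent `p` with `|B| > p ^ 2`.  `B` lies in a Sylow `p`-subgroup of `G`, which is conjugate to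
`S` (`S` is Sylow in `G` by sylow_of_G), so a conjugate of `B` lies in `S ≤ E ≤ M`,
contradicting `PRankLE p 2 M` (from `cs.c.hp : p ∈ tau2 M`).
-/

set_option autoImplicit false

open Cfsg Cfsg.Agent.Lib.Helper32 Cfsg.Agent.Lib.Helper32.BG10 Cfsg.Agent.Lib.Helper3.BG12
  Cfsg.Agent.Lib.Helper15.BG12

namespace Cfsg.Agent.Lib.Helper32.BG12X

universe u

variable {G : Type u} [Group G] [Finite G]

theorem not_beta (hG : IsMinSimpleOddOrder G) (R : Rows G) {M E A S : Subgroup G} {p : ℕ}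
    [Fact p.Prime] (cs : CtxS M E p A S) (L : Subgroup G) : p ∉ beta L := by
  intro hβ
  have hα : ¬ PRankLE p 2 L := hβ.1.2
  have hM2 : PRankLE p 2 M := cs.c.hp.2.2.1
  apply hα
  intro B hBc hBp
  -- the image of `B` in `G`
  have hB'p : IsPGroup p (B.map L.subtype) := by
    rintro ⟨x, hx⟩
    obtain ⟨b, hb, rfl⟩ := hx
    refine ⟨1, ?_⟩
    apply Subtype.ext
    have h1 := hBp b hb
    have h2 : ((b ^ p : L) : G) = 1 := by rw [h1]; rfl
    simpa using h2
  obtain ⟨Q, hQ⟩ := hB'p.exists_le_sylow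
  obtain ⟨S', hS'⟩ := cs.hSp.exists_le_sylow
  have hSS' : (S' : Subgroup G) = S := sylow_of_G hG R cs (S' : Subgroup G) S'.2 hS'
  obtain ⟨g, hg⟩ := MulAction.exists_smul_eq G Q S'
  have hconj : ∀ x ∈ B.map L.subtype, g * x * g⁻¹ ∈ S := by
    intro x hx
    rw [← hSS', ← hg]
    have h1 : x ∈ (Q : Subgroup G) := hQ hx
    rw [Sylow.smul_def, Sylow.pointwise_smul_def]
    exact Subgroup.smul_mem_pointwise_smul x (MulAut.conj g) (Q : Subgroup G) h1
  have hle : (B.map L.subtype).map (MulAut.conj g).toMonoidHom ≤ M := by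
    rintro _ ⟨x, hx, rfl⟩
    exact cs.c.hE.1 (cs.hSE (hconj x hx))
  have hCc : IsMulCommutative
      ↥(((B.map L.subtype).map (MulAut.conj g).toMonoidHom).subgroupOf M) := by
    refine ⟨⟨fun a b => ?_⟩⟩
    obtain ⟨x, hx, hxa⟩ := Subgroup.mem_subgroupOf.1 a.2
    obtain ⟨y, hy, hyb⟩ := Subgroup.mem_subgroupOf.1 b.2
    obtain ⟨x0, hx0, rfl⟩ := hx
    obtain ⟨y0, hy0, rfl⟩ := hy
    have hxy : x0 * y0 = y0 * x0 := by
      have := hBc.is_comm.comm ⟨x0, hx0⟩ ⟨y0, hy0⟩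
      exact congrArg Subtype.val this
    apply Subtype.ext
    apply Subtype.ext
    have h3 : ((a : M) : G) * ((b : M) : G) = ((b : M) : G) * ((a : M) : G) := by
      rw [← hxa, ← hyb]
      simp only [MulEquiv.coe_toMonoidHom, MulAut.conj_apply, Subgroup.coe_subtype]
      have h4 : ((x0 * y0 : L) : G) = ((y0 * x0 : L) : G) := by rw [hxy]
      have h5 : (x0 : G) * (y0 : G) = (y0 : G) * (x0 : G) := by simpa using h4
      calc g * (x0 : G) * g⁻¹ * (g * (y0 : G) * g⁻¹) = g * ((x0 : G) * (y0 : G)) * g⁻¹ := by group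
        _ = g * ((y0 : G) * (x0 : G)) * g⁻¹ := by rw [h5]
        _ = g * (y0 : G) * g⁻¹ * (g * (x0 : G) * g⁻¹) := by group
    exact h3
  have hCp : ∀ a ∈ ((B.map L.subtype).map (MulAut.conj g).toMonoidHom).subgroupOf M,
      a ^ p = 1 := by
    intro a ha
    obtain ⟨x, hx, hxa⟩ := Subgroup.mem_subgroupOf.1 ha
    obtain ⟨x0, hx0, rfl⟩ := hx
    apply Subtype.ext
    have h1 := hBp x0 hx0
    have h2 : ((x0 : L) : G) ^ p = 1 := by
      have : ((x0 ^ p : L) : G) = 1 := by rw [h1]; rfl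
      simpa using this
    have h3 : ((a : M) : G) ^ p = 1 := by
      rw [← hxa]
      simp only [MulEquiv.coe_toMonoidHom, MulAut.conj_apply, Subgroup.coe_subtype]
      rw [conj_pow, h2]
      group
    simpa using h3
  have hcard := hM2 _ hCc hCp
  have e1 : Nat.card ↥(((B.map L.subtype).map (MulAut.conj g).toMonoidHom).subgroupOf M) =
      Nat.card ↥((B.map L.subtype).map (MulAut.conj g).toMonoidHom) :=
    Nat.card_congr (Subgroup.subgroupOfEquivOfLe hle).toEquiv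
  have e2 : Nat.card ↥((B.map L.subtype).map (MulAut.conj g).toMonoidHom) =
      Nat.card ↥(B.map L.subtype) :=
    Subgroup.card_map_of_injective (MulAut.conj g).injective
  have e3 : Nat.card ↥(B.map L.subtype) = Nat.card ↥B :=
    Subgroup.card_map_of_injective (Subgroup.subtype_injective L)
  rw [e1, e2, e3] at hcard
  exact hcard

end Cfsg.Agent.Lib.Helper32.BG12X
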