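import Cfsg.Agent.Lib.Helper32.BG12XDefs
import Cfsg.Agent.Lib.Helper32.BG12XNotBeta

/-!
# BGX piece CASE-SIGMA (rows S1421 / S1359 / S1360, helper32's job board)

Notation (see note 1896 / BG12XDefs.lean): `R : Rows G` bundles the earlier rows (R.h5 = B&G 10.5,
R.h8, R.h12, R.h14 = 10.11, R.h17 = 12.5, R.h18 = 12.6, R.h19 = 12.7, R.h20 = 12.10, R.h27 = 13.3(a));
`c : Ctx7 M E p A` = (hM : IsCoatom M, hE : IsComplIn E (sigmaCore M) M, hp : p ∈ tau2 M, hAE : A ≤ E,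
hA : IsElementaryAbelian p A, hA2 : Nat.card A = p ^ 2); `cs : CtxS M E p A S` = (c, hab : G has an
abelian Sylow p-subgroup, hSE : S ≤ E, hSp : IsPGroup p S, hSyl : ¬ p ∣ S.relIndex E);
`FreeSub M E V₁` = (le : V₁ ≤ E, tau : the primes of |V₁| are in τ₁(M) ∪ τ₃(M), free : no v ≠ 1 of V₁
centralizes a nonidentity element of M_σ).  A "line" is a subgroup of order `p` of `A`; it is "good"
if `sigmaCore M ⊓ centralizer X = ⊥`.  Kit: Cfsg.Agent.Lib.Helper32.BG12.*, Helper3.BG13T.*,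
`minSimple_solvable`, `minSimple_odd_sub`, `ut_of`, `alpha_sub_sigma`, `pgroup_le_sigmaCore`.

You may use the placeholder `not_beta` and `Helper3.BG13.mem_sigma_of_normalizer_elemAb_le`
(`N(A) ≤ L` ⇒ `p ∈ σ(L)`), `Helper3.BG13T.le_npc_of_coprime`.

Proof.  `p ∈ σ(L)`, `q ∈ σ(L)`: `A ≤ L_σ` and `zpowers y ≤ L_σ` (`pgroup_le_sigmaCore`;
`y ∈ E ≤ N(A) ≤ L`).  `p ∣ |L|`, `p ∉ β(L)` (not_beta): R.h14 L gives
`HasNormalPComplement p ↥(sigmaCore L)`; le_npc_of_coprime (with `N = L_σ`, `T = zpowers y`, a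
`q`-group, `q ≠ p`) gives `K ≤ L_σ` of order prime to `p`, normalized by `N(L_σ) ≥ L ≥ A`, with
`y ∈ K`.  For `a ∈ A`: `y a y⁻¹ a⁻¹ ∈ A` (`y` normalizes `A`) and `∈ K` (`a` normalizes `K`), so it
is in `A ⊓ K = ⊥`.
-/

set_option autoImplicit false

open Cfsg Cfsg.Agent.Lib.Helper32 Cfsg.Agent.Lib.Helper32.BG10 Cfsg.Agent.Lib.Helper3.BG12
  Cfsg.Agent.Lib.Helper15.BG12

namespace Cfsg.Agent.Lib.Helper32.BG12X

universe u

variable {G : Type u} [Group G] [Finite G]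

theorem centralizes_of_sigma (hG : IsMinSimpleOddOrder G) (R : Rows G) {M E A S : Subgroup G}
    {p : ℕ} [Fact p.Prime] (cs : CtxS M E p A S) {L : Subgroup G} (hL : IsCoatom L)
    (hNL : Subgroup.normalizer (A : Set G) ≤ L) {q : ℕ} [Fact q.Prime] (hqp : q ≠ p)
    (hqL : q ∈ sigma L) {y : G} (hyE : y ∈ E) (hyq : ∃ k : ℕ, y ^ q ^ k = 1) :
    y ∈ Subgroup.centralizer (A : Set G) := by
  have hpp : p.Prime := Fact.out
  have hqq : q.Prime := Fact.out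
  obtain ⟨k, hk⟩ := hyq
  -- `p ∈ σ(L)`
  have hpL : p ∈ sigma L :=
    Cfsg.Agent.Lib.Helper3.BG13.mem_sigma_of_normalizer_elemAb_le hG R.h18 hL cs.c.hA cs.c.hA2 hNL
  have h18 := R.h18 M cs.c.hM E cs.c.hE p cs.c.hp A ⟨cs.c.hAE, cs.c.hA, cs.c.hA2⟩
  have hEN : E ≤ Subgroup.normalizer (A : Set G) := h18.1.1
  have hAL : A ≤ L := Subgroup.le_normalizer.trans hNL
  have hAp : IsPGroup p A := IsPGroup.of_card cs.c.hA2
  have hAσ : A ≤ sigmaCore L :=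
    Cfsg.Agent.Lib.Helper32.BG12.pgroup_le_sigmaCore hG hL hpL hAp hAL
  have hyL : Subgroup.zpowers y ≤ L := by
    rw [Subgroup.zpowers_le]
    exact hNL (hEN hyE)
  have hord : orderOf y ∣ q ^ k := orderOf_dvd_of_pow_eq_one hk
  have hyqg : IsPGroup q (Subgroup.zpowers y) := by
    obtain ⟨j, -, hj⟩ := (Nat.dvd_prime_pow hqq).1 hord
    refine IsPGroup.of_card (n := j) ?_
    rw [Nat.card_zpowers, hj]
  have hyσ : Subgroup.zpowers y ≤ sigmaCore L :=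
    Cfsg.Agent.Lib.Helper32.BG12.pgroup_le_sigmaCore hG hL hqL hyqg hyL
  have hpdvd : p ∣ Nat.card L := by
    have h1 : Nat.card A ∣ Nat.card L := Subgroup.card_dvd_of_le hAL
    rw [cs.c.hA2] at h1
    exact (dvd_pow_self p (by norm_num)).trans h1
  have hpβ : p ∉ beta L := not_beta hG R cs L
  have hnpc : HasNormalPComplement p ↥(sigmaCore L) :=
    ((R.h14 L hL).2.2.2.2 p hpp hpdvd hpβ).2.1
  have hcop : (Nat.card (Subgroup.zpowers y)).Coprime p := by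
    rw [Nat.card_zpowers]
    have h1 : (q ^ k).Coprime p :=
      Nat.Coprime.pow_left k ((Nat.coprime_primes hqq hpp).2 hqp)
    exact Nat.Coprime.coprime_dvd_left hord h1
  obtain ⟨K, hKσ, hKp, hKn, hyK⟩ :=
    Cfsg.Agent.Lib.Helper3.BG13T.le_npc_of_coprime hnpc hyσ hcop
  have hLσ : L ≤ Subgroup.normalizer ((sigmaCore L : Subgroup G) : Set G) :=
    le_normalizer_map_subtype L _
  have hLK : L ≤ Subgroup.normalizer (K : Set G) := hLσ.trans hKn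
  have hyK' : y ∈ K := hyK (Subgroup.mem_zpowers y)
  have hAK : A ⊓ K = ⊥ := by
    apply Disjoint.eq_bot
    apply Subgroup.disjoint_of_coprime_natCard
    rw [cs.c.hA2]
    exact Nat.Coprime.pow_left 2 hKp.symm
  rw [Subgroup.mem_centralizer_iff]
  intro a ha
  have ha' : a ∈ A := ha
  -- `c = a * y * a⁻¹ * y⁻¹ ∈ A ⊓ K`
  have hcK : a * y * a⁻¹ * y⁻¹ ∈ K := by
    have h1 : a * y * a⁻¹ ∈ K := (Subgroup.mem_normalizer_iff.1 (hLK (hAL ha')) y).1 hyK'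
    exact K.mul_mem h1 (K.inv_mem hyK')
  have hcA : a * y * a⁻¹ * y⁻¹ ∈ A := by
    have h1 : y * a⁻¹ * y⁻¹ ∈ A :=
      (Subgroup.mem_normalizer_iff.1 (hEN hyE) a⁻¹).1 (A.inv_mem ha')
    have h2 : a * y * a⁻¹ * y⁻¹ = a * (y * a⁻¹ * y⁻¹) := by group
    rw [h2]
    exact A.mul_mem ha' h1
  have hc1 : a * y * a⁻¹ * y⁻¹ = 1 := by
    have : a * y * a⁻¹ * y⁻¹ ∈ A ⊓ K := ⟨hcA, hcK⟩
    rw [hAK] at this
    exact Subgroup.mem_bot.1 this
  have h3 : a * y = (a * y * a⁻¹ * y⁻¹) * (y * a) := by group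
  rw [h3, hc1, one_mul]

end Cfsg.Agent.Lib.Helper32.BG12X
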