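import Cfsg.Agent.Lib.Helper32.BG12XDefs

/-!
# BGX piece CASE-TAU13 (rows S1421 / S1359 / S1360, helper32's job board)

Notation (see note 1896 / BG12XDefs.lean): `R : Rows G` bundles the earlier rows (R.h5 = B&G 10.5,
R.h8, R.h12, R.h14 = 10.11, R.h17 = 12.5, R.h18 = 12.6, R.h19 = 12.7, R.h20 = 12.10, R.h27 = 13.3(a));
`c : Ctx7 M E p A` = (hM : IsCoatom M, hE : IsComplIn E (sigmaCore M) M, hp : p ∈ tau2 M, hAE : A ≤ E,
hA : IsElementaryAbelian p A, hA2 : Nat.card A = p ^ 2); `cs : CtxS M E p A S` = (c, hab : G has an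
abelian Sylow p-subgroup, hSE : S ≤ E, hSp : IsPGroup p S, hSyl : ¬ p ∣ S.relIndex E);
`FreeSub M E V₁` = (le : V₁ ≤ E, tau : the primes of |V₁| are in τ₁(M) ∪ τ₃(M), free : no v ≠ 1 of V₁
centralizes a nonidentity element of M_σ).  A "line" is a subgroup of order `p` of `A`; it is "good"
if `sigmaCore M ⊓ centralizer X = ⊥`.  Kit: Cfsg.Agent.Lib.Helper32.BG12.*, Helper3.BG13T.*,
`minSimple_solvable`, `minSimple_odd_sub`, `ut_of`, `alpha_sub_sigma`, `pgroup_le_sigmaCore`.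

You may use `Helper3.BG13.mem_sigma_of_normalizer_elemAb_le`, `Helper3.BG13T.exists_compl_ge`,
`Helper3.BG13T.coprime_of_sigma`.

Proof.  `q ∉ σ(L)` and `PRankLE q 1 L`.  `y ∈ E ≤ N(A) ≤ L`; `zpowers y` is a `q`-group, of order
prime to `|L_σ|`, so there is a complement `E_L` of `L_σ` in `L` containing `y`
(exists_compl_ge).  Let `Q` be a Sylow `q`-subgroup of `E_L` containing `y`; `Q ≠ ⊥`, and `Q` is
cyclic (a `q`-subgroup of `L`, `q` odd, `L` of `q`-rank 1).  R.h27 L hL E_L _ q Q: for `z ∈ Q`,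
`z ≠ 1`: `L_σ ⊓ C(z) = L_σ ⊓ C(Q)`.  `A ≤ L_σ` (`p ∈ σ(L)`, `pgroup_le_sigmaCore`) and
`A ≤ C(z)`, so `A ≤ C(Q)`, and `y ∈ Q`.
-/

set_option autoImplicit false

open Cfsg Cfsg.Agent.Lib.Helper32 Cfsg.Agent.Lib.Helper32.BG10 Cfsg.Agent.Lib.Helper3.BG12
  Cfsg.Agent.Lib.Helper15.BG12

namespace Cfsg.Agent.Lib.Helper32.BG12X

universe u

variable {G : Type u} [Group G] [Finite G]

/-- `p`-subgroups of `M` are cyclic when `M` has `p`-rank at most one (`p` odd) -/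
theorem ct13_cyclic {M : Subgroup G} {p : ℕ} [Fact p.Prime] (hp2 : p ≠ 2)
    (h1 : PRankLE p 1 ↥M) {P : Subgroup G} (hPp : IsPGroup p P) (hPM : P ≤ M) : IsCyclic ↥P := by
  have hpp : p.Prime := Fact.out
  by_contra hnc
  have h2' := not_rankLE_one_of_not_cyclic hp2 hPp hnc
  obtain ⟨r, E, hr, hES, hEc, hEp, hEcard⟩ := exists_elemAb_of_not_rankLE P 1 h2'
  have hEq : IsPGroup p E := hPp.to_le hES
  obtain ⟨k, hk⟩ := IsPGroup.iff_card.mp hEq
  have hrq : r = p := by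
    have h3 : r ∣ p ^ k := by
      rw [← hk, hEcard]
      exact dvd_pow_self r (by norm_num)
    exact (Nat.prime_dvd_prime_iff_eq hr hpp).mp (hr.dvd_of_dvd_pow h3)
  subst hrq
  refine not_prankLE_of_le (hES.trans hPM) hEc hEp ?_ h1
  rw [hEcard]
  exact Nat.pow_lt_pow_right hr.one_lt (by norm_num)

theorem centralizes_of_tau13 (hG : IsMinSimpleOddOrder G) (R : Rows G) {M E A S : Subgroup G}
    {p : ℕ} [Fact p.Prime] (cs : CtxS M E p A S) {L : Subgroup G} (hL : IsCoatom L)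
    (hNL : Subgroup.normalizer (A : Set G) ≤ L) {q : ℕ} [Fact q.Prime]
    (hqL : q ∈ tau1 L ∪ tau3 L) {y : G} (hyE : y ∈ E) (hyq : ∃ k : ℕ, y ^ q ^ k = 1) {z : G}
    (hz : z ∈ Subgroup.zpowers y) (hz1 : z ≠ 1) (hzA : z ∈ Subgroup.centralizer (A : Set G)) :
    y ∈ Subgroup.centralizer (A : Set G) := by
  have hq : q.Prime := Fact.out
  have c := cs.c
  have hqσ : q ∉ sigma L := by
    rcases hqL with h | h
    · exact h.2.1
    · exact h.2.1
  have hrank : PRankLE q 1 ↥L := by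
    rcases hqL with h | h
    · exact h.2.2.2.2
    · exact h.2.2.2
  have h18 := R.h18 M c.hM E c.hE p c.hp A ⟨c.hAE, c.hA, c.hA2⟩
  have hEN : E ≤ Subgroup.normalizer (A : Set G) := h18.1.1
  have hyL : y ∈ L := hNL (hEN hyE)
  have hy1 : y ≠ 1 := by
    rintro rfl
    rw [Subgroup.zpowers_one_eq_bot, Subgroup.mem_bot] at hz
    exact hz1 hz
  obtain ⟨k, hk⟩ := hyq
  have hWq : IsPGroup q (Subgroup.zpowers y) := by
    rintro ⟨w, hw⟩
    obtain ⟨i, rfl⟩ := Subgroup.mem_zpowers_iff.1 hw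
    refine ⟨k, Subtype.ext ?_⟩
    show (y ^ i) ^ q ^ k = 1
    rw [← zpow_natCast, ← zpow_mul, mul_comm, zpow_mul, zpow_natCast, hk, one_zpow]
  have hWL : Subgroup.zpowers y ≤ L := by
    rw [Subgroup.zpowers_le]
    exact hyL
  have hcop := Cfsg.Agent.Lib.Helper3.BG13T.coprime_of_sigma hG hqσ hWq (le_refl (sigmaCore L))
  obtain ⟨E₁, hE₁, hWE₁⟩ := Cfsg.Agent.Lib.Helper3.BG13T.exists_compl_ge hG hL hWL hcop
  have hWq' : IsPGroup q ((Subgroup.zpowers y).subgroupOf E₁) := by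
    have h1 := hWq.comap_subtype (K := E₁)
    rw [Subgroup.comap_subtype] at h1
    exact h1
  obtain ⟨Q, hQ⟩ := hWq'.exists_le_sylow
  have hyQ : y ∈ (Q : Subgroup ↥E₁).map E₁.subtype := by
    have hyE₁ : y ∈ E₁ := hWE₁ (Subgroup.mem_zpowers y)
    exact ⟨⟨y, hyE₁⟩, hQ (Subgroup.mem_subgroupOf.2 (Subgroup.mem_zpowers y)), rfl⟩
  have hWQ : Subgroup.zpowers y ≤ (Q : Subgroup ↥E₁).map E₁.subtype := by
    rw [Subgroup.zpowers_le]
    exact hyQ
  have hQne : (Q : Subgroup ↥E₁) ≠ ⊥ := by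
    intro h
    rw [h, Subgroup.map_bot, Subgroup.mem_bot] at hyQ
    exact hy1 hyQ
  have hq2 : q ≠ 2 := by
    intro hq2
    rw [hq2] at hk
    have h1 : orderOf y ∣ 2 ^ k := orderOf_dvd_of_pow_eq_one hk
    obtain ⟨j, -, hj⟩ := (Nat.dvd_prime_pow Nat.prime_two).1 h1
    have hj0 : j ≠ 0 := by
      rintro rfl
      rw [pow_zero, orderOf_eq_one_iff] at hj
      exact hy1 hj
    have h2 : 2 ∣ Nat.card G := by
      have h3 : 2 ∣ orderOf y := by
        rw [hj]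
        exact dvd_pow_self 2 hj0
      exact h3.trans (orderOf_dvd_natCard y)
    exact (Nat.not_even_iff_odd.2 hG.1) (even_iff_two_dvd.2 h2)
  have hQq : IsPGroup q ((Q : Subgroup ↥E₁).map E₁.subtype) := Q.isPGroup'.map E₁.subtype
  have hQL : (Q : Subgroup ↥E₁).map E₁.subtype ≤ L := (Subgroup.map_subtype_le _).trans hE₁.1
  have hQc' : IsCyclic ↥((Q : Subgroup ↥E₁).map E₁.subtype) := ct13_cyclic hq2 hrank hQq hQL
  have hQc : IsCyclic ↥(Q : Subgroup ↥E₁) :=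
    isCyclic_of_surjective
      ((Q : Subgroup ↥E₁).equivMapOfInjective E₁.subtype E₁.subtype_injective).symm.toMonoidHom
      ((Q : Subgroup ↥E₁).equivMapOfInjective E₁.subtype E₁.subtype_injective).symm.surjective
  have h27 := R.h27 L hL E₁ hE₁ q Q hQne hQc z (hWQ hz) hz1
  have hpσ : p ∈ sigma L :=
    Cfsg.Agent.Lib.Helper3.BG13.mem_sigma_of_normalizer_elemAb_le hG R.h18 hL c.hA c.hA2 hNL
  have hAL : A ≤ L := Subgroup.le_normalizer.trans hNL
  have hAp : IsPGroup p A := by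
    rintro ⟨a, ha⟩
    refine ⟨1, Subtype.ext ?_⟩
    show a ^ p ^ 1 = 1
    rw [pow_one]
    exact c.hA.2 a ha
  have hAσ : A ≤ sigmaCore L :=
    Cfsg.Agent.Lib.Helper32.BG12.pgroup_le_sigmaCore hG hL hpσ hAp hAL
  rw [Subgroup.mem_centralizer_iff]
  intro a ha
  have ha1 : a ∈ sigmaCore L ⊓ Subgroup.centralizer ({z} : Set G) := by
    refine ⟨hAσ ha, Subgroup.mem_centralizer_iff.2 (fun w hw => ?_)⟩
    rw [Set.mem_singleton_iff.1 hw]
    exact ((Subgroup.mem_centralizer_iff.1 hzA) a ha).symm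
  rw [h27] at ha1
  exact ((Subgroup.mem_centralizer_iff.1 ha1.2) y hyQ).symm

end Cfsg.Agent.Lib.Helper32.BG12X
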