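import Cfsg.Agent.Lib.Helper32.BG12XDefs

/-!
# BGX piece FIX-SCALAR (rows S1421 / S1359 / S1360, helper32's job board; proved by helper16)

Generic (linear algebra on `A ≅ F_p²` written inside the group).  `H` acts on `A` through an
abelian group and fixes no line.

Proof.  Let `g ∈ H` normalize the line `X`.  As `H` does not normalize `X`, there are `h ∈ H` and
`x₀ ∈ X` with `y = h x₀ h⁻¹ ∉ X`; `X = ⟨x₀⟩` and `g x₀ g⁻¹ = x₀ ^ l`.  Now `h⁻¹ g h = g c` with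
`c ∈ ⁅H, H⁆ ≤ C(A)`, so `g y g⁻¹ = h (g c) x₀ (g c)⁻¹ h⁻¹ = y ^ l`.  As `A = ⟨x₀⟩ ⟨y⟩`, `g` acts on
`A` as `a ↦ a ^ l` (`fixsc_key`), and normalizes every subgroup of `A`.
If moreover `g` commutes with `a ≠ 1` in `A`, apply this to the line `zpowers a`: `a ^ l = a`, so
`l ≡ 1 (mod p)` and `g` centralizes `A`.
(The hypothesis `¬ p ∣ orderOf g` is not needed.)
-/

set_option autoImplicit false
set_option linter.unusedSectionVars false
set_option linter.unusedVariables false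

open Cfsg Cfsg.Agent.Lib.Helper32 Cfsg.Agent.Lib.Helper32.BG10 Cfsg.Agent.Lib.Helper3.BG12
  Cfsg.Agent.Lib.Helper15.BG12

namespace Cfsg.Agent.Lib.Helper32.BG12X

universe u

variable {G : Type u} [Group G] [Finite G]

/-- two distinct subgroups of prime order meet trivially -/
private theorem fixsc_inf (p : ℕ) [Fact p.Prime] (X Y : Subgroup G) (hX : Nat.card X = p)
    (hY : Nat.card Y = p) (hne : X ≠ Y) : X ⊓ Y = ⊥ := by
  have hp : p.Prime := Fact.out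
  have hd : Nat.card (X ⊓ Y : Subgroup G) ∣ p := hX ▸ Subgroup.card_dvd_of_le inf_le_left
  rcases (Nat.dvd_prime hp).mp hd with h1 | h1
  · exact Subgroup.eq_bot_of_card_eq _ h1
  · exfalso
    have e1 : X ⊓ Y = X := Subgroup.eq_of_le_of_card_ge inf_le_left (by rw [h1, hX])
    have e2 : X ⊓ Y = Y := Subgroup.eq_of_le_of_card_ge inf_le_right (by rw [h1, hY])
    exact hne (e1.symm.trans e2)

/-- a nonidentity element of a subgroup of prime order generates it -/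
private theorem fixsc_gen (p : ℕ) [Fact p.Prime] (X : Subgroup G) (hX : Nat.card X = p) (x : G)
    (hx : x ∈ X) (hx1 : x ≠ 1) : Subgroup.zpowers x = X := by
  have hp : p.Prime := Fact.out
  have hle : Subgroup.zpowers x ≤ X := (Subgroup.zpowers_le).mpr hx
  apply Subgroup.eq_of_le_of_card_ge hle
  have hxp : x ^ p = 1 := by
    have h : (⟨x, hx⟩ : X) ^ Nat.card X = 1 := pow_card_eq_one'
    rw [hX] at h
    simpa using congrArg Subtype.val h
  rw [Nat.card_zpowers, orderOf_eq_prime hxp hx1, hX]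

/-- `A = X₁ X₂` for two distinct subgroups of order `p` of a group of order `p²` -/
private theorem fixsc_decomp (p : ℕ) [Fact p.Prime] (A X₁ X₂ : Subgroup G)
    (hA2 : Nat.card A = p ^ 2) (h₁ : X₁ ≤ A) (h₂ : X₂ ≤ A) (c₁ : Nat.card X₁ = p)
    (c₂ : Nat.card X₂ = p) (hne : X₁ ≠ X₂) (a : G) (ha : a ∈ A) :
    ∃ x ∈ X₁, ∃ y ∈ X₂, a = x * y := by
  have hinf := fixsc_inf p X₁ X₂ c₁ c₂ hne
  let f : ↥X₁ × ↥X₂ → ↥A := fun q => ⟨q.1.1 * q.2.1, A.mul_mem (h₁ q.1.2) (h₂ q.2.2)⟩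
  have hf : Function.Injective f := by
    rintro ⟨x, y⟩ ⟨x', y'⟩ h
    have h0 : x.1 * y.1 = x'.1 * y'.1 := congrArg Subtype.val h
    have h1 : x'.1⁻¹ * x.1 = y'.1 * y.1⁻¹ := by
      rw [eq_mul_inv_iff_mul_eq, mul_assoc, h0, inv_mul_cancel_left]
    have h2 : x'.1⁻¹ * x.1 ∈ X₁ ⊓ X₂ := by
      refine ⟨X₁.mul_mem (X₁.inv_mem x'.2) x.2, ?_⟩
      rw [h1]
      exact X₂.mul_mem y'.2 (X₂.inv_mem y.2)
    rw [hinf, Subgroup.mem_bot] at h2
    have hx : x = x' := by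
      apply Subtype.ext
      exact (inv_mul_eq_one.mp h2).symm
    have hy : y = y' := by
      apply Subtype.ext
      rw [h2] at h1
      exact (mul_inv_eq_one.mp h1.symm).symm
    rw [hx, hy]
  have hb : Function.Bijective f := by
    apply hf.bijective_of_nat_card_le
    rw [Nat.card_prod, c₁, c₂, hA2, sq]
  obtain ⟨⟨x, y⟩, hxy⟩ := hb.2 ⟨a, ha⟩
  exact ⟨x.1, x.2, y.1, y.2, (congrArg Subtype.val hxy).symm⟩

/-- key: an element of `H` normalizing a line acts on `A` as a power map -/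
private theorem fixsc_key {p : ℕ} [Fact p.Prime] {A H : Subgroup G}
    (hA : IsElementaryAbelian p A) (hA2 : Nat.card A = p ^ 2)
    (hHA : H ≤ Subgroup.normalizer (A : Set G))
    (hab : ⁅H, H⁆ ≤ Subgroup.centralizer (A : Set G))
    (hirr : ∀ X : Subgroup G, X ≤ A → Nat.card X = p → ¬ H ≤ Subgroup.normalizer (X : Set G))
    {g : G} (hg : g ∈ H) (X : Subgroup G) (hXA : X ≤ A) (hXc : Nat.card X = p)
    (hgX : g ∈ Subgroup.normalizer (X : Set G)) :
    ∃ l : ℤ, ∀ a ∈ A, g * a * g⁻¹ = a ^ l := by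
  have hp : p.Prime := Fact.out
  obtain ⟨hAc, hAp⟩ := hA
  have hcomm : ∀ a ∈ A, ∀ b ∈ A, a * b = b * a := by
    intro a ha b hb
    have h := hAc.is_comm.comm (⟨a, ha⟩ : A) ⟨b, hb⟩
    exact congrArg Subtype.val h
  -- `h ∈ H` not normalizing `X`
  obtain ⟨h, hh, hhX⟩ := SetLike.not_le_iff_exists.mp (hirr X hXA hXc)
  have hex : ∃ x₀ ∈ X, h * x₀ * h⁻¹ ∉ X := by
    by_contra hcon
    push Not at hcon
    apply hhX
    have hfin : Finite ((X : Subgroup G) : Set G) := Set.toFinite _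
    exact Subgroup.mem_normalizer_fintype hcon
  obtain ⟨x₀, hx₀, hy⟩ := hex
  have hx₀1 : x₀ ≠ 1 := by
    intro h1
    apply hy
    have h2 : h * x₀ * h⁻¹ = 1 := by rw [h1]; group
    rw [h2]
    exact X.one_mem
  obtain ⟨y, hydef⟩ : ∃ y, y = h * x₀ * h⁻¹ := ⟨_, rfl⟩
  rw [← hydef] at hy
  have hyA : y ∈ A := by
    rw [hydef]
    exact (Subgroup.mem_normalizer_iff.mp (hHA hh) x₀).mp (hXA hx₀)
  have hy1 : y ≠ 1 := fun h1 => hy (h1 ▸ X.one_mem)
  have gX := fixsc_gen p X hXc x₀ hx₀ hx₀1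
  have hYc : Nat.card (Subgroup.zpowers y) = p := by
    rw [Nat.card_zpowers]
    exact orderOf_eq_prime (hAp y hyA) hy1
  have hYA : Subgroup.zpowers y ≤ A := Subgroup.zpowers_le.mpr hyA
  have hne : X ≠ Subgroup.zpowers y := by
    intro h1
    apply hy
    rw [h1]
    exact Subgroup.mem_zpowers y
  -- `g x₀ g⁻¹ = x₀ ^ l`
  have h1 : g * x₀ * g⁻¹ ∈ Subgroup.zpowers x₀ := by
    rw [gX]
    exact (Subgroup.mem_normalizer_iff.mp hgX x₀).mp hx₀
  obtain ⟨l, hl⟩ := Subgroup.mem_zpowers_iff.mp h1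
  -- `g y g⁻¹ = y ^ l`
  have hc : g⁻¹ * h⁻¹ * g * h ∈ Subgroup.centralizer (A : Set G) := by
    apply hab
    have h2 := Subgroup.commutator_mem_commutator (H.inv_mem hg) (H.inv_mem hh)
    rw [commutatorElement_def, inv_inv, inv_inv] at h2
    exact h2
  have hcx : (g⁻¹ * h⁻¹ * g * h) * x₀ = x₀ * (g⁻¹ * h⁻¹ * g * h) :=
    ((Subgroup.mem_centralizer_iff.mp hc) x₀ (hXA hx₀)).symm
  have hgy : g * y * g⁻¹ = y ^ l := by
    rw [hydef, conj_zpow, hl]
    calc g * (h * x₀ * h⁻¹) * g⁻¹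
        = h * g * ((g⁻¹ * h⁻¹ * g * h) * x₀) * h⁻¹ * g⁻¹ := by group
      _ = h * g * (x₀ * (g⁻¹ * h⁻¹ * g * h)) * h⁻¹ * g⁻¹ := by rw [hcx]
      _ = h * (g * x₀ * g⁻¹) * h⁻¹ := by group
  -- all of `A`
  refine ⟨l, ?_⟩
  intro a ha
  obtain ⟨x', hx', y', hy', hxy⟩ :=
    fixsc_decomp p A X (Subgroup.zpowers y) hA2 hXA hYA hXc hYc hne a ha
  rw [← gX] at hx'
  obtain ⟨s, rfl⟩ := Subgroup.mem_zpowers_iff.mp hx'
  obtain ⟨t, rfl⟩ := Subgroup.mem_zpowers_iff.mp hy'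
  have cxy : Commute x₀ y := hcomm x₀ (hXA hx₀) y hyA
  have c2 : Commute (x₀ ^ s) (y ^ t) := (cxy.zpow_left s).zpow_right t
  rw [hxy, c2.mul_zpow]
  have e1 : g * (x₀ ^ s * y ^ t) * g⁻¹ = (g * x₀ * g⁻¹) ^ s * (g * y * g⁻¹) ^ t := by
    rw [conj_zpow, conj_zpow]
    group
  rw [e1, ← hl, hgy, ← zpow_mul, ← zpow_mul, ← zpow_mul, ← zpow_mul, mul_comm l s,
    mul_comm l t]

theorem fix_line_scalar {p : ℕ} [Fact p.Prime] {A H : Subgroup G}
    (hA : IsElementaryAbelian p A) (hA2 : Nat.card A = p ^ 2)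
    (hHA : H ≤ Subgroup.normalizer (A : Set G))
    (hab : ⁅H, H⁆ ≤ Subgroup.centralizer (A : Set G))
    (hirr : ∀ X : Subgroup G, X ≤ A → Nat.card X = p → ¬ H ≤ Subgroup.normalizer (X : Set G))
    {g : G} (hg : g ∈ H) (hgp : ¬ p ∣ orderOf g) :
    ((∃ X : Subgroup G, X ≤ A ∧ Nat.card X = p ∧ g ∈ Subgroup.normalizer (X : Set G)) →
        ∀ Y : Subgroup G, Y ≤ A → Nat.card Y = p → g ∈ Subgroup.normalizer (Y : Set G)) ∧
      ((∃ a ∈ A, a ≠ 1 ∧ g * a = a * g) → g ∈ Subgroup.centralizer (A : Set G)) := by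
  have hp : p.Prime := Fact.out
  constructor
  · rintro ⟨X, hXA, hXc, hgX⟩ Y hYA hYc
    obtain ⟨l, hl⟩ := fixsc_key hA hA2 hHA hab hirr hg X hXA hXc hgX
    have hfin : Finite ((Y : Subgroup G) : Set G) := Set.toFinite _
    apply Subgroup.mem_normalizer_fintype
    intro n hn
    rw [hl n (hYA hn)]
    exact Y.zpow_mem hn l
  · rintro ⟨a, ha, ha1, hga⟩
    have hoa : orderOf a = p := orderOf_eq_prime (hA.2 a ha) ha1
    have hXc : Nat.card (Subgroup.zpowers a) = p := by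
      rw [Nat.card_zpowers]
      exact hoa
    have hconj : g * a * g⁻¹ = a := by rw [hga, mul_inv_cancel_right]
    have hgX : g ∈ Subgroup.normalizer ((Subgroup.zpowers a : Subgroup G) : Set G) := by
      have hfin : Finite ((Subgroup.zpowers a : Subgroup G) : Set G) := Set.toFinite _
      apply Subgroup.mem_normalizer_fintype
      intro n hn
      obtain ⟨k, rfl⟩ := Subgroup.mem_zpowers_iff.mp hn
      have h1 : g * a ^ k * g⁻¹ = a ^ k := by rw [← conj_zpow, hconj]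
      rw [h1]
      exact Subgroup.zpow_mem_zpowers a k
    obtain ⟨l, hl⟩ := fixsc_key hA hA2 hHA hab hirr hg (Subgroup.zpowers a)
      (Subgroup.zpowers_le.mpr ha) hXc hgX
    have h1 : a ^ l = a := by rw [← hl a ha, hconj]
    have h2 : a ^ (l - 1) = 1 := by rw [zpow_sub_one, h1, mul_inv_cancel]
    have hdvd : (p : ℤ) ∣ l - 1 := by
      have h3 := orderOf_dvd_iff_zpow_eq_one.mpr h2
      rwa [hoa] at h3
    obtain ⟨k, hk⟩ := hdvd
    rw [Subgroup.mem_centralizer_iff]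
    intro b hb
    have h3 : g * b * g⁻¹ = b := by
      rw [hl b hb]
      have h4 : l = 1 + (p : ℤ) * k := by linarith
      rw [h4, zpow_add, zpow_one, zpow_mul, zpow_natCast, hA.2 b hb, one_zpow, mul_one]
    calc b * g = (g * b * g⁻¹) * g := by rw [h3]
      _ = g * b := by group

end Cfsg.Agent.Lib.Helper32.BG12X
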