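import Cfsg.Agent.Lib.Helper32.BG12XDefs

/-!
# BGX piece FREE-PAIR (rows S1421 / S1359 / S1360, helper32's job board)

Generic: an abelian `q`-group `Q` acting on an abelian `q'`-group `A ≠ 1` such that every
element acts trivially or fixed-point-freely acts through a cyclic group.

Proof.  Put `C = Q ⊓ C(A)`.  If `b ∈ C` take `i = 0`.  Let `w` be the last power
`y ^ (q ^ j)` of `y` outside `C` (so `w ^ q ∈ C`).  Suppose `b ∉ zpowers w · C`.  Then
`b^i w^j ∈ C` (`i, j ∈ ZMod q`) only for `i = j = 0`.  For `a ∈ A` put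
`f i j = (b^i w^j) a (b^i w^j)⁻¹` (well defined for `i, j` mod `q`).  `∏_{i,j} f i j` is fixed
by `w ∉ C`, so it is `1` (hfree).  For each of the `q + 1` subgroups of order `q` of
`⟨b, w⟩ C / C` (generated by `w`, and by `b w^k`, `k ∈ ZMod q`) the product of `f` over the
subgroup is fixed by its generator, so it is `1`.  Every `(i, j) ≠ (0, 0)` lies in exactly one
of these subgroups and `(0, 0)` in all, so `1 = (∏_{i,j} f i j) · a ^ q = a ^ q`, hence `a = 1`
(`q ∤ |A|`) for every `a ∈ A`: contradiction with `A ≠ ⊥`.  So `b ∈ zpowers w · C`, i.e.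
`b * y ^ i ∈ C(A)` for some `i`.
-/

set_option autoImplicit false

open Cfsg Cfsg.Agent.Lib.Helper32 Cfsg.Agent.Lib.Helper32.BG10 Cfsg.Agent.Lib.Helper3.BG12
  Cfsg.Agent.Lib.Helper15.BG12

namespace Cfsg.Agent.Lib.Helper32.BG12X

universe u

/-- the product of the images of `m` under the powers of `g` is fixed by `g` -/
theorem free_pair_norm_fix {M : Type*} [CommGroup M] {q : ℕ} [Fact q.Prime] (g : MulAut M)
    (hg : g ^ q = 1) (m : M) :
    g (∏ t : ZMod q, (g ^ t.val) m) = ∏ t : ZMod q, (g ^ t.val) m := by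
  rw [map_prod]
  have h1 : ∀ t : ZMod q, g ((g ^ t.val) m) = (g ^ (t + 1).val) m := by
    intro t
    have h2 : (g ^ (t + 1).val) = g ^ (t.val + 1) := by
      rw [ZMod.val_add, ZMod.val_one q, ← pow_eq_pow_mod _ hg]
    rw [h2, pow_succ']
    rfl
  simp_rw [h1]
  exact Equiv.prod_comp (Equiv.addRight (1 : ZMod q)) (fun t : ZMod q => (g ^ t.val) m)

theorem free_pair_norm_one {M : Type*} [CommGroup M] {q : ℕ} [Fact q.Prime] (g : MulAut M)
    (hg : g ^ q = 1) (hf : ∀ m, g m = m → m = 1) (m : M) :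
    ∏ t : ZMod q, (g ^ t.val) m = 1 := hf _ (free_pair_norm_fix g hg m)

theorem free_pair_pow {M : Type*} [CommGroup M] {q : ℕ} [Fact q.Prime] (β ω : MulAut M)
    (hc : Commute β ω) (hβ : β ^ q = 1) (hω : ω ^ q = 1)
    (hωf : ∀ m, ω m = m → m = 1)
    (hf : ∀ k : ℕ, ∀ m, (β * ω ^ k) m = m → m = 1) (m : M) : m ^ q = 1 := by
  have h1 : ∀ k : ZMod q, ∏ t : ZMod q, ((β * ω ^ k.val) ^ t.val) m = 1 := by
    intro k
    apply free_pair_norm_one _ _ (hf k.val)
    rw [(hc.pow_right _).mul_pow, hβ, ← pow_mul, mul_comm k.val q, pow_mul, hω, one_pow, one_mul]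
  have h2 : ∏ t : ZMod q, ∏ k : ZMod q, ((β * ω ^ k.val) ^ t.val) m = 1 := by
    rw [Finset.prod_comm]
    exact Finset.prod_eq_one (fun k _ => h1 k)
  have h3 : ∀ t : ZMod q,
      ∏ k : ZMod q, ((β * ω ^ k.val) ^ t.val) m = if t = 0 then m ^ q else 1 := by
    intro t
    have h4 : ∀ k : ZMod q,
        ((β * ω ^ k.val) ^ t.val) m = (β ^ t.val) ((ω ^ (k * t).val) m) := by
      intro k
      rw [(hc.pow_right _).mul_pow, ← pow_mul, ZMod.val_mul, ← pow_eq_pow_mod _ hω]
      rfl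
    simp_rw [h4]
    rw [← map_prod]
    split_ifs with ht
    · subst ht
      simp [ZMod.card]
    · have h5 := Equiv.prod_comp (Equiv.mulRight₀ t ht) (fun j : ZMod q => (ω ^ j.val) m)
      simp only [Equiv.mulRight₀_apply] at h5
      rw [h5, free_pair_norm_one ω hω hωf m, map_one]
  simp_rw [h3] at h2
  simpa using h2

variable {G : Type u} [Group G] [Finite G]

theorem free_pair_cyclic {q : ℕ} [Fact q.Prime] {A Q : Subgroup G} (hA : IsMulCommutative A)
    (hA1 : A ≠ ⊥) (hQ : IsMulCommutative Q) (hQq : IsPGroup q Q)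
    (hQA : Q ≤ Subgroup.normalizer (A : Set G)) (hcop : ¬ q ∣ Nat.card A)
    (hfree : ∀ g ∈ Q, g ∈ Subgroup.centralizer (A : Set G) ∨ ∀ a ∈ A, g * a = a * g → a = 1)
    {b y : G} (hb : b ∈ Q) (hy : y ∈ Q) (hbq : b ^ q ∈ Subgroup.centralizer (A : Set G))
    (hyA : y ∉ Subgroup.centralizer (A : Set G)) :
    ∃ i : ℕ, b * y ^ i ∈ Subgroup.centralizer (A : Set G) := by
  classical
  by_contra hcon
  push Not at hcon
  -- the last power of `y` outside `C(A)`
  obtain ⟨w, hwQ, hwA, hwq, n, hwy⟩ : ∃ w ∈ Q, w ∉ Subgroup.centralizer (A : Set G) ∧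
      w ^ q ∈ Subgroup.centralizer (A : Set G) ∧ ∃ n : ℕ, w = y ^ n := by
    obtain ⟨n, hn⟩ := hQq ⟨y, hy⟩
    have hn' : y ^ q ^ n = 1 := by
      have := congrArg Subtype.val hn
      simpa using this
    have hex : ∃ j, y ^ q ^ j ∈ Subgroup.centralizer (A : Set G) :=
      ⟨n, by rw [hn']; exact one_mem _⟩
    have hj : y ^ q ^ Nat.find hex ∈ Subgroup.centralizer (A : Set G) := Nat.find_spec hex
    have hj0 : Nat.find hex ≠ 0 := by
      intro h0
      rw [h0] at hj
      simp only [pow_zero, pow_one] at hj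
      exact hyA hj
    obtain ⟨j', hj'⟩ := Nat.exists_eq_succ_of_ne_zero hj0
    refine ⟨y ^ q ^ j', Q.pow_mem hy _, Nat.find_min hex (by omega), ?_, _, rfl⟩
    rw [← pow_mul, ← pow_succ, ← Nat.succ_eq_add_one, ← hj']
    exact hj
  haveI : IsMulCommutative A := hA
  letI : CommGroup A := { (inferInstance : Group A) with mul_comm := fun a b => mul_comm' a b }
  -- the conjugation automorphisms
  have hfix : ∀ g (hg : g ∈ Q), g ∉ Subgroup.centralizer (A : Set G) →
      ∀ m : A, A.normalizerMonoidHom ⟨g, hQA hg⟩ m = m → m = 1 := by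
    intro g hg hgC m hm
    rcases hfree g hg with h | h
    · exact absurd h hgC
    · have h1 : g * (m : G) * g⁻¹ = (m : G) := congrArg Subtype.val hm
      have h2 : g * (m : G) = (m : G) * g := mul_inv_eq_iff_eq_mul.mp h1
      exact Subtype.ext (h m m.2 h2)
  have hker : ∀ g (hg : g ∈ Q), g ∈ Subgroup.centralizer (A : Set G) →
      A.normalizerMonoidHom ⟨g, hQA hg⟩ = 1 := by
    intro g hg hgC
    have : (⟨g, hQA hg⟩ : Subgroup.normalizer (A : Set G)) ∈ A.normalizerMonoidHom.ker := by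
      rw [Subgroup.normalizerMonoidHom_ker, Subgroup.mem_subgroupOf]
      exact hgC
    exact MonoidHom.mem_ker.mp this
  have hbw : b * w = w * b := by
    haveI : IsMulCommutative Q := hQ
    have := mul_comm' (⟨b, hb⟩ : Q) ⟨w, hwQ⟩
    exact congrArg Subtype.val this
  set β : MulAut A := A.normalizerMonoidHom ⟨b, hQA hb⟩ with hβdef
  set ω : MulAut A := A.normalizerMonoidHom ⟨w, hQA hwQ⟩ with hωdef
  have hc : Commute β ω := by
    have h1 : Commute (⟨b, hQA hb⟩ : Subgroup.normalizer (A : Set G)) ⟨w, hQA hwQ⟩ :=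
      Subtype.ext hbw
    exact h1.map A.normalizerMonoidHom
  have hβ : β ^ q = 1 := by
    rw [hβdef, ← map_pow]
    exact hker (b ^ q) (Q.pow_mem hb q) hbq
  have hω : ω ^ q = 1 := by
    rw [hωdef, ← map_pow]
    exact hker (w ^ q) (Q.pow_mem hwQ q) hwq
  have hωf : ∀ m, ω m = m → m = 1 := hfix w hwQ hwA
  have hf : ∀ k : ℕ, ∀ m, (β * ω ^ k) m = m → m = 1 := by
    intro k
    have h1 : β * ω ^ k = A.normalizerMonoidHom
        ⟨b * w ^ k, hQA (Q.mul_mem hb (Q.pow_mem hwQ k))⟩ := by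
      rw [hβdef, hωdef, ← map_pow, ← map_mul]
      rfl
    rw [h1]
    apply hfix (b * w ^ k) (Q.mul_mem hb (Q.pow_mem hwQ k))
    rw [hwy, ← pow_mul]
    exact hcon (n * k)
  apply hA1
  rw [Subgroup.eq_bot_iff_forall]
  intro x hx
  have h1 : (⟨x, hx⟩ : A) ^ q = 1 := free_pair_pow β ω hc hβ hω hωf hf ⟨x, hx⟩
  have h2 : orderOf (⟨x, hx⟩ : A) ∣ q := orderOf_dvd_of_pow_eq_one h1
  have h3 : orderOf (⟨x, hx⟩ : A) ∣ Nat.card A := orderOf_dvd_natCard _
  rcases (Nat.dvd_prime (Fact.out : q.Prime)).mp h2 with h4 | h4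
  · have := orderOf_eq_one_iff.mp h4
    exact congrArg Subtype.val this
  · rw [h4] at h3
    exact absurd h3 hcop

end Cfsg.Agent.Lib.Helper32.BG12X
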