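import Cfsg.Agent.Lib.Helper32.BG12XDefs

/-!
# BGX piece MSTAR (rows S1421 / S1359 / S1360, helper32's job board)

Notation: `R : Rows G` bundles the earlier rows (R.h5 = B&G 10.5, R.h8 = 10.8, R.h12 = 10.9,
R.h14 = 10.11 (S1414), R.h16, R.h17 = 12.5 (S1417), R.h18 = 12.6 (S1418), R.h19 = 12.7 (S1419),
R.h20 = 12.10 (S1420), R.h27 = 13.3(a)); `c : Ctx7 M E p A` = (hM : IsCoatom M,
hE : IsComplIn E (sigmaCore M) M, hp : p ∈ tau2 M, hAE : A ≤ E, hA : IsElementaryAbelian p A,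
hA2 : Nat.card A = p ^ 2).  Kit: Cfsg.Agent.Lib.Helper32.BG12.* (pgroup_le_sigmaCore,
mem_sigma_of_dvd_sigmaCore, alpha_sub_sigma, card_of_isComplIn, ...), Helper3.BG13T.*
(exists_compl_ge, exists_tau2_elemAb, coprime_of_sigma, ...), `minSimple_solvable`,
`minSimple_odd_sub`, `ut_of`.

Proof.  `A ≠ ⊥`, `A ≤ M < ⊤` and `G` is simple, so `N(A) ≠ ⊤`; take a coatom `L ≥ N(A)`.
`¬ N(A) ≤ M` (R.h18 (b)) gives `L ≠ M`; `E ≤ N(A)` (R.h18 (a)) gives `E ≤ L`.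
-/

set_option autoImplicit false

open Cfsg Cfsg.Agent.Lib.Helper32 Cfsg.Agent.Lib.Helper32.BG10 Cfsg.Agent.Lib.Helper3.BG12
  Cfsg.Agent.Lib.Helper15.BG12

namespace Cfsg.Agent.Lib.Helper32.BG12X

universe u

variable {G : Type u} [Group G] [Finite G]

theorem exists_Mstar (hG : IsMinSimpleOddOrder G) (R : Rows G) {M E A : Subgroup G} {p : ℕ}
    [Fact p.Prime] (c : Ctx7 M E p A) :
    ∃ L : Subgroup G, IsCoatom L ∧ Subgroup.normalizer (A : Set G) ≤ L ∧ L ≠ M ∧ E ≤ L := by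
  have hp : p.Prime := Fact.out
  obtain ⟨⟨hEN, _⟩, ⟨_, _, hNM⟩, _⟩ := R.h18 M c.hM E c.hE p c.hp A ⟨c.hAE, c.hA, c.hA2⟩
  haveI : IsSimpleGroup G := hG.2.1
  have hNtop : Subgroup.normalizer (A : Set G) ≠ ⊤ := by
    intro htop
    have hAn : A.Normal := Subgroup.normalizer_eq_top_iff.1 htop
    rcases hAn.eq_bot_or_eq_top with h | h
    · have h2 := c.hA2
      rw [h, Subgroup.card_bot] at h2
      have h3 := hp.two_le
      nlinarith
    · have hMtop : M = ⊤ := top_le_iff.1 (h ▸ (c.hAE.trans c.hE.1))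
      exact c.hM.1 hMtop
  obtain ⟨L, hL, hNL⟩ :=
    (eq_top_or_exists_le_coatom (Subgroup.normalizer (A : Set G))).resolve_left hNtop
  exact ⟨L, hL, hNL, fun h => hNM (h ▸ hNL), hEN.trans hNL⟩

end Cfsg.Agent.Lib.Helper32.BG12X
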