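import Cfsg.Agent.Lib.Helper32.BG12XDefs
import Cfsg.Agent.Lib.Helper32.BG12XSylData
import Cfsg.Agent.Lib.Helper32.BG12XSylG
import Cfsg.Agent.Lib.Helper32.BG12XMstar
import Cfsg.Agent.Lib.Helper32.BG12XNotBeta

/-!
# BGX piece NBAR-AB (rows S1421 / S1359 / S1360, helper32's job board)

Notation (see note 1896 / BG12XDefs.lean): `R : Rows G` bundles the earlier rows (R.h5 = B&G 10.5,
R.h8, R.h12, R.h14 = 10.11, R.h17 = 12.5, R.h18 = 12.6, R.h19 = 12.7, R.h20 = 12.10, R.h27 = 13.3(a));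
`c : Ctx7 M E p A` = (hM : IsCoatom M, hE : IsComplIn E (sigmaCore M) M, hp : p ∈ tau2 M, hAE : A ≤ E,
hA : IsElementaryAbelian p A, hA2 : Nat.card A = p ^ 2); `cs : CtxS M E p A S` = (c, hab : G has an
abelian Sylow p-subgroup, hSE : S ≤ E, hSp : IsPGroup p S, hSyl : ¬ p ∣ S.relIndex E);
`FreeSub M E V₁` = (le : V₁ ≤ E, tau : the primes of |V₁| are in τ₁(M) ∪ τ₃(M), free : no v ≠ 1 of V₁
centralizes a nonidentity element of M_σ).  A "line" is a subgroup of order `p` of `A`; it is "good"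
if `sigmaCore M ⊓ centralizer X = ⊥`.  Kit: Cfsg.Agent.Lib.Helper32.BG12.*, Helper3.BG13T.*,
`minSimple_solvable`, `minSimple_odd_sub`, `ut_of`, `alpha_sub_sigma`, `pgroup_le_sigmaCore`.

`N(A) / C(A)` is abelian.  You may use the stage-1 placeholders `sylow_data`, `sylow_of_G`,
`exists_Mstar`, `not_beta`.

Proof.  Take a coatom `L ≥ N(A)` (exists_Mstar).  `p ∣ |L|`, `p ∉ β(L)` (not_beta), so R.h14 L
gives `HasNormalPComplement p ↥⁅L, L⁆`: a normal `p`-complement `K` of `L' = ⁅L, L⁆`; `K`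
contains every `p'`-element of `L'` and is normalized by `L` (it is characteristic in `L'`;
compare `Helper3.BG13T.le_npc_of_coprime`).  (1) `K ⊓ N(A) ≤ C(A)`: for `k` there and `a ∈ A`,
`k a k⁻¹ a⁻¹ ∈ A ⊓ K = ⊥` (`a` normalizes `K`, orders coprime).  (2) every `p`-element `g` of
`N(A)` centralizes `A`: `zpowers g ⊔ A` is a `p`-group, so it lies in a Sylow `p`-subgroup of `G`,
which is conjugate to `S` (Sylow in `G`, sylow_of_G) and hence abelian (sylow_data).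
Now let `x ∈ ⁅N(A), N(A)⁆ ≤ L' ⊓ N(A)`.  Write `x = u v` with `u`, `v` powers of `x`, `u` a
`p`-element, `v` a `p'`-element.  `v ∈ K ⊓ N(A) ≤ C(A)` and `u ∈ C(A)` by (2).
-/

set_option autoImplicit false

open Cfsg Cfsg.Agent.Lib.Helper32 Cfsg.Agent.Lib.Helper32.BG10 Cfsg.Agent.Lib.Helper3.BG12
  Cfsg.Agent.Lib.Helper15.BG12

namespace Cfsg.Agent.Lib.Helper32.BG12X

universe u

variable {G : Type u} [Group G] [Finite G]

omit [Finite G] in
theorem nbar_conj_comm {L : Subgroup G} {l : G} (hl : l ∈ L) :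
    ∀ h ∈ ⁅L, L⁆, l * h * l⁻¹ ∈ ⁅L, L⁆ := by
  intro h hh
  have h1 : (MulAut.conj l).toMonoidHom h ∈ (⁅L, L⁆).map (MulAut.conj l).toMonoidHom :=
    Subgroup.mem_map_of_mem _ hh
  rw [Subgroup.map_commutator] at h1
  have h2 : ⁅L.map (MulAut.conj l).toMonoidHom, L.map (MulAut.conj l).toMonoidHom⁆ ≤ ⁅L, L⁆ := by
    apply Subgroup.commutator_mono
    · rintro y ⟨t, ht, rfl⟩
      exact L.mul_mem (L.mul_mem hl ht) (L.inv_mem hl)
    · rintro y ⟨t, ht, rfl⟩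
      exact L.mul_mem (L.mul_mem hl ht) (L.inv_mem hl)
  exact h2 h1

omit [Finite G] in
theorem nbar_le_normalizer_comm (L : Subgroup G) :
    L ≤ Subgroup.normalizer ((⁅L, L⁆ : Subgroup G) : Set G) := by
  intro l hl
  rw [Subgroup.mem_normalizer_iff]
  intro h
  constructor
  · exact nbar_conj_comm hl h
  · intro hh
    have := nbar_conj_comm (L.inv_mem hl) _ hh
    have e : l⁻¹ * (l * h * l⁻¹) * l⁻¹⁻¹ = h := by group
    rwa [e] at this

theorem nbar_decomp (p : ℕ) [Fact p.Prime] (x : G) :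
    ∃ (k m : ℕ) (a b : ℤ), m.Coprime p ∧ x = (x ^ m) ^ b * (x ^ p ^ k) ^ a ∧
      ((x ^ m) ^ b) ^ p ^ k = 1 ∧ ((x ^ p ^ k) ^ a) ^ m = 1 := by
  have hpp : p.Prime := Fact.out
  have hn0 : orderOf x ≠ 0 := (orderOf_pos x).ne'
  have hmul : p ^ (orderOf x).factorization p * (orderOf x / p ^ (orderOf x).factorization p)
      = orderOf x := Nat.ordProj_mul_ordCompl_eq_self (orderOf x) p
  have hcop : p.Coprime (orderOf x / p ^ (orderOf x).factorization p) :=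
    Nat.coprime_ordCompl hpp hn0
  obtain ⟨k, hk⟩ : ∃ k : ℕ, k = (orderOf x).factorization p := ⟨_, rfl⟩
  obtain ⟨m, hm⟩ : ∃ m : ℕ, m = orderOf x / p ^ (orderOf x).factorization p := ⟨_, rfl⟩
  rw [← hm] at hmul hcop
  rw [← hk] at hmul
  have hcop2 : (p ^ k).Coprime m := Nat.Coprime.pow_left k hcop
  obtain ⟨a, b, hab⟩ := (Nat.isCoprime_iff_coprime.mpr hcop2)
  refine ⟨k, m, a, b, hcop.symm, ?_, ?_, ?_⟩
  · have h1 : (m : ℤ) * b + ((p ^ k : ℕ) : ℤ) * a = 1 := by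
      push_cast at hab ⊢; linarith [hab]
    have h2 : x ^ ((m : ℤ) * b + ((p ^ k : ℕ) : ℤ) * a) = x := by rw [h1, zpow_one]
    rw [zpow_add, zpow_mul, zpow_mul, zpow_natCast, zpow_natCast] at h2
    exact h2.symm
  · rw [← zpow_natCast, ← zpow_mul, mul_comm, zpow_mul, zpow_natCast, ← pow_mul, mul_comm, hmul,
      pow_orderOf_eq_one, one_zpow]
  · rw [← zpow_natCast, ← zpow_mul, mul_comm, zpow_mul, zpow_natCast, ← pow_mul, hmul,
      pow_orderOf_eq_one, one_zpow]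

theorem normalizer_comm_le (hG : IsMinSimpleOddOrder G) (R : Rows G) {M E A S : Subgroup G}
    {p : ℕ} [Fact p.Prime] (cs : CtxS M E p A S) :
    ⁅Subgroup.normalizer (A : Set G), Subgroup.normalizer (A : Set G)⁆ ≤
      Subgroup.centralizer (A : Set G) := by
  classical
  have hpp : p.Prime := Fact.out
  obtain ⟨L, hL, hNL, -, hEL⟩ := exists_Mstar hG R cs.c
  obtain ⟨hAS, hScomm, -, -, -⟩ := sylow_data hG R cs.c cs.hSE cs.hSp cs.hSyl
  have hSmax := sylow_of_G hG R cs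
  have hnb : p ∉ beta L := not_beta hG R cs L
  have hAp : IsPGroup p A := IsPGroup.of_card cs.c.hA2
  have hAN : A ≤ Subgroup.normalizer (A : Set G) := Subgroup.le_normalizer
  have hAL : A ≤ L := hAN.trans hNL
  have hpL : p ∣ Nat.card L := by
    have := Subgroup.card_dvd_of_le hAL
    rw [cs.c.hA2] at this
    exact (dvd_pow_self p two_ne_zero).trans this
  obtain ⟨-, -, -, -, h14⟩ := R.h14 L hL
  obtain ⟨hnpc, -, -⟩ := h14 p hpp hpL hnb
  -- `p`-elements of `N(A)` centralize `A`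
  have hpel : ∀ u ∈ Subgroup.normalizer (A : Set G), ∀ k : ℕ, u ^ p ^ k = 1 →
      u ∈ Subgroup.centralizer (A : Set G) := by
    intro u hu k huk
    have hzu : IsPGroup p (Subgroup.zpowers u) := by
      rintro ⟨g, hg⟩
      obtain ⟨i, rfl⟩ := Subgroup.mem_zpowers_iff.mp hg
      refine ⟨k, Subtype.ext ?_⟩
      show (u ^ i) ^ p ^ k = 1
      rw [← zpow_natCast, ← zpow_mul, mul_comm, zpow_mul, zpow_natCast, huk, one_zpow]
    have hW : IsPGroup p (Subgroup.zpowers u ⊔ A : Subgroup G) :=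
      IsPGroup.to_sup_of_normal_right' hzu hAp (Subgroup.zpowers_le.mpr hu)
    obtain ⟨P, hP⟩ := hW.exists_le_sylow
    obtain ⟨Q, hQ⟩ := cs.hSp.exists_le_sylow
    have hQS : (Q : Subgroup G) = S := hSmax Q Q.isPGroup' hQ
    obtain ⟨g, hg⟩ := MulAction.exists_smul_eq G P Q
    have hconj : ∀ y ∈ (P : Subgroup G), g * y * g⁻¹ ∈ S := by
      intro y hy
      rw [← hQS, ← hg, Sylow.coe_subgroup_smul]
      have := Subgroup.smul_mem_pointwise_smul y (MulAut.conj g) (P : Subgroup G) hy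
      simpa [MulAut.smul_def] using this
    rw [Subgroup.mem_centralizer_iff]
    intro a ha
    have h1 := hconj u (hP ((le_sup_left : Subgroup.zpowers u ≤ Subgroup.zpowers u ⊔ A)
      (Subgroup.mem_zpowers u)))
    have h2 := hconj a (hP ((le_sup_right : A ≤ Subgroup.zpowers u ⊔ A) ha))
    have h4 : g * u * g⁻¹ * (g * a * g⁻¹) = g * a * g⁻¹ * (g * u * g⁻¹) :=
      congrArg Subtype.val (hScomm.is_comm.comm ⟨_, h1⟩ ⟨_, h2⟩)
    calc a * u = g⁻¹ * (g * a * g⁻¹ * (g * u * g⁻¹)) * g := by group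
      _ = g⁻¹ * (g * u * g⁻¹ * (g * a * g⁻¹)) * g := by rw [h4]
      _ = u * a := by group
  -- `p'`-elements of `L' ⊓ N(A)` centralize `A`
  have hp'el : ∀ v ∈ Subgroup.normalizer (A : Set G), v ∈ ⁅L, L⁆ → ∀ m : ℕ, m.Coprime p →
      v ^ m = 1 → v ∈ Subgroup.centralizer (A : Set G) := by
    intro v hvN hvL m hm hvm
    have hT : (Nat.card (Subgroup.zpowers v)).Coprime p := by
      rw [Nat.card_zpowers]
      exact Nat.Coprime.coprime_dvd_left (orderOf_dvd_of_pow_eq_one hvm) hm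
    obtain ⟨K, hKL, hKp, hKn, hTK⟩ := Cfsg.Agent.Lib.Helper3.BG13T.le_npc_of_coprime hnpc
      (Subgroup.zpowers_le.mpr hvL) hT
    have hvK : v ∈ K := hTK (Subgroup.mem_zpowers v)
    rw [Subgroup.mem_centralizer_iff]
    intro a ha
    have haK : a ∈ Subgroup.normalizer (K : Set G) := hKn (nbar_le_normalizer_comm L (hAL ha))
    have h1 : a * v⁻¹ * a⁻¹ ∈ K := (Subgroup.mem_normalizer_iff.mp haK v⁻¹).mp (K.inv_mem hvK)
    have h2 : v * a * v⁻¹ * a⁻¹ ∈ K := by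
      have := K.mul_mem hvK h1
      have e : v * (a * v⁻¹ * a⁻¹) = v * a * v⁻¹ * a⁻¹ := by group
      rwa [e] at this
    have h3 : v * a * v⁻¹ ∈ A := (Subgroup.mem_normalizer_iff.mp hvN a).mp ha
    have h4 : v * a * v⁻¹ * a⁻¹ ∈ A := A.mul_mem h3 (A.inv_mem ha)
    have h5 : (v * a * v⁻¹ * a⁻¹) ^ p = 1 := cs.c.hA.2 _ h4
    have h6 : orderOf (v * a * v⁻¹ * a⁻¹) ∣ Nat.card K := by
      have := orderOf_dvd_natCard (⟨_, h2⟩ : K)
      rwa [Subgroup.orderOf_mk] at this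
    have h7 : orderOf (v * a * v⁻¹ * a⁻¹) ∣ Nat.gcd (Nat.card K) p :=
      Nat.dvd_gcd h6 (orderOf_dvd_of_pow_eq_one h5)
    rw [Nat.Coprime.gcd_eq_one hKp] at h7
    have h8 : v * a * v⁻¹ * a⁻¹ = 1 := orderOf_eq_one_iff.mp (Nat.dvd_one.mp h7)
    calc a * v = (v * a * v⁻¹ * a⁻¹)⁻¹ * (v * a) := by group
      _ = v * a := by rw [h8, inv_one, one_mul]
  -- main
  rw [Subgroup.commutator_le]
  intro g₁ hg₁ g₂ hg₂
  have hxL := Subgroup.commutator_mem_commutator (hNL hg₁) (hNL hg₂)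
  rw [commutatorElement_def] at hxL ⊢
  have hxN : g₁ * g₂ * g₁⁻¹ * g₂⁻¹ ∈ Subgroup.normalizer (A : Set G) :=
    Subgroup.mul_mem _ (Subgroup.mul_mem _ (Subgroup.mul_mem _ hg₁ hg₂) (Subgroup.inv_mem _ hg₁))
      (Subgroup.inv_mem _ hg₂)
  obtain ⟨k, m, a, b, hm, hx, hu, hv⟩ := nbar_decomp p (g₁ * g₂ * g₁⁻¹ * g₂⁻¹)
  rw [hx]
  refine Subgroup.mul_mem _ ?_ ?_
  · exact hpel _ (Subgroup.zpow_mem _ (Subgroup.pow_mem _ hxN m) b) k hu
  · exact hp'el _ (Subgroup.zpow_mem _ (Subgroup.pow_mem _ hxN _) a)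
      (Subgroup.zpow_mem _ (Subgroup.pow_mem _ hxL _) a) m hm hv

end Cfsg.Agent.Lib.Helper32.BG12X
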