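import Cfsg.Agent.Lib.Helper32.BG12XDefs
import Cfsg.Agent.Lib.Helper32.BG12XSylData
import Cfsg.Agent.Lib.Helper32.BG12XSylG
import Cfsg.Agent.Lib.Helper32.BG12XNbarAb
import Cfsg.Agent.Lib.Helper32.BG12XFixScalar
import Cfsg.Agent.Lib.Helper32.BG12XFreePair
import Cfsg.Agent.Lib.Helper40.NFNIL

/-!
# BGX piece CASE-TAU2 (rows S1421 / S1359 / S1360, helper32's job board)

Notation (see note 1896 / BG12XDefs.lean): `R : Rows G` bundles the earlier rows (R.h5 = B&G 10.5,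
R.h8, R.h12, R.h14 = 10.11, R.h17 = 12.5, R.h18 = 12.6, R.h19 = 12.7, R.h20 = 12.10, R.h27 = 13.3(a));
`c : Ctx7 M E p A` = (hM : IsCoatom M, hE : IsComplIn E (sigmaCore M) M, hp : p ∈ tau2 M, hAE : A ≤ E,
hA : IsElementaryAbelian p A, hA2 : Nat.card A = p ^ 2); `cs : CtxS M E p A S` = (c, hab : G has an
abelian Sylow p-subgroup, hSE : S ≤ E, hSp : IsPGroup p S, hSyl : ¬ p ∣ S.relIndex E);
`FreeSub M E V₁` = (le : V₁ ≤ E, tau : the primes of |V₁| are in τ₁(M) ∪ τ₃(M), free : no v ≠ 1 of V₁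
centralizes a nonidentity element of M_σ).  A "line" is a subgroup of order `p` of `A`; it is "good"
if `sigmaCore M ⊓ centralizer X = ⊥`.  Kit: Cfsg.Agent.Lib.Helper32.BG12.*, Helper3.BG13T.*,
`minSimple_solvable`, `minSimple_odd_sub`, `ut_of`, `alpha_sub_sigma`, `pgroup_le_sigmaCore`.

You may use the placeholders `sylow_data`, `sylow_of_G`, `normalizer_comm_le`, `fix_line_scalar`,
`free_pair_cyclic`, and `Helper3.BG13.mem_sigma_of_normalizer_elemAb_le`,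
`Helper3.BG13T.exists_compl_ge`, `Helper3.BG13T.exists_tau2_elemAb`.

Proof.  Suppose `y ∉ C(A)`.  Replace `z` by a power of order `q` (still in `C(A)`).
`q ≠ p` (`PRankLE q 1 M` from hqM, `¬ PRankLE p 1 M`).  `p ∈ σ(L)`, so `A ≤ S ≤ L_σ`
(`pgroup_le_sigmaCore`), and `S` is a Sylow `p`-subgroup of `L_σ` (sylow_of_G).  R.h17 for
`L`, `q` (with `B` below): `L_σ` is nilpotent, so `S` is characteristic in `L_σ`, `L ≤ N(S)`,
and `L ≤ N(A)` (`A = {x ∈ S | x ^ p = 1}`, sylow_data).  Take a complement `E_L` of `L_σ` in `L`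
containing `y` (exists_compl_ge) and `B ≤ E_L` elementary abelian of order `q ^ 2`
(exists_tau2_elemAb).  R.h18 for `L`: subgroups of order `q` of `E_L` are in `B`, so `z ∈ B`;
R.h17 for `L`: `L_σ ⊓ C(B) = ⊥`, so `¬ B ≤ C(A)` (`A ≤ L_σ`, `A ≠ ⊥`, `A` abelian): pick
`b ∈ B`, `b ∉ C(A)`; `b ^ q = 1`.  `Q := zpowers y ⊔ B` is a `q`-subgroup of `L` (`B` normal in
`E_L`), so abelian (R.h17 (b) for `L`), and `Q ≤ L ≤ N(A)`.  Every `g ∈ Q` is in `C(A)` or acts
freely on `A` (fix_line_scalar with `H = N(A)`, second part; `p ∤ orderOf g`).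
free_pair_cyclic: `b * y ^ i ∈ C(A) ≤ E` (R.h18 (b)), so `b ∈ E ≤ M`.  `z ∈ E ≤ M`,
`b ∉ zpowers z` (`z ∈ C(A)`), so `⟨z, b⟩ ≤ M` is abelian of exponent `q` and order `q ^ 2`,
contradicting `PRankLE q 1 M`.
-/

set_option autoImplicit false

open Cfsg Cfsg.Agent.Lib.Helper32 Cfsg.Agent.Lib.Helper32.BG10 Cfsg.Agent.Lib.Helper3.BG12
  Cfsg.Agent.Lib.Helper15.BG12

namespace Cfsg.Agent.Lib.Helper32.BG12X

universe u

variable {G : Type u} [Group G] [Finite G]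

/-- elements of a `q`-subgroup of `L` commute when the Sylow `q`-subgroups of `L` are abelian -/
theorem caseTau2_comm {L Q : Subgroup G} {q : ℕ} [Fact q.Prime]
    (hsyl : ∀ P : Sylow q L, IsMulCommutative (P : Subgroup L)) (hQ : IsPGroup q Q)
    (hQL : Q ≤ L) : ∀ a ∈ Q, ∀ b ∈ Q, a * b = b * a := by
  intro a ha b hb
  have hQ' : IsPGroup q (Q.subgroupOf L) :=
    hQ.comap_of_injective L.subtype L.subtype_injective
  obtain ⟨P, hP⟩ := hQ'.exists_le_sylow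
  have haP : (⟨a, hQL ha⟩ : L) ∈ (P : Subgroup L) := hP (Subgroup.mem_subgroupOf.mpr ha)
  have hbP : (⟨b, hQL hb⟩ : L) ∈ (P : Subgroup L) := hP (Subgroup.mem_subgroupOf.mpr hb)
  have h1 := (hsyl P).is_comm.comm (⟨⟨a, hQL ha⟩, haP⟩ : (P : Subgroup L))
    (⟨⟨b, hQL hb⟩, hbP⟩ : (P : Subgroup L))
  have h2 := congrArg (fun t : (P : Subgroup L) => ((t : L) : G)) h1
  simpa using h2

theorem centralizes_of_tau2 (hG : IsMinSimpleOddOrder G) (R : Rows G) {M E A S : Subgroup G}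
    {p : ℕ} [Fact p.Prime] (cs : CtxS M E p A S)
    (hirr : ∀ X : Subgroup G, X ≤ A → Nat.card X = p →
      ¬ Subgroup.normalizer (A : Set G) ≤ Subgroup.normalizer (X : Set G))
    {L : Subgroup G} (hL : IsCoatom L) (hNL : Subgroup.normalizer (A : Set G) ≤ L) {q : ℕ}
    [Fact q.Prime] (hqM : q ∈ tau1 M ∪ tau3 M) (hqL : q ∈ tau2 L) {y : G} (hyE : y ∈ E)
    (hyq : ∃ k : ℕ, y ^ q ^ k = 1) {z : G} (hz : z ∈ Subgroup.zpowers y) (hz1 : z ≠ 1)
    (hzA : z ∈ Subgroup.centralizer (A : Set G)) :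
    y ∈ Subgroup.centralizer (A : Set G) := by
  by_contra hyA
  have hp : p.Prime := Fact.out
  have hq : q.Prime := Fact.out
  have c := cs.c
  obtain ⟨hAS, -, -, hNSA, -⟩ := sylow_data hG R c cs.hSE cs.hSp cs.hSyl
  have h18 := R.h18 M c.hM E c.hE p c.hp A ⟨c.hAE, c.hA, c.hA2⟩
  have hEN : E ≤ Subgroup.normalizer (A : Set G) := h18.1.1
  have hEM : E ≤ M := c.hE.1
  have hCE : Subgroup.centralizer (A : Set G) ≤ E := by
    have := h18.2.1.1
    rw [h18.2.1.2.1] at this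
    exact this
  have hEL : E ≤ L := hEN.trans hNL
  -- `q ≠ p`
  have hq1 : PRankLE q 1 M := by
    rcases hqM with h | h
    · exact h.2.2.2.2
    · exact h.2.2.2
  have hqp : q ≠ p := by
    intro h
    rw [h] at hq1
    exact c.hp.2.2.2 hq1
  -- `p ∈ σ(L)`, `S ≤ L_σ`
  have hpL : p ∈ sigma L :=
    Cfsg.Agent.Lib.Helper3.BG13.mem_sigma_of_normalizer_elemAb_le hG R.h18 hL c.hA c.hA2 hNL
  have hSL : S ≤ L := cs.hSE.trans hEL
  have hSLσ : S ≤ sigmaCore L :=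
    Cfsg.Agent.Lib.Helper32.BG12.pgroup_le_sigmaCore hG hL hpL cs.hSp hSL
  -- the complement `E_L` and `B`
  obtain ⟨k, hk⟩ := hyq
  have hyq' : IsPGroup q (Subgroup.zpowers y) := by
    have h1 : Nat.card (Subgroup.zpowers y) ∣ q ^ k := by
      rw [Nat.card_zpowers]; exact orderOf_dvd_of_pow_eq_one hk
    obtain ⟨j, -, hj⟩ := (Nat.dvd_prime_pow hq).mp h1
    exact IsPGroup.of_card hj
  have hyL : Subgroup.zpowers y ≤ L := by rw [Subgroup.zpowers_le]; exact hEL hyE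
  obtain ⟨EL, hELc, hyEL⟩ := Cfsg.Agent.Lib.Helper3.BG13T.exists_compl_ge hG hL hyL
    (Cfsg.Agent.Lib.Helper3.BG13T.coprime_of_sigma hG hqL.2.1 hyq' le_rfl)
  obtain ⟨B, hBE, hB, hB2⟩ :=
    Cfsg.Agent.Lib.Helper3.BG13T.exists_tau2_elemAb hG hL hELc hqL
  have hELL : EL ≤ L := hELc.1
  have h17L := R.h17 L hL q hqL B ⟨hBE.trans hELL, hB, hB2⟩
  have h18L := R.h18 L hL EL hELc q hqL B ⟨hBE, hB, hB2⟩
  -- `L ≤ N(A)`
  have hLNA : L ≤ Subgroup.normalizer (A : Set G) := by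
    obtain ⟨P, hP, hSP⟩ := exists_sylSet_ge cs.hSp hSLσ
    have hPp : IsPGroup p P := IsPGroup.of_card hP.2
    have hPS : P = S := sylow_of_G hG R cs P hPp hSP
    rw [hPS] at hP
    obtain ⟨-, hmem, -⟩ := Cfsg.Agent.Lib.Helper40.NF.nil_syl h17L.1 hP
    have hn : L ≤ Subgroup.normalizer ((sigmaCore L : Subgroup G) : Set G) :=
      le_normalizer_map_subtype L _
    have key : ∀ g ∈ L, ∀ s ∈ S, g * s * g⁻¹ ∈ S := by
      intro g hg s hs
      refine hmem _ ((Subgroup.mem_normalizer_iff.mp (hn hg) s).mp (hSLσ hs)) ?_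
      obtain ⟨j, hj⟩ := cs.hSp ⟨s, hs⟩
      have hj' : s ^ p ^ j = 1 := by simpa using congrArg Subtype.val hj
      exact ⟨j, by rw [conj_pow, hj']; group⟩
    refine le_trans ?_ hNSA
    intro g hg
    rw [Subgroup.mem_normalizer_iff]
    intro s
    refine ⟨key g hg s, fun h => ?_⟩
    have := key g⁻¹ (L.inv_mem hg) _ h
    simpa [mul_assoc] using this
  -- an element `z'` of order `q` in `zpowers z`
  have hzo : orderOf z ∣ q ^ k :=
    (orderOf_dvd_of_mem_zpowers hz).trans (orderOf_dvd_of_pow_eq_one hk)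
  have hqz : q ∣ Nat.card (Subgroup.zpowers z) := by
    rw [Nat.card_zpowers]
    obtain ⟨j, -, hj⟩ := (Nat.dvd_prime_pow hq).mp hzo
    have hj0 : j ≠ 0 := by
      rintro rfl
      rw [pow_zero] at hj
      exact hz1 (orderOf_eq_one_iff.mp hj)
    rw [hj]; exact dvd_pow_self q hj0
  obtain ⟨w, hw⟩ := exists_prime_orderOf_dvd_card' q hqz
  obtain ⟨z', hz'⟩ : ∃ z' : G, z' = (w : G) := ⟨_, rfl⟩
  have hz'o : orderOf z' = q := by rw [hz', Subgroup.orderOf_coe]; exact hw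
  have hz'z : z' ∈ Subgroup.zpowers z := hz' ▸ w.2
  have hz'y : z' ∈ Subgroup.zpowers y := (Subgroup.zpowers_le.mpr hz) hz'z
  have hz'A : z' ∈ Subgroup.centralizer (A : Set G) := (Subgroup.zpowers_le.mpr hzA) hz'z
  have hz'E : z' ∈ E := (Subgroup.zpowers_le.mpr hyE) hz'y
  have hz'c : Nat.card (Subgroup.zpowers z') = q := by rw [Nat.card_zpowers, hz'o]
  have hz'B : z' ∈ B := by
    have h1 : Subgroup.zpowers z' ≤ EL := by
      rw [Subgroup.zpowers_le]; exact hyEL hz'y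
    exact h18L.1.2 _ h1 hz'c (Subgroup.mem_zpowers z')
  -- `A ≠ ⊥`, `¬ B ≤ C(A)`
  have hA1 : A ≠ ⊥ := by
    intro h
    have h1 := c.hA2
    rw [h, Subgroup.card_bot] at h1
    have h2 : 1 < p ^ 2 := Nat.one_lt_pow (by norm_num) hp.one_lt
    omega
  have hALσ : A ≤ sigmaCore L := hAS.trans hSLσ
  have hBA : ¬ B ≤ Subgroup.centralizer (A : Set G) := by
    intro h
    apply hA1
    rw [eq_bot_iff, ← h17L.2.2.2.1]
    refine le_inf hALσ (fun a ha => ?_)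
    rw [Subgroup.mem_centralizer_iff]
    intro b hb
    exact ((Subgroup.mem_centralizer_iff.mp (h hb)) a ha).symm
  obtain ⟨b, hbB, hbA⟩ := SetLike.not_le_iff_exists.mp hBA
  -- `Q = ⟨y⟩ B`
  have hBq : IsPGroup q B := IsPGroup.of_card hB2
  have hyNB : Subgroup.zpowers y ≤ Subgroup.normalizer (B : Set G) := by
    rw [Subgroup.zpowers_le]; exact h18L.1.1 (hyEL (Subgroup.mem_zpowers y))
  have hQq : IsPGroup q (Subgroup.zpowers y ⊔ B : Subgroup G) :=
    IsPGroup.to_sup_of_normal_right' hyq' hBq hyNB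
  have hQEL : Subgroup.zpowers y ⊔ B ≤ EL := sup_le hyEL hBE
  have hQL : Subgroup.zpowers y ⊔ B ≤ L := hQEL.trans hELL
  have hQab : IsMulCommutative (Subgroup.zpowers y ⊔ B : Subgroup G) := by
    refine ⟨⟨?_⟩⟩
    rintro ⟨a, ha⟩ ⟨b', hb'⟩
    exact Subtype.ext (caseTau2_comm (fun P => (h17L.2.1 P).1) hQq hQL a ha b' hb')
  have hQA : Subgroup.zpowers y ⊔ B ≤ Subgroup.normalizer (A : Set G) := hQL.trans hLNA
  have hfree : ∀ g ∈ (Subgroup.zpowers y ⊔ B : Subgroup G),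
      g ∈ Subgroup.centralizer (A : Set G) ∨ ∀ a ∈ A, g * a = a * g → a = 1 := by
    intro g hg
    by_cases hgA : g ∈ Subgroup.centralizer (A : Set G)
    · exact Or.inl hgA
    · right
      intro a ha hga
      by_contra ha1
      have hgp : ¬ p ∣ orderOf g := by
        intro hd
        obtain ⟨j, hj⟩ := hQq ⟨g, hg⟩
        have hj' : g ^ q ^ j = 1 := by simpa using congrArg Subtype.val hj
        have h1 : p ∣ q ^ j := hd.trans (orderOf_dvd_of_pow_eq_one hj')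
        exact hqp ((Nat.prime_dvd_prime_iff_eq hp hq).mp (hp.dvd_of_dvd_pow h1)).symm
      exact hgA ((fix_line_scalar c.hA c.hA2 le_rfl (normalizer_comm_le hG R cs) hirr
        (hQA hg) hgp).2 ⟨a, ha, ha1, hga⟩)
  have hcop : ¬ q ∣ Nat.card A := by
    rw [c.hA2]
    intro hd
    exact hqp ((Nat.prime_dvd_prime_iff_eq hq hp).mp (hq.dvd_of_dvd_pow hd))
  have hbQ : b ∈ (Subgroup.zpowers y ⊔ B : Subgroup G) := (le_sup_right : B ≤ _) hbB
  have hyQ : y ∈ (Subgroup.zpowers y ⊔ B : Subgroup G) :=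
    (le_sup_left : Subgroup.zpowers y ≤ _) (Subgroup.mem_zpowers y)
  have hbq : b ^ q ∈ Subgroup.centralizer (A : Set G) := by
    rw [hB.2 b hbB]; exact Subgroup.one_mem _
  obtain ⟨i, hi⟩ := free_pair_cyclic c.hA.1 hA1 hQab hQq hQA hcop hfree hbQ hyQ hbq hyA
  have hbE : b ∈ E := by
    have h1 : b = (b * y ^ i) * (y ^ i)⁻¹ := by group
    rw [h1]
    exact E.mul_mem (hCE hi) (E.inv_mem (E.pow_mem hyE i))
  -- contradiction: `M` has `q`-rank at least 2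
  refine not_prankLE_of_le (inf_le_right : B ⊓ M ≤ M) ?_ ?_ ?_ hq1
  · intro a ha b' hb'
    exact congrArg Subtype.val (hB.1.is_comm.comm ⟨a, ha.1⟩ ⟨b', hb'.1⟩)
  · intro a ha; exact hB.2 a ha.1
  · rw [pow_one]
    by_contra hle
    have h1 : Subgroup.zpowers z' ≤ B ⊓ M := by
      rw [Subgroup.zpowers_le]; exact ⟨hz'B, hEM hz'E⟩
    have h3 : Subgroup.zpowers z' = B ⊓ M :=
      Subgroup.eq_of_le_of_card_ge h1 (by rw [hz'c]; exact not_lt.mp hle)
    have h4 : b ∈ Subgroup.zpowers z' := by rw [h3]; exact ⟨hbB, hEM hbE⟩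
    exact hbA ((Subgroup.zpowers_le.mpr hz'A) h4)

end Cfsg.Agent.Lib.Helper32.BG12X
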