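import Cfsg.Agent.Lib.Helper32.BG12XDefs

/-!
# BGX piece LINE-GOOD (rows S1421 / S1359 / S1360, helper32's job board)

Notation (see note 1896 / BG12XDefs.lean): `R : Rows G` bundles the earlier rows (R.h5 = B&G 10.5,
R.h8, R.h12, R.h14 = 10.11, R.h17 = 12.5, R.h18 = 12.6, R.h19 = 12.7, R.h20 = 12.10, R.h27 = 13.3(a));
`c : Ctx7 M E p A` = (hM : IsCoatom M, hE : IsComplIn E (sigmaCore M) M, hp : p ∈ tau2 M, hAE : A ≤ E,
hA : IsElementaryAbelian p A, hA2 : Nat.card A = p ^ 2); `cs : CtxS M E p A S` = (c, hab : G has an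
abelian Sylow p-subgroup, hSE : S ≤ E, hSp : IsPGroup p S, hSyl : ¬ p ∣ S.relIndex E);
`FreeSub M E V₁` = (le : V₁ ≤ E, tau : the primes of |V₁| are in τ₁(M) ∪ τ₃(M), free : no v ≠ 1 of V₁
centralizes a nonidentity element of M_σ).  A "line" is a subgroup of order `p` of `A`; it is "good"
if `sigmaCore M ⊓ centralizer X = ⊥`.  Kit: Cfsg.Agent.Lib.Helper32.BG12.*, Helper3.BG13T.*,
`minSimple_solvable`, `minSimple_odd_sub`, `ut_of`, `alpha_sub_sigma`, `pgroup_le_sigmaCore`.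

Proof.  If `sigmaCore M ⊓ C(X) ≠ ⊥`, R.h18 (c) gives: `C(X) ≤ M` and `M` is the only coatom
containing `C(X)`.  `X ≠ ⊥` and `G` simple, so `N(X) ≠ ⊤` and `N(X) ≤ L` for a coatom `L`;
`C(X) ≤ N(X) ≤ L` gives `L = M`, so `N ≤ N(X) ≤ M`, contradicting hNM.
-/

set_option autoImplicit false

open Cfsg Cfsg.Agent.Lib.Helper32 Cfsg.Agent.Lib.Helper32.BG10 Cfsg.Agent.Lib.Helper3.BG12
  Cfsg.Agent.Lib.Helper15.BG12

namespace Cfsg.Agent.Lib.Helper32.BG12X

universe u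

variable {G : Type u} [Group G] [Finite G]

theorem normalized_line_good (hG : IsMinSimpleOddOrder G) (R : Rows G) {M E A : Subgroup G}
    {p : ℕ} [Fact p.Prime] (c : Ctx7 M E p A) {X : Subgroup G} (hXA : X ≤ A)
    (hXc : Nat.card X = p) {N : Subgroup G} (hN : N ≤ Subgroup.normalizer (X : Set G))
    (hNM : ¬ N ≤ M) :
    sigmaCore M ⊓ Subgroup.centralizer (X : Set G) = ⊥ := by
  by_contra hne
  have hp : p.Prime := Fact.out
  have hs : IsSimpleGroup G := hG.2.1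
  obtain ⟨hCM, huniq⟩ :=
    (R.h18 M c.hM E c.hE p c.hp A ⟨c.hAE, c.hA, c.hA2⟩).2.2 X hXA hXc hne
  have hMtop : M ≠ ⊤ := c.hM.1
  have hXM : X ≤ M := hXA.trans (c.hAE.trans c.hE.1)
  have hXbot : X ≠ ⊥ := by
    intro h
    rw [h, Subgroup.card_bot] at hXc
    exact hp.one_lt.ne hXc
  have hXtop : X ≠ ⊤ := by
    intro h
    apply hMtop
    rw [eq_top_iff, ← h]
    exact hXM
  have hNX : Subgroup.normalizer (X : Set G) ≠ ⊤ := by
    intro h
    have hn : X.Normal := Subgroup.normalizer_eq_top_iff.1 h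
    rcases hn.eq_bot_or_eq_top with h1 | h1
    · exact hXbot h1
    · exact hXtop h1
  obtain ⟨L, hL, hNL⟩ := (eq_top_or_exists_le_coatom _).resolve_left hNX
  have hLM : L = M := huniq L hL ((Subgroup.centralizer_le_normalizer _).trans hNL)
  exact hNM (hN.trans (hLM ▸ hNL))

end Cfsg.Agent.Lib.Helper32.BG12X
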