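import Cfsg.Agent.Lib.Helper32.BG12XDefs
import Cfsg.Agent.Lib.Helper16.PQFm

/-!
# BGX piece FROB (rows S1421 / S1359 / S1360, helper32's job board)

Generic: a Frobenius group `A ⋊ ⟨z⟩` (`z` of prime order `q` acting freely on the abelian
group `A`) acting on an abelian group `V ≠ 1` of order prime to `|A|` with `C_V(A) = 1` has
`C_V(z) ≠ 1`.

Proof.  Suppose `C_V(z) = 1`.  Write `g • w = g w g⁻¹` (`V` abelian, products in `V`).
(i) `∏_{i<q} z^i • w ∈ C_V(z) = 1` for `w ∈ V`; the same for every conjugate `z_b = b z b⁻¹`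
(`b ∈ A`), since `C_V(z_b) = b • C_V(z) = 1`.  (ii) `∏_{a∈A} a • w ∈ C_V(A) = 1`.
(iii) for `0 < i < q`, `z^i` also acts freely on `A` (`z ∈ zpowers (z^i)`), so
`b ↦ b (z^i b⁻¹ z^{-i})` is injective, hence bijective on `A`, and
`b z^i b⁻¹ = (b z^i b⁻¹ z^{-i}) z^i`; therefore
`∏_{a∈A} (a z^i) • w = ∏_{b∈A} (b z^i b⁻¹) • w`.
Now `P := ∏_{a∈A} ∏_{i<q} (a z^i) • w = ∏_a a • (∏_i z^i • w) = 1` by (i).  On the other hand
`P = (∏_a a • w) · ∏_{0<i<q} ∏_b (z_b^i) • w = 1 · ∏_b ((∏_{i<q} z_b^i • w) · w⁻¹) = w^(-|A|)`.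
So `w ^ |A| = 1`, and `w = 1` as `|A|` is prime to `|V|`.  Hence `V = ⊥`, a contradiction.
-/

set_option autoImplicit false

open Cfsg Cfsg.Agent.Lib.Helper32 Cfsg.Agent.Lib.Helper32.BG10 Cfsg.Agent.Lib.Helper3.BG12
  Cfsg.Agent.Lib.Helper15.BG12

namespace Cfsg.Agent.Lib.Helper32.BG12X

universe u

variable {G : Type u} [Group G] [Finite G]

theorem frobenius_fixed_point {q : ℕ} [Fact q.Prime] {A V : Subgroup G} {z : G}
    (hA : IsMulCommutative A) (hV : IsMulCommutative V) (hV1 : V ≠ ⊥)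
    (hAV : A ≤ Subgroup.normalizer (V : Set G)) (hzV : z ∈ Subgroup.normalizer (V : Set G))
    (hzA : z ∈ Subgroup.normalizer (A : Set G)) (hzq : orderOf z = q)
    (hfree : ∀ a ∈ A, z * a = a * z → a = 1)
    (hcop : (Nat.card A).Coprime (Nat.card V))
    (hCA : V ⊓ Subgroup.centralizer (A : Set G) = ⊥) :
    V ⊓ Subgroup.centralizer ({z} : Set G) ≠ ⊥ := by
  intro hbot
  have hq : q.Prime := Fact.out
  have hzq' : z ^ q = 1 := by rw [← hzq]; exact pow_orderOf_eq_one z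
  have hVab : Cfsg.Agent.Lib.Helper72.PQ.Ab V := by
    intro x hx y hy
    have h : (⟨x, hx⟩ : V) * ⟨y, hy⟩ = ⟨y, hy⟩ * ⟨x, hx⟩ := hV.is_comm.comm ⟨x, hx⟩ ⟨y, hy⟩
    exact congrArg Subtype.val h
  have hfix : ∀ w ∈ V, z * w = w * z → w = 1 := by
    intro w hw hc
    have hmem : w ∈ V ⊓ Subgroup.centralizer ({z} : Set G) := by
      refine Subgroup.mem_inf.2 ⟨hw, ?_⟩
      rw [Subgroup.mem_centralizer_iff]
      intro g hg
      rw [Set.mem_singleton_iff] at hg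
      rw [hg]
      exact hc
    rw [hbot] at hmem
    exact Subgroup.mem_bot.1 hmem
  have hfpf : ∀ j, 0 < j → j < q → ∀ x ∈ A, z ^ j * x = x * z ^ j → x = 1 := by
    intro j hj0 hjq x hx hc
    apply hfree x hx
    have hcopj : Nat.Coprime j (orderOf z) := by
      rw [hzq]
      exact Nat.Coprime.symm ((Nat.Prime.coprime_iff_not_dvd hq).2
        (Nat.not_dvd_of_pos_of_lt hj0 hjq))
    obtain ⟨k, hk⟩ := exists_pow_eq_self_of_coprime hcopj
    have h1 : Commute (z ^ j) x := hc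
    have h2 : Commute ((z ^ j) ^ k) x := h1.pow_left k
    rw [hk] at h2
    exact h2
  have key := Cfsg.Agent.Lib.Helper16.PQ.fm.{u} G V A z q hq.pos hzq' hVab hAV hzV hzA hfpf
    hcop hfix
  apply hV1
  rw [eq_bot_iff]
  intro w hw
  have hmem : w ∈ V ⊓ Subgroup.centralizer (A : Set G) := by
    refine Subgroup.mem_inf.2 ⟨hw, ?_⟩
    rw [Subgroup.mem_centralizer_iff]
    intro a ha
    exact key a ha w hw
  rw [hCA] at hmem
  exact hmem

end Cfsg.Agent.Lib.Helper32.BG12X
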