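import Cfsg.Agent.Lib.Helper32.BG12XDefs
import Cfsg.Agent.Lib.Helper32.BG12XNbarAb
import Cfsg.Agent.Lib.Helper32.BG12XFixScalar
import Cfsg.Agent.Lib.Helper32.BG12XFrob

/-!
# BGX piece Z-TRIV (rows S1421 / S1359 / S1360, helper32's job board)

Notation (see note 1896 / BG12XDefs.lean): `R : Rows G` bundles the earlier rows (R.h5 = B&G 10.5,
R.h8, R.h12, R.h14 = 10.11, R.h17 = 12.5, R.h18 = 12.6, R.h19 = 12.7, R.h20 = 12.10, R.h27 = 13.3(a));
`c : Ctx7 M E p A` = (hM : IsCoatom M, hE : IsComplIn E (sigmaCore M) M, hp : p ∈ tau2 M, hAE : A ≤ E,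
hA : IsElementaryAbelian p A, hA2 : Nat.card A = p ^ 2); `cs : CtxS M E p A S` = (c, hab : G has an
abelian Sylow p-subgroup, hSE : S ≤ E, hSp : IsPGroup p S, hSyl : ¬ p ∣ S.relIndex E);
`FreeSub M E V₁` = (le : V₁ ≤ E, tau : the primes of |V₁| are in τ₁(M) ∪ τ₃(M), free : no v ≠ 1 of V₁
centralizes a nonidentity element of M_σ).  A "line" is a subgroup of order `p` of `A`; it is "good"
if `sigmaCore M ⊓ centralizer X = ⊥`.  Kit: Cfsg.Agent.Lib.Helper32.BG12.*, Helper3.BG13T.*,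
`minSimple_solvable`, `minSimple_odd_sub`, `ut_of`, `alpha_sub_sigma`, `pgroup_le_sigmaCore`.

You may use the placeholders `normalizer_comm_le`, `fix_line_scalar`, `frobenius_fixed_point`.

Proof.  `q ≠ p` (`q ∣ |V₁|` is in `τ₁(M) ∪ τ₃(M)`, of rank 1, `p ∈ τ₂(M)`).  `z ∈ E ≤ N(A)`
(R.h18 (a)).  Suppose `z ∉ C(A)`.  fix_line_scalar with `H = N(A)` (hab = normalizer_comm_le,
hirr), second part: `z` commutes with no `a ≠ 1` of `A`.  Let
`V = sigmaCore M ⊓ centralizer (sigmaCore M)` (the centre of `M_σ`): abelian, `≠ ⊥` because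
`M_σ ≠ ⊥` is nilpotent (R.h17 (a)), normalized by `M ∋ z`, `M ≥ A`; `|A| = p ^ 2` is prime to
`|M_σ|` (`p ∉ σ(M)`, `coprime_of_sigma`); `V ⊓ C(A) ≤ M_σ ⊓ C(A) = ⊥` (R.h17 (d)).
frobenius_fixed_point: `V ⊓ C(z) ≠ ⊥`, so `M_σ ⊓ C(z) ≠ ⊥`, contradicting `hV₁.free z`.
-/

set_option autoImplicit false

open Cfsg Cfsg.Agent.Lib.Helper32 Cfsg.Agent.Lib.Helper32.BG10 Cfsg.Agent.Lib.Helper3.BG12
  Cfsg.Agent.Lib.Helper15.BG12

namespace Cfsg.Agent.Lib.Helper32.BG12X

universe u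

variable {G : Type u} [Group G] [Finite G]

theorem prime_order_centralizes (hG : IsMinSimpleOddOrder G) (R : Rows G)
    {M E A S : Subgroup G} {p : ℕ} [Fact p.Prime] (cs : CtxS M E p A S)
    (hirr : ∀ X : Subgroup G, X ≤ A → Nat.card X = p →
      ¬ Subgroup.normalizer (A : Set G) ≤ Subgroup.normalizer (X : Set G))
    (hσ : sigmaCore M ≠ ⊥) {V₁ : Subgroup G} (hV₁ : FreeSub M E V₁) {z : G} (hz : z ∈ V₁)
    {q : ℕ} (hq : q.Prime) (hzq : orderOf z = q) :
    z ∈ Subgroup.centralizer (A : Set G) := by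
  classical
  have c := cs.c
  have hp : p.Prime := Fact.out
  haveI : Fact q.Prime := ⟨hq⟩
  have hEM : E ≤ M := c.hE.1
  have hAM : A ≤ M := c.hAE.trans hEM
  have h18 := R.h18 M c.hM E c.hE p c.hp A ⟨c.hAE, c.hA, c.hA2⟩
  have h17 := R.h17 M c.hM p c.hp A ⟨hAM, c.hA, c.hA2⟩
  have hzE : z ∈ E := hV₁.le hz
  have hzM : z ∈ M := hEM hzE
  have hzN : z ∈ Subgroup.normalizer (A : Set G) := h18.1.1 hzE
  have hz1 : z ≠ 1 := by
    intro h
    rw [h, orderOf_one] at hzq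
    exact hq.ne_one hzq.symm
  -- `q ≠ p`
  have hqV : q ∣ Nat.card V₁ := by
    rw [← hzq]
    exact Subgroup.orderOf_dvd_natCard V₁ hz
  have hqp : q ≠ p := by
    intro h
    have h1 := hV₁.tau q hq hqV
    have h2 : PRankLE q 1 M := by
      rcases h1 with h1 | h1
      · exact h1.2.2.2.2
      · exact h1.2.2.2
    rw [h] at h2
    exact c.hp.2.2.2 h2
  have hgp : ¬ p ∣ orderOf z := by
    rw [hzq]
    intro h
    exact hqp ((Nat.prime_dvd_prime_iff_eq hp hq).1 h).symm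
  by_contra hzC
  have hfs := (fix_line_scalar c.hA c.hA2 (le_refl _) (normalizer_comm_le hG R cs) hirr hzN
    hgp).2
  have hfree : ∀ a ∈ A, z * a = a * z → a = 1 := by
    intro a ha hza
    by_contra ha1
    exact hzC (hfs ⟨a, ha, ha1, hza⟩)
  -- the centre `V` of `M_σ`
  obtain ⟨V, hVdef⟩ : ∃ V : Subgroup G,
      V = sigmaCore M ⊓ Subgroup.centralizer (sigmaCore M : Set G) := ⟨_, rfl⟩
  have hVle : V ≤ sigmaCore M := by rw [hVdef]; exact inf_le_left
  have hVcomm : IsMulCommutative V := by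
    refine ⟨⟨fun a b => ?_⟩⟩
    apply Subtype.ext
    have hle2 : V ≤ Subgroup.centralizer (sigmaCore M : Set G) := by
      rw [hVdef]
      exact inf_le_right
    have hb : (b : G) ∈ Subgroup.centralizer (sigmaCore M : Set G) := hle2 b.2
    have ha : (a : G) ∈ sigmaCore M := hVle a.2
    exact (Subgroup.mem_centralizer_iff.1 hb) (a : G) ha
  have hV1 : V ≠ ⊥ := by
    haveI : Nontrivial ↥(sigmaCore M) := (Subgroup.nontrivial_iff_ne_bot _).2 hσ
    haveI : Group.IsNilpotent ↥(sigmaCore M) := h17.1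
    have hc : Subgroup.center ↥(sigmaCore M) ≠ ⊥ := Group.IsNilpotent.center_ne_bot _
    obtain ⟨x, hx1⟩ := (Subgroup.ne_bot_iff_exists_ne_one).1 hc
    intro hbot
    have hxV : (((x : ↥(sigmaCore M)) : G)) ∈ V := by
      rw [hVdef]
      apply Subgroup.mem_inf.2
      refine ⟨(x : ↥(sigmaCore M)).2, ?_⟩
      rw [Subgroup.mem_centralizer_iff]
      intro y hy
      have h1 := Subgroup.mem_center_iff.1 x.2 ⟨y, hy⟩
      exact congrArg Subtype.val h1
    rw [hbot, Subgroup.mem_bot] at hxV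
    exact hx1 (Subtype.ext (Subtype.ext hxV))
  have hMσ : M ≤ Subgroup.normalizer ((sigmaCore M : Subgroup G) : Set G) :=
    le_normalizer_map_subtype M _
  have hMV : M ≤ Subgroup.normalizer (V : Set G) := by
    rw [Subgroup.le_normalizer_iff]
    intro m hm k hk
    rw [hVdef] at hk ⊢
    have hk := Subgroup.mem_inf.1 hk
    have h1 := (Subgroup.le_normalizer_iff.1 hMσ) m hm
    apply Subgroup.mem_inf.2
    refine ⟨h1 k hk.1, ?_⟩
    rw [Subgroup.mem_centralizer_iff]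
    intro y hy
    have hy' : m⁻¹ * y * m ∈ sigmaCore M := by
      have h2 := (Subgroup.le_normalizer_iff.1 hMσ) m⁻¹ (M.inv_mem hm) y hy
      rwa [inv_inv] at h2
    have h2 := (Subgroup.mem_centralizer_iff.1 hk.2) _ hy'
    calc y * (m * k * m⁻¹) = m * ((m⁻¹ * y * m) * k) * m⁻¹ := by group
      _ = m * (k * (m⁻¹ * y * m)) * m⁻¹ := by rw [h2]
      _ = m * k * m⁻¹ * y := by group
  have hAp : IsPGroup p A := IsPGroup.of_card c.hA2
  have hcop : (Nat.card A).Coprime (Nat.card V) :=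
    Cfsg.Agent.Lib.Helper3.BG13T.coprime_of_sigma hG c.hp.2.1 hAp hVle
  have hCA : V ⊓ Subgroup.centralizer (A : Set G) = ⊥ := by
    rw [← le_bot_iff, ← h17.2.2.2.1]
    exact inf_le_inf_right _ hVle
  have hfrob := frobenius_fixed_point (q := q) (A := A) (V := V) (z := z) c.hA.1 hVcomm hV1
    (hAM.trans hMV) (hMV hzM) hzN hzq hfree hcop hCA
  apply hfrob
  rw [← le_bot_iff, ← hV₁.free z hz hz1]
  exact inf_le_inf_right _ hVle

end Cfsg.Agent.Lib.Helper32.BG12X
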