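import Cfsg.Agent.Lib.Helper32.BG12XDefs
import Cfsg.Agent.Lib.Helper32.BG12XMstar
import Cfsg.Agent.Lib.Helper32.BG12XLineGood
import Cfsg.Agent.Lib.Helper32.BG12XZTriv
import Cfsg.Agent.Lib.Helper32.BG12XCaseSigma
import Cfsg.Agent.Lib.Helper32.BG12XCaseTau13
import Cfsg.Agent.Lib.Helper32.BG12XCaseTau2

/-!
# BGX piece INV-LINE (rows S1421 / S1359 / S1360, helper32's job board)

Notation (see note 1896 / BG12XDefs.lean): `R : Rows G` bundles the earlier rows (R.h5 = B&G 10.5,
R.h8, R.h12, R.h14 = 10.11, R.h17 = 12.5, R.h18 = 12.6, R.h19 = 12.7, R.h20 = 12.10, R.h27 = 13.3(a));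
`c : Ctx7 M E p A` = (hM : IsCoatom M, hE : IsComplIn E (sigmaCore M) M, hp : p ∈ tau2 M, hAE : A ≤ E,
hA : IsElementaryAbelian p A, hA2 : Nat.card A = p ^ 2); `cs : CtxS M E p A S` = (c, hab : G has an
abelian Sylow p-subgroup, hSE : S ≤ E, hSp : IsPGroup p S, hSyl : ¬ p ∣ S.relIndex E);
`FreeSub M E V₁` = (le : V₁ ≤ E, tau : the primes of |V₁| are in τ₁(M) ∪ τ₃(M), free : no v ≠ 1 of V₁
centralizes a nonidentity element of M_σ).  A "line" is a subgroup of order `p` of `A`; it is "good"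
if `sigmaCore M ⊓ centralizer X = ⊥`.  Kit: Cfsg.Agent.Lib.Helper32.BG12.*, Helper3.BG13T.*,
`minSimple_solvable`, `minSimple_odd_sub`, `ut_of`, `alpha_sub_sigma`, `pgroup_le_sigmaCore`.

Assembly (B&G 12.13(b),(c) core).  You may use the placeholders `exists_Mstar`,
`normalized_line_good`, `prime_order_centralizes`, `centralizes_of_sigma`,
`centralizes_of_tau13`, `centralizes_of_tau2`.

Proof.  Case 1: some line `X ≤ A` has `N(A) ≤ N(X)`.  It is good (normalized_line_good with
`N = N(A)`, `¬ N(A) ≤ M` by R.h18 (b)), and `V₁ ≤ E ≤ N(A) ≤ N(X)`.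
Case 2 (hirr): no such line.  Claim `V₁ ≤ C(A)`; then the good line of R.h17 (last clause) is
normalized by `V₁`.  It is enough to show `y ∈ C(A)` for `y ∈ V₁` of prime power order
(`y ^ q ^ k = 1`, `y ≠ 1`; every element is a product of such powers of itself).  `q ∣ |V₁|`, so
`q ∈ τ₁(M) ∪ τ₃(M)`, `q ≠ p`.  Let `z` be the power of `y` of order `q`:
`z ∈ C(A)` by prime_order_centralizes.  Take `L` from exists_Mstar; `q ∣ |L|`.  If `q ∈ σ(L)`:
centralizes_of_sigma.  Otherwise `PRankLE q 2 L` (`alpha_sub_sigma`); if `PRankLE q 1 L` then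
`q ∈ τ₁(L) ∪ τ₃(L)`: centralizes_of_tau13; else `q ∈ τ₂(L)`: centralizes_of_tau2.
-/

set_option autoImplicit false

open Cfsg Cfsg.Agent.Lib.Helper32 Cfsg.Agent.Lib.Helper32.BG10 Cfsg.Agent.Lib.Helper3.BG12
  Cfsg.Agent.Lib.Helper15.BG12

namespace Cfsg.Agent.Lib.Helper32.BG12X

universe u

variable {G : Type u} [Group G] [Finite G]

/-- a subgroup `C` containing the nonidentity elements of prime power order of `V` contains `V` -/
theorem invline_le_of_prime_pow {V C : Subgroup G}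
    (h : ∀ y ∈ V, y ≠ 1 → ∀ q : ℕ, q.Prime → (∃ k : ℕ, y ^ q ^ k = 1) → y ∈ C) :
    V ≤ C := by
  have key : ∀ n : ℕ, ∀ y ∈ V, orderOf y = n → y ∈ C := by
    intro n
    induction n using Nat.strong_induction_on with
    | _ n ih =>
      intro y hy hn
      by_cases hy1 : y = 1
      · rw [hy1]
        exact C.one_mem
      have hn0 : n ≠ 0 := by
        rw [← hn]
        exact (orderOf_pos y).ne'
      have hn1 : n ≠ 1 := by
        rw [← hn]
        exact fun h1 => hy1 (orderOf_eq_one_iff.mp h1)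
      obtain ⟨q, hq, hqn⟩ := Nat.exists_prime_and_dvd hn1
      obtain ⟨k, m, hqm, hnkm⟩ := Nat.exists_eq_pow_mul_and_not_dvd hn0 q hq.ne_one
      have hk0 : k ≠ 0 := by
        rintro rfl
        rw [pow_zero, one_mul] at hnkm
        exact hqm (hnkm ▸ hqn)
      have hm0 : 0 < m := by
        rcases Nat.eq_zero_or_pos m with h0 | h0
        · rw [h0, mul_zero] at hnkm
          exact absurd hnkm hn0
        · exact h0
      have h2 : 2 ≤ q ^ k :=
        calc 2 ≤ q := hq.two_le
          _ = q ^ 1 := (pow_one q).symm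
          _ ≤ q ^ k := Nat.pow_le_pow_right hq.pos (Nat.one_le_iff_ne_zero.mpr hk0)
      have hu : y ^ m ∈ C := by
        refine h (y ^ m) (V.pow_mem hy m) ?_ q hq ⟨k, ?_⟩
        · intro h1
          have hd : n ∣ m := by
            rw [← hn]
            exact orderOf_dvd_of_pow_eq_one h1
          have hle := Nat.le_of_dvd hm0 hd
          rw [hnkm] at hle
          nlinarith
        · rw [← pow_mul, mul_comm, ← hnkm, ← hn, pow_orderOf_eq_one]
      have hw : y ^ q ^ k ∈ C := by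
        have hlt : orderOf (y ^ q ^ k) < n := by
          have hd : orderOf (y ^ q ^ k) ∣ m := by
            apply orderOf_dvd_of_pow_eq_one
            rw [← pow_mul, ← hnkm, ← hn, pow_orderOf_eq_one]
          have hle := Nat.le_of_dvd hm0 hd
          rw [hnkm]
          nlinarith
        exact ih _ hlt (y ^ q ^ k) (V.pow_mem hy _) rfl
      have hcop : Nat.Coprime m (q ^ k) :=
        (Nat.Coprime.pow_left k ((Nat.Prime.coprime_iff_not_dvd hq).mpr hqm)).symm
      have hb := Nat.gcd_eq_gcd_ab m (q ^ k)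
      rw [hcop.gcd_eq_one] at hb
      have hy' : y = (y ^ m) ^ (Nat.gcdA m (q ^ k)) * (y ^ q ^ k) ^ (Nat.gcdB m (q ^ k)) := by
        rw [← zpow_natCast y m, ← zpow_natCast y (q ^ k), ← zpow_mul, ← zpow_mul, ← zpow_add,
          ← hb]
        simp
      rw [hy']
      exact C.mul_mem (C.zpow_mem hu _) (C.zpow_mem hw _)
  intro y hy
  exact key _ y hy rfl

theorem invariant_good_line (hG : IsMinSimpleOddOrder G) (R : Rows G) {M E A S : Subgroup G}
    {p : ℕ} [Fact p.Prime] (cs : CtxS M E p A S) (hσ : sigmaCore M ≠ ⊥) {V₁ : Subgroup G}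
    (hV₁ : FreeSub M E V₁) :
    ∃ X : Subgroup G, X ≤ A ∧ Nat.card X = p ∧ V₁ ≤ Subgroup.normalizer (X : Set G) ∧
      sigmaCore M ⊓ Subgroup.centralizer (X : Set G) = ⊥ := by
  have hp : p.Prime := Fact.out
  have c := cs.c
  obtain ⟨⟨hEN, -⟩, ⟨hCA, hMNE, hNM⟩, -⟩ :=
    R.h18 M c.hM E c.hE p c.hp A ⟨c.hAE, c.hA, c.hA2⟩
  by_cases hirr : ∀ X : Subgroup G, X ≤ A → Nat.card X = p →
      ¬ Subgroup.normalizer (A : Set G) ≤ Subgroup.normalizer (X : Set G)
  · -- Case 2: `V₁` centralizes `A`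
    have hcent : V₁ ≤ Subgroup.centralizer (A : Set G) := by
      apply invline_le_of_prime_pow
      intro y hy hy1 q hq hyq
      obtain ⟨k, hyk⟩ := hyq
      haveI : Fact q.Prime := ⟨hq⟩
      have hyE : y ∈ E := hV₁.le hy
      -- the order of `y`
      obtain ⟨j, -, hj⟩ := (Nat.dvd_prime_pow hq).mp (orderOf_dvd_of_pow_eq_one hyk)
      have hj0 : j ≠ 0 := by
        rintro rfl
        rw [pow_zero] at hj
        exact hy1 (orderOf_eq_one_iff.mp hj)
      obtain ⟨i, rfl⟩ := Nat.exists_eq_succ_of_ne_zero hj0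
      have hqy : q ∣ orderOf y := by
        rw [hj]
        exact dvd_pow_self q (Nat.succ_ne_zero i)
      have hqV : q ∣ Nat.card V₁ := by
        have h1 : orderOf (⟨y, hy⟩ : V₁) ∣ Nat.card V₁ := orderOf_dvd_natCard _
        rw [Subgroup.orderOf_mk] at h1
        exact hqy.trans h1
      have hqM : q ∈ tau1 M ∪ tau3 M := hV₁.tau q hq hqV
      have hqp : q ≠ p := by
        rintro rfl
        have h1 : PRankLE q 1 M := by
          rcases hqM with h | h
          · exact h.2.2.2.2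
          · exact h.2.2.2
        exact c.hp.2.2.2 h1
      -- the power of `y` of order `q`
      have hzq : orderOf (y ^ q ^ i) = q := by
        rw [orderOf_pow_of_dvd (pow_ne_zero i hq.ne_zero) (by rw [hj]; exact pow_dvd_pow q (Nat.le_succ i)),
          hj, pow_succ, Nat.mul_div_cancel_left _ (pow_pos hq.pos i)]
      have hzV : y ^ q ^ i ∈ V₁ := V₁.pow_mem hy _
      have hz1 : y ^ q ^ i ≠ 1 := by
        intro h1
        rw [h1, orderOf_one] at hzq
        exact hq.ne_one hzq.symm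
      have hzy : y ^ q ^ i ∈ Subgroup.zpowers y := Subgroup.npow_mem_zpowers y _
      have hzA : y ^ q ^ i ∈ Subgroup.centralizer (A : Set G) :=
        prime_order_centralizes hG R cs hirr hσ hV₁ hzV hq hzq
      obtain ⟨L, hL, hNL, hLM, hEL⟩ := exists_Mstar hG R c
      by_cases hqL : q ∈ sigma L
      · exact centralizes_of_sigma hG R cs hL hNL hqp hqL hyE ⟨k, hyk⟩
      · have h2 : PRankLE q 2 L := by
          by_contra h
          exact hqL (alpha_sub_sigma hG (ut_of hG) hL ⟨hq, h⟩)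
        by_cases h1 : PRankLE q 1 L
        · have hqcL : q ∣ Nat.card L := by
            have h3 : orderOf (⟨y, hEL hyE⟩ : L) ∣ Nat.card L := orderOf_dvd_natCard _
            rw [Subgroup.orderOf_mk] at h3
            exact hqy.trans h3
          have hq13 : q ∈ tau1 L ∪ tau3 L := by
            by_cases hd : q ∣ Nat.card ↥⁅L, L⁆
            · exact Or.inr ⟨hq, hqL, hd, h1⟩
            · exact Or.inl ⟨hq, hqL, hqcL, hd, h1⟩
          exact centralizes_of_tau13 hG R cs hL hNL hq13 hyE ⟨k, hyk⟩ hzy hz1 hzA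
        · exact centralizes_of_tau2 hG R cs hirr hL hNL hqM ⟨hq, hqL, h2, h1⟩ hyE ⟨k, hyk⟩
            hzy hz1 hzA
    obtain ⟨A₁, hA₁A, hA₁c, hA₁good⟩ :=
      (R.h17 M c.hM p c.hp A ⟨c.hAE.trans c.hE.1, c.hA, c.hA2⟩).2.2.2.2.2
    refine ⟨A₁, hA₁A, hA₁c, ?_, hA₁good⟩
    exact hcent.trans ((Subgroup.centralizer_le hA₁A).trans
      (Subgroup.centralizer_le_normalizer _))
  · -- Case 1: a line normalized by `N(A)`
    push Not at hirr
    obtain ⟨X, hXA, hXc, hNX⟩ := hirr
    exact ⟨X, hXA, hXc, (hV₁.le.trans hEN).trans hNX,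
      normalized_line_good hG R c hXA hXc hNX hNM⟩

end Cfsg.Agent.Lib.Helper32.BG12X
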