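import Cfsg.Agent.Lib.Helper32.BG12XDefs

/-!
# BGX piece LIFT (rows S1421 / S1359 / S1360, helper32's job board)

Generic: lifting an invariant line to an invariant cyclic subgroup.

Proof (explicit).  `S` has exponent dividing `p ^ (n+1)`.  `H` acts on `L` (order `p`) by
`h l h⁻¹ = l ^ χ(h)`, `χ : H → (ZMod p)ˣ` multiplicative.  Let `e(h) ∈ ℕ` represent
`(χ(h)⁻¹) ^ (p ^ n)` modulo `p ^ (n+1)` (Teichmüller lift: `u ≡ u' (mod p)` implies
`u ^ (p ^ n) ≡ u' ^ (p ^ n) (mod p ^ (n+1))`, so `e` is multiplicative mod `p ^ (n+1)` and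
`e(h) χ(h) ≡ 1 (mod p)`).  Put `c = ∏_{h ∈ H} (h x₀ h⁻¹) ^ e(h)` (product in the abelian `S`).
Then `c ^ (p ^ n) = ∏ (l₀ ^ χ(h)) ^ e(h) = l₀ ^ |H| ≠ 1` (`l₀ = x₀ ^ (p ^ n) ∈ L`, `p ∤ |H|`), and
`g c g⁻¹ = ∏_h (g h x₀ h⁻¹ g⁻¹) ^ e(h) = ∏_{h'} (h' x₀ h'⁻¹) ^ e(g⁻¹ h') = c ^ e(g⁻¹)`.
(Alternative: induction on `|S|` with Maschke on `S / S^p`: `K = {x | x ^ (p ^ n) = 1} ≥ S^p`
has index `p`; an `H`-invariant complement line `D / S^p` gives a smaller invariant `D` unless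
`S` is cyclic.)
-/

set_option autoImplicit false

open Cfsg Cfsg.Agent.Lib.Helper32 Cfsg.Agent.Lib.Helper32.BG10 Cfsg.Agent.Lib.Helper3.BG12
  Cfsg.Agent.Lib.Helper15.BG12

namespace Cfsg.Agent.Lib.Helper32.BG12X

universe u

variable {G : Type u} [Group G] [Finite G]

private theorem lift_pow_modEq {p : ℕ} {a b : ℕ} (h : a ≡ b [MOD p]) (n : ℕ) :
    a ^ p ^ n ≡ b ^ p ^ n [MOD p ^ (n + 1)] := by
  rw [Nat.modEq_iff_dvd] at h ⊢
  have h1 : ((p : ℕ) : ℤ) ∣ (b : ℤ) - (a : ℤ) := h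
  have h2 := dvd_sub_pow_of_dvd_sub (R := ℤ) (p := p) h1 n
  push_cast
  exact_mod_cast h2

private theorem lift_fermat {p : ℕ} [Fact p.Prime] (a n : ℕ) : a ^ p ^ n ≡ a [MOD p] := by
  rw [← ZMod.natCast_eq_natCast_iff]
  push_cast
  exact ZMod.pow_card_pow (p := p) (n := n) (a : ZMod p)

theorem lift_cyclic {p : ℕ} [Fact p.Prime] {S H L : Subgroup G} {n : ℕ}
    (hS : IsMulCommutative S) (hSp : IsPGroup p S)
    (hHS : H ≤ Subgroup.normalizer (S : Set G)) (hHL : H ≤ Subgroup.normalizer (L : Set G))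
    (hcop : ¬ p ∣ Nat.card H) (hL : Nat.card L = p)
    (hpow : ∀ x ∈ S, x ^ p ^ n ∈ L) {x₀ : G} (hx₀ : x₀ ∈ S) (hx₀n : x₀ ^ p ^ n ≠ 1) :
    ∃ c ∈ S, c ^ p ^ n ≠ 1 ∧
      H ≤ Subgroup.normalizer ((Subgroup.zpowers c : Subgroup G) : Set G) := by
  classical
  have hp : p.Prime := Fact.out
  haveI : Fintype H := Fintype.ofFinite H
  letI : CommGroup S :=
    { (inferInstance : Group S) with mul_comm := fun a b => hS.is_comm.comm a b }
  -- the generator of `L`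
  set l₀ : G := x₀ ^ p ^ n with hl₀
  have hl₀L : l₀ ∈ L := hpow x₀ hx₀
  have hLp : ∀ l ∈ L, l ^ p = 1 := by
    intro l hl
    have : (⟨l, hl⟩ : L) ^ Nat.card L = 1 := pow_card_eq_one'
    rw [hL] at this
    exact congrArg Subtype.val this
  have hord : orderOf l₀ = p := by
    have h1 : orderOf l₀ ∣ p := orderOf_dvd_of_pow_eq_one (hLp l₀ hl₀L)
    rcases (Nat.dvd_prime hp).mp h1 with h | h
    · exact absurd (orderOf_eq_one_iff.mp h) hx₀n
    · exact h
  have hzl : Subgroup.zpowers l₀ = L := by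
    apply Subgroup.eq_of_le_of_card_ge
    · rw [Subgroup.zpowers_le]; exact hl₀L
    · rw [Nat.card_zpowers, hord, hL]
  have hconjL : ∀ h : H, (h : G) * l₀ * (h : G)⁻¹ ∈ L := fun h =>
    (Subgroup.mem_normalizer_iff.mp (hHL h.2) l₀).mp hl₀L
  have hex : ∀ h : H, ∃ k : ℕ, l₀ ^ k = (h : G) * l₀ * (h : G)⁻¹ := by
    intro h
    have h1 : (h : G) * l₀ * (h : G)⁻¹ ∈ Subgroup.zpowers l₀ := by rw [hzl]; exact hconjL h
    have h2 : (h : G) * l₀ * (h : G)⁻¹ ∈ Submonoid.powers l₀ :=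
      (mem_powers_iff_mem_zpowers).mpr h1
    exact h2
  choose χ hχ using hex
  have hχmul : ∀ g h : H, χ (g * h) ≡ χ g * χ h [MOD p] := by
    intro g h
    rw [← hord, ← pow_eq_pow_iff_modEq, hχ, pow_mul, hχ, conj_pow, hχ]
    simp [mul_assoc]
  have hχone : χ 1 ≡ 1 [MOD p] := by
    rw [← hord, ← pow_eq_pow_iff_modEq, hχ]
    simp
  -- Teichmüller lift
  set e : H → ℕ := fun h => χ h⁻¹ ^ p ^ n with he
  have he_mul : ∀ g h : H, e (g⁻¹ * h) ≡ e g⁻¹ * e h [MOD p ^ (n + 1)] := by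
    intro g h
    simp only [he, mul_inv_rev, inv_inv]
    rw [← mul_pow]
    apply lift_pow_modEq
    rw [mul_comm (χ g)]
    exact hχmul h⁻¹ g
  have he_one : ∀ h : H, χ h * e h ≡ 1 [MOD p] := by
    intro h
    have h1 : e h ≡ χ h⁻¹ [MOD p] := lift_fermat _ _
    have h2 : χ h * e h ≡ χ h * χ h⁻¹ [MOD p] := Nat.ModEq.mul_left _ h1
    have h3 := hχmul h h⁻¹
    rw [mul_inv_cancel] at h3
    exact h2.trans (h3.symm.trans hχone)
  -- conjugation on S
  have hcS : ∀ (g : H) (s : S), (g : G) * (s : G) * (g : G)⁻¹ ∈ S := fun g s =>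
    (Subgroup.mem_normalizer_iff.mp (hHS g.2) s).mp s.2
  let cj : H → S →* S := fun g =>
    { toFun := fun s => ⟨(g : G) * (s : G) * (g : G)⁻¹, hcS g s⟩
      map_one' := by
        apply Subtype.ext
        simp
      map_mul' := by
        intro a b
        apply Subtype.ext
        simp [mul_assoc] }
  have hcj : ∀ (g : H) (s : S), ((cj g s : S) : G) = (g : G) * (s : G) * (g : G)⁻¹ :=
    fun g s => rfl
  let y : H → S := fun h => cj h ⟨x₀, hx₀⟩
  have hy : ∀ h : H, ((y h : S) : G) = (h : G) * x₀ * (h : G)⁻¹ := fun h => rfl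
  have hcjy : ∀ g h : H, cj g (y h) = y (g * h) := by
    intro g h
    apply Subtype.ext
    rw [hcj, hy, hy]
    simp [mul_assoc]
  have hSexp : ∀ s : S, s ^ p ^ (n + 1) = 1 := by
    intro s
    apply Subtype.ext
    have h1 : (s : G) ^ p ^ n ∈ L := hpow s s.2
    have h2 := hLp _ h1
    rw [← pow_mul, ← pow_succ] at h2
    simpa using h2
  have hpowmod : ∀ (s : S) (a b : ℕ), a ≡ b [MOD p ^ (n + 1)] → s ^ a = s ^ b := by
    intro s a b hab
    rw [pow_eq_pow_iff_modEq]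
    exact hab.of_dvd (orderOf_dvd_of_pow_eq_one (hSexp s))
  let c : S := ∏ h : H, y h ^ e h
  have hc_def : c = ∏ h : H, y h ^ e h := rfl
  have hconj_c : ∀ g : H, cj g c = c ^ e g⁻¹ := by
    intro g
    rw [hc_def, map_prod, ← Finset.prod_pow]
    have h1 : ∀ h : H, cj g (y h ^ e h) = y (g * h) ^ e (g⁻¹ * (g * h)) := by
      intro h
      rw [map_pow, hcjy, inv_mul_cancel_left]
    rw [Finset.prod_congr rfl (fun h _ => h1 h)]
    rw [Fintype.prod_equiv (Equiv.mulLeft g) (fun h => y (g * h) ^ e (g⁻¹ * (g * h)))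
      (fun h => y h ^ e (g⁻¹ * h)) (fun h => rfl)]
    apply Finset.prod_congr rfl
    intro h _
    rw [← pow_mul, mul_comm (e h)]
    exact hpowmod _ _ _ (he_mul g h)
  have hconj_cG : ∀ g : H, (g : G) * (c : G) * (g : G)⁻¹ = (c : G) ^ e g⁻¹ := by
    intro g
    have := congrArg (Subtype.val) (hconj_c g)
    rw [hcj] at this
    rw [this]
    simp
  have hzp : ∀ g : H, ∀ k ∈ Subgroup.zpowers (c : G),
      (g : G) * k * (g : G)⁻¹ ∈ Subgroup.zpowers (c : G) := by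
    intro g k hk
    obtain ⟨i, rfl⟩ := Subgroup.mem_zpowers_iff.mp hk
    rw [← conj_zpow, hconj_cG]
    exact Subgroup.zpow_mem _ (Subgroup.pow_mem _ (Subgroup.mem_zpowers _) _) _
  -- the power
  let l₀S : S := ⟨l₀, Subgroup.pow_mem _ hx₀ _⟩
  have hl₀S_ord : orderOf l₀S = p := by
    rw [← hord]
    exact Subgroup.orderOf_mk _ _
  have hypow : ∀ h : H, y h ^ p ^ n = l₀S ^ χ h := by
    intro h
    apply Subtype.ext
    rw [Subgroup.coe_pow, hy, conj_pow, Subgroup.coe_pow]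
    exact (hχ h).symm
  have hcpow : c ^ p ^ n = l₀S ^ Fintype.card H := by
    rw [hc_def, ← Finset.prod_pow]
    have h1 : ∀ h : H, (y h ^ e h) ^ p ^ n = l₀S := by
      intro h
      rw [← pow_mul, mul_comm, pow_mul, hypow, ← pow_mul]
      have h2 : l₀S ^ (χ h * e h) = l₀S ^ 1 := by
        rw [pow_eq_pow_iff_modEq, hl₀S_ord]
        exact he_one h
      rw [h2, pow_one]
    rw [Finset.prod_congr rfl (fun h _ => h1 h), Finset.prod_const, Finset.card_univ]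
  refine ⟨(c : G), c.2, ?_, ?_⟩
  · intro h0
    have h1 : c ^ p ^ n = 1 := by
      apply Subtype.ext
      simpa using h0
    rw [hcpow] at h1
    have h2 : p ∣ Fintype.card H := by
      rw [← hl₀S_ord]
      exact orderOf_dvd_of_pow_eq_one h1
    rw [← Nat.card_eq_fintype_card] at h2
    exact hcop h2
  · intro g hg
    rw [Subgroup.mem_normalizer_iff]
    intro k
    constructor
    · exact hzp ⟨g, hg⟩ k
    · intro hk
      have := hzp ⟨g, hg⟩⁻¹ _ hk
      simpa [mul_assoc] using this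

end Cfsg.Agent.Lib.Helper32.BG12X
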