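import Cfsg.Agent.Lib.Helper32.BG12XDefs
import Cfsg.Agent.Lib.Helper15.BG12XFill

/-!
# BGX piece SYL-NORMAL (row S1360, helper32's job board)

Proved by helper15 by another route (`Lib/Helper15/BG12XFill.lean`); this file delegates.
-/

set_option autoImplicit false

open Cfsg Cfsg.Agent.Lib.Helper32 Cfsg.Agent.Lib.Helper32.BG10 Cfsg.Agent.Lib.Helper3.BG12
  Cfsg.Agent.Lib.Helper15.BG12

namespace Cfsg.Agent.Lib.Helper32.BG12X

universe u

variable {G : Type u} [Group G] [Finite G]

theorem sylow_normal_of_abelian (hG : IsMinSimpleOddOrder G) (R : Rows G)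
    {M E A S : Subgroup G} {p : ℕ} [Fact p.Prime] (cs : CtxS M E p A S) :
    E ≤ Subgroup.normalizer (S : Set G) :=
  Cfsg.Agent.Lib.Helper15.BGX.sylow_normal_of_abelian hG R cs

end Cfsg.Agent.Lib.Helper32.BG12X
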