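import Cfsg.Agent.Lib.Helper32.BG12XDefs
import Cfsg.Agent.Lib.Helper32.BG12XSylData
import Cfsg.Agent.Lib.Helper32.BG12XSylNormal
import Cfsg.Agent.Lib.Helper32.BG12XLineGood
import Cfsg.Agent.Lib.Helper32.BG12XInvLine
import Cfsg.Agent.Lib.Helper32.BG12XLift

/-!
# BGX piece GOOD-CYC (rows S1421 / S1359 / S1360, helper32's job board)

Notation (see note 1896 / BG12XDefs.lean): `R : Rows G` bundles the earlier rows (R.h5 = B&G 10.5,
R.h8, R.h12, R.h14 = 10.11, R.h17 = 12.5, R.h18 = 12.6, R.h19 = 12.7, R.h20 = 12.10, R.h27 = 13.3(a));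
`c : Ctx7 M E p A` = (hM : IsCoatom M, hE : IsComplIn E (sigmaCore M) M, hp : p ∈ tau2 M, hAE : A ≤ E,
hA : IsElementaryAbelian p A, hA2 : Nat.card A = p ^ 2); `cs : CtxS M E p A S` = (c, hab : G has an
abelian Sylow p-subgroup, hSE : S ≤ E, hSp : IsPGroup p S, hSyl : ¬ p ∣ S.relIndex E);
`FreeSub M E V₁` = (le : V₁ ≤ E, tau : the primes of |V₁| are in τ₁(M) ∪ τ₃(M), free : no v ≠ 1 of V₁
centralizes a nonidentity element of M_σ).  A "line" is a subgroup of order `p` of `A`; it is "good"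
if `sigmaCore M ⊓ centralizer X = ⊥`.  Kit: Cfsg.Agent.Lib.Helper32.BG12.*, Helper3.BG13T.*,
`minSimple_solvable`, `minSimple_odd_sub`, `ut_of`, `alpha_sub_sigma`, `pgroup_le_sigmaCore`.

B&G 12.13(c).  You may use the placeholders `sylow_data`, `sylow_normal_of_abelian`,
`normalized_line_good`, `invariant_good_line`, `lift_cyclic`.

Proof.  `S` abelian, `A = {x ∈ S | x ^ p = 1}`, `V₁ ≤ E ≤ N(S)` (sylow_normal_of_abelian),
`p ∤ |V₁|` (its primes have rank 1 in `M`).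
Case 1: every line of `A` is good.  `C := S`: for `y ∈ S`, `y ≠ 1`, the subgroup of order `p` of
`zpowers y` is a line of `A`, good, so `M_σ ⊓ C(y) = ⊥`.
Case 2: some line is bad; then `sigmaCore M ≠ ⊥`.  Let `n` be maximal with `x₀ ^ (p ^ n) ≠ 1` for
some `x₀ ∈ S` (so `x ^ (p ^ (n+1)) = 1` on `S`), `Y = {x ^ (p ^ n) | x ∈ S}`, a nontrivial
subgroup of `A` normalized by `N(S)`.  If `Y ≠ A` then `|Y| = p`, `Y` is good
(normalized_line_good with `N = N(S)`, `¬ N(S) ≤ M`); put `X = Y`, `S₁ = S`.  If `Y = A` take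
`X` from invariant_good_line and `S₁ = {x ∈ S | x ^ (p ^ n) ∈ X}` (a `V₁`-invariant subgroup,
containing some `x₀` with `x₀ ^ (p ^ n) ≠ 1` because `X ≤ Y`).  lift_cyclic (`S₁`, `H = V₁`,
`L = X`) gives `c`; `C := zpowers c` has order `p ^ (n+1)`, so `orderOf x ∣ orderOf c` on `S`;
for `y ∈ C`, `y ≠ 1`, the subgroup of order `p` of `zpowers y` is `zpowers (c ^ (p ^ n)) = X`,
good, so `M_σ ⊓ C(y) = ⊥`.
-/

set_option autoImplicit false

open Cfsg Cfsg.Agent.Lib.Helper32 Cfsg.Agent.Lib.Helper32.BG10 Cfsg.Agent.Lib.Helper3.BG12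
  Cfsg.Agent.Lib.Helper15.BG12

namespace Cfsg.Agent.Lib.Helper32.BG12X

universe u

variable {G : Type u} [Group G] [Finite G]

omit [Finite G] in
/-- an element of `zpowers c` of order dividing `p` is a power of `c ^ p ^ n` when `c` has order
`p ^ (n + 1)` -/
theorem gc_mem_zpowers_pow {p : ℕ} [Fact p.Prime] {c w : G} {n : ℕ}
    (hc : orderOf c = p ^ (n + 1)) (hw : w ∈ Subgroup.zpowers c) (hwp : w ^ p = 1) :
    w ∈ Subgroup.zpowers (c ^ p ^ n) := by
  have hpp : p.Prime := Fact.out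
  have hfin : IsOfFinOrder c := by
    rw [← orderOf_pos_iff, hc]; exact pow_pos hpp.pos _
  rw [← hfin.mem_powers_iff_mem_zpowers] at hw
  obtain ⟨m, hm⟩ := hw
  have hm' : c ^ m = w := hm
  subst hm'
  have hdvd : p ^ (n + 1) ∣ m * p := by
    rw [← hc]
    apply orderOf_dvd_of_pow_eq_one
    rw [pow_mul]; exact hwp
  have hdvd2 : p ^ n ∣ m := by
    have h1 : p ^ n * p ∣ m * p := by rwa [← pow_succ]
    exact Nat.dvd_of_mul_dvd_mul_right hpp.pos h1
  obtain ⟨t, rfl⟩ := hdvd2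
  rw [pow_mul]
  exact Subgroup.pow_mem _ (Subgroup.mem_zpowers _) t

omit [Finite G] in
/-- the centralizer of an element lies in the centralizer of every subgroup of its cyclic group -/
theorem gc_centralizer_le {y : G} {X : Subgroup G} (hX : X ≤ Subgroup.zpowers y) :
    Subgroup.centralizer ({y} : Set G) ≤ Subgroup.centralizer (X : Set G) := by
  intro g hg
  rw [Subgroup.mem_centralizer_iff] at hg ⊢
  intro x hx
  obtain ⟨k, rfl⟩ := Subgroup.mem_zpowers_iff.mp (hX hx)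
  exact ((Commute.zpow_left (show Commute y g from hg y rfl) k).eq)

theorem exists_good_cyclic (hG : IsMinSimpleOddOrder G) (R : Rows G) {M E A S : Subgroup G}
    {p : ℕ} [Fact p.Prime] (cs : CtxS M E p A S) {V₁ : Subgroup G} (hV₁ : FreeSub M E V₁) :
    ∃ C : Subgroup G, C ≤ S ∧ V₁ ≤ Subgroup.normalizer (C : Set G) ∧
      (∀ x ∈ S, ∃ y ∈ C, orderOf x ∣ orderOf y) ∧
      ∀ y ∈ C, y ≠ 1 → sigmaCore M ⊓ Subgroup.centralizer ({y} : Set G) = ⊥ := by
  classical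
  have hpp : p.Prime := Fact.out
  have c := cs.c
  obtain ⟨hAS, hSc, hΩ, -, hNSM⟩ := sylow_data hG R c cs.hSE cs.hSp cs.hSyl
  have hScomm : ∀ a ∈ S, ∀ b ∈ S, a * b = b * a := fun a ha b hb =>
    congrArg Subtype.val (hSc.is_comm.comm ⟨a, ha⟩ ⟨b, hb⟩)
  have hES : E ≤ Subgroup.normalizer (S : Set G) := sylow_normal_of_abelian hG R cs
  have hVS : V₁ ≤ Subgroup.normalizer (S : Set G) := hV₁.le.trans hES
  have hcop : ¬ p ∣ Nat.card V₁ := by
    intro h
    rcases hV₁.tau p hpp h with h1 | h1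
    · exact c.hp.2.2.2 h1.2.2.2.2
    · exact c.hp.2.2.2 h1.2.2.2
  -- a line inside `zpowers y`, `y ≠ 1`
  have hline : ∀ y ∈ S, y ≠ 1 → ∃ X : Subgroup G, X ≤ Subgroup.zpowers y ∧ Nat.card X = p ∧
      X ≤ A ∧ ∀ w ∈ X, w ^ p = 1 := by
    intro y hy hy1
    obtain ⟨X, hXy, hXc⟩ := Cfsg.Agent.Lib.Helper3.BG13T.exists_card_prime_le_zpowers cs.hSp hy hy1
    have hXp : ∀ w ∈ X, w ^ p = 1 := by
      intro w hw
      have h := pow_card_eq_one' (G := ↥X) (x := ⟨w, hw⟩)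
      rw [hXc] at h
      have h' := congrArg Subtype.val h
      simpa using h'
    refine ⟨X, hXy, hXc, fun w hw => ?_, hXp⟩
    exact (hΩ w ((Subgroup.zpowers_le.mpr hy) (hXy hw))).mp (hXp w hw)
  have hfree : ∀ y ∈ S, y ≠ 1 → ∀ X : Subgroup G, X ≤ Subgroup.zpowers y →
      sigmaCore M ⊓ Subgroup.centralizer (X : Set G) = ⊥ →
      sigmaCore M ⊓ Subgroup.centralizer ({y} : Set G) = ⊥ := by
    intro y _ _ X hXy hX
    rw [eq_bot_iff, ← hX]
    exact inf_le_inf_left _ (gc_centralizer_le hXy)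
  by_cases hall : ∀ X : Subgroup G, X ≤ A → Nat.card X = p →
      sigmaCore M ⊓ Subgroup.centralizer (X : Set G) = ⊥
  · -- every line is good
    refine ⟨S, le_refl S, hVS, fun x hx => ⟨x, hx, dvd_refl _⟩, fun y hy hy1 => ?_⟩
    obtain ⟨X, hXy, hXc, hXA, -⟩ := hline y hy hy1
    exact hfree y hy hy1 X hXy (hall X hXA hXc)
  -- some line is bad
  have hσ : sigmaCore M ≠ ⊥ := by
    intro hbot
    apply hall
    intro X _ _
    rw [hbot, bot_inf_eq]
  -- an element of maximal order of `S`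
  have : Nonempty ↥S := ⟨1⟩
  obtain ⟨c₀, hc₀⟩ := Finite.exists_max (fun x : ↥S => orderOf (x : G))
  obtain ⟨a, ha⟩ := exists_orderOf_eq_of_mem cs.hSp c₀.2
  have hdiv : ∀ x ∈ S, orderOf x ∣ p ^ a := by
    intro x hx
    obtain ⟨k, hk⟩ := exists_orderOf_eq_of_mem cs.hSp hx
    have hle : orderOf x ≤ orderOf (c₀ : G) := hc₀ ⟨x, hx⟩
    rw [hk, ha] at hle
    rw [hk]
    exact pow_dvd_pow p ((Nat.pow_le_pow_iff_right hpp.one_lt).mp hle)
  have hA1 : A ≠ ⊥ := by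
    intro h
    have h2 := c.hA2
    rw [h, Subgroup.card_bot] at h2
    exact (Nat.one_lt_pow (by norm_num) hpp.one_lt).ne h2
  have ha0 : a ≠ 0 := by
    rintro rfl
    apply hA1
    rw [eq_bot_iff]
    intro x hx
    have := hdiv x (hAS hx)
    rw [pow_zero, Nat.dvd_one, orderOf_eq_one_iff] at this
    exact Subgroup.mem_bot.mpr this
  obtain ⟨n, rfl⟩ : ∃ n, a = n + 1 := ⟨a - 1, by omega⟩
  have hexp : ∀ x ∈ S, x ^ p ^ (n + 1) = 1 := fun x hx =>
    orderOf_dvd_iff_pow_eq_one.mp (hdiv x hx)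
  have hc₀n : (c₀ : G) ^ p ^ n ≠ 1 := by
    intro h
    have h1 : orderOf (c₀ : G) ∣ p ^ n := orderOf_dvd_of_pow_eq_one h
    rw [ha] at h1
    have := (Nat.pow_dvd_pow_iff_le_right hpp.one_lt).mp h1
    omega
  -- the subgroup `Y` of `p ^ n`-th powers
  let Y : Subgroup G :=
    { carrier := {z | ∃ x ∈ S, x ^ p ^ n = z}
      mul_mem' := by
        rintro _ _ ⟨x, hx, rfl⟩ ⟨y, hy, rfl⟩
        exact ⟨x * y, S.mul_mem hx hy, (show Commute x y from hScomm x hx y hy).mul_pow _⟩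
      one_mem' := ⟨1, S.one_mem, one_pow _⟩
      inv_mem' := by
        rintro _ ⟨x, hx, rfl⟩
        exact ⟨x⁻¹, S.inv_mem hx, inv_pow x _⟩ }
  have hYmem : ∀ x ∈ S, x ^ p ^ n ∈ Y := fun x hx => ⟨x, hx, rfl⟩
  have hYA : Y ≤ A := by
    rintro _ ⟨x, hx, rfl⟩
    apply (hΩ _ (S.pow_mem hx _)).mp
    rw [← pow_mul, ← pow_succ]
    exact hexp x hx
  have hY1 : Y ≠ ⊥ := by
    intro h
    have h1 : (c₀ : G) ^ p ^ n ∈ Y := hYmem _ c₀.2
    rw [h, Subgroup.mem_bot] at h1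
    exact hc₀n h1
  have hNY : Subgroup.normalizer (S : Set G) ≤ Subgroup.normalizer (Y : Set G) := by
    intro g hg
    rw [Subgroup.mem_normalizer_iff]
    intro z
    constructor
    · rintro ⟨x, hx, rfl⟩
      exact ⟨g * x * g⁻¹, (Subgroup.mem_normalizer_iff.mp hg x).mp hx, by rw [conj_pow]⟩
    · rintro ⟨x, hx, hxz⟩
      have hg' : g⁻¹ ∈ Subgroup.normalizer (S : Set G) := Subgroup.inv_mem _ hg
      refine ⟨g⁻¹ * x * g, ?_, ?_⟩
      · have := (Subgroup.mem_normalizer_iff.mp hg' x).mp hx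
        rwa [inv_inv] at this
      · have h1 : (g⁻¹ * x * g) ^ p ^ n = g⁻¹ * x ^ p ^ n * g := by
          have := conj_pow (a := g⁻¹) (b := x) (i := p ^ n)
          rwa [inv_inv] at this
        rw [h1, hxz]; group
  -- a good `V₁`-invariant line `X` and a `V₁`-invariant cyclic subgroup above it
  have key : ∃ X : Subgroup G, X ≤ A ∧ Nat.card X = p ∧
      sigmaCore M ⊓ Subgroup.centralizer (X : Set G) = ⊥ ∧
      ∃ c ∈ S, c ^ p ^ n ≠ 1 ∧ c ^ p ^ n ∈ X ∧
        V₁ ≤ Subgroup.normalizer ((Subgroup.zpowers c : Subgroup G) : Set G) := by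
    by_cases hYeq : Y = A
    · obtain ⟨X, hXA, hXc, hVX, hXgood⟩ := invariant_good_line hG R cs hσ hV₁
      let S₁ : Subgroup G :=
        { carrier := {x | x ∈ S ∧ x ^ p ^ n ∈ X}
          mul_mem' := by
            rintro x y ⟨hx, hx'⟩ ⟨hy, hy'⟩
            refine ⟨S.mul_mem hx hy, ?_⟩
            rw [(show Commute x y from hScomm x hx y hy).mul_pow]
            exact X.mul_mem hx' hy'
          one_mem' := ⟨S.one_mem, by rw [one_pow]; exact X.one_mem⟩
          inv_mem' := by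
            rintro x ⟨hx, hx'⟩
            refine ⟨S.inv_mem hx, ?_⟩
            rw [inv_pow]; exact X.inv_mem hx' }
      have hS₁S : S₁ ≤ S := fun x hx => hx.1
      have hS₁c : IsMulCommutative ↥S₁ :=
        ⟨⟨fun a b => Subtype.ext (hScomm a a.2.1 b b.2.1)⟩⟩
      have hVS₁ : V₁ ≤ Subgroup.normalizer (S₁ : Set G) := by
        intro g hg
        rw [Subgroup.mem_normalizer_iff]
        intro z
        have e1 := Subgroup.mem_normalizer_iff.mp (hVS hg) z
        have e2 := Subgroup.mem_normalizer_iff.mp (hVX hg) (z ^ p ^ n)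
        constructor
        · rintro ⟨hz, hz'⟩
          exact ⟨e1.mp hz, by rw [conj_pow]; exact e2.mp hz'⟩
        · rintro ⟨hz, hz'⟩
          rw [conj_pow] at hz'
          exact ⟨e1.mpr hz, e2.mpr hz'⟩
      -- an element `x₀ ∈ S₁` with `x₀ ^ p ^ n ≠ 1`
      have hX1 : X ≠ ⊥ := by
        intro h
        rw [h, Subgroup.card_bot] at hXc
        exact hpp.one_lt.ne hXc
      obtain ⟨⟨l, hl⟩, hl1⟩ := (Subgroup.ne_bot_iff_exists_ne_one).mp hX1
      have hl1' : l ≠ 1 := fun h => hl1 (Subtype.ext h)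
      have hlY : l ∈ Y := by rw [hYeq]; exact hXA hl
      obtain ⟨x₀, hx₀S, hx₀l⟩ := hlY
      have hx₀ : x₀ ∈ S₁ := ⟨hx₀S, by rw [hx₀l]; exact hl⟩
      obtain ⟨c', hc'S, hc'n, hc'N⟩ := lift_cyclic hS₁c (cs.hSp.to_le hS₁S) hVS₁ hVX hcop hXc
        (fun x hx => hx.2) hx₀ (by rw [hx₀l]; exact hl1')
      exact ⟨X, hXA, hXc, hXgood, c', hc'S.1, hc'n, hc'S.2, hc'N⟩
    · have hYc : Nat.card Y = p := by
        have h1 : Nat.card Y ∣ p ^ 2 := by
          rw [← c.hA2]; exact Subgroup.card_dvd_of_le hYA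
        obtain ⟨i, hi, hYi⟩ := (Nat.dvd_prime_pow hpp).mp h1
        interval_cases i
        · exfalso
          exact hY1 (Subgroup.card_eq_one.mp (by simpa using hYi))
        · simpa using hYi
        · exfalso
          exact hYeq (Subgroup.eq_of_le_of_card_ge hYA (by rw [hYi, c.hA2]))
      have hYgood := normalized_line_good hG R c hYA hYc hNY hNSM
      obtain ⟨c', hc'S, hc'n, hc'N⟩ := lift_cyclic hSc cs.hSp hVS (hVS.trans hNY) hcop hYc
        hYmem c₀.2 hc₀n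
      exact ⟨Y, hYA, hYc, hYgood, c', hc'S, hc'n, hYmem c' hc'S, hc'N⟩
  obtain ⟨X, hXA, hXc, hXgood, c', hc'S, hc'n, hc'X, hc'N⟩ := key
  have hc'ord : orderOf c' = p ^ (n + 1) := by
    obtain ⟨j, hj, hcj⟩ := (Nat.dvd_prime_pow hpp).mp (hdiv c' hc'S)
    by_cases hjn : j ≤ n
    · exfalso
      apply hc'n
      apply orderOf_dvd_iff_pow_eq_one.mp
      rw [hcj]; exact pow_dvd_pow p hjn
    · have : j = n + 1 := by omega
      rw [hcj, this]
  have hXeq : Subgroup.zpowers (c' ^ p ^ n) = X := by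
    apply Subgroup.eq_of_le_of_card_ge (Subgroup.zpowers_le.mpr hc'X)
    rw [hXc, Nat.card_zpowers]
    have h1 : orderOf (c' ^ p ^ n) = p := by
      apply orderOf_eq_prime
      · rw [← pow_mul, ← pow_succ]; exact hexp c' hc'S
      · exact hc'n
    rw [h1]
  refine ⟨Subgroup.zpowers c', Subgroup.zpowers_le.mpr hc'S, hc'N,
    fun x hx => ⟨c', Subgroup.mem_zpowers c', by rw [hc'ord]; exact hdiv x hx⟩,
    fun y hy hy1 => ?_⟩
  have hyS : y ∈ S := (Subgroup.zpowers_le.mpr hc'S) hy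
  obtain ⟨X', hX'y, hX'c, -, hX'p⟩ := hline y hyS hy1
  have hX'X : X' ≤ X := by
    intro w hw
    rw [← hXeq]
    exact gc_mem_zpowers_pow hc'ord ((Subgroup.zpowers_le.mpr hy) (hX'y hw)) (hX'p w hw)
  have hX'eq : X' = X := Subgroup.eq_of_le_of_card_ge hX'X (by rw [hXc, hX'c])
  exact hfree y hyS hy1 X' hX'y (by rw [hX'eq]; exact hXgood)

end Cfsg.Agent.Lib.Helper32.BG12X
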