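import Cfsg.Agent.Lib.Helper32.BG12XDefs

/-!
# BGX piece HALL-E2 (rows S1421 / S1359 / S1360, helper32's job board)

Generic (no B&G context).

Proof.  For `p ∈ π` prime let `S p` be the given normal abelian Sylow `p`-subgroup of `E`
(unique).  `E₂ := ⨆ p, S p`.  Distinct `S p`, `S q` are normal in `E` with trivial intersection,
so they commute elementwise; each is abelian; so `E₂` is abelian, normal in `E`.  A `π`-element
`e ∈ E` is the product of its primary components (powers of `e`), and the `r`-component is an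
`r`-element of `E`, hence in the normal Sylow `S r`.  `E₂` is generated by commuting
`π`-elements, so it is a `π`-group; `S r ≤ E₂` gives `r ∤ |E : E₂|`.
-/

set_option autoImplicit false

open Cfsg Cfsg.Agent.Lib.Helper32 Cfsg.Agent.Lib.Helper32.BG10 Cfsg.Agent.Lib.Helper3.BG12
  Cfsg.Agent.Lib.Helper15.BG12

namespace Cfsg.Agent.Lib.Helper32.BG12X

universe u

variable {G : Type u} [Group G] [Finite G]

theorem hall_of_normal_sylows (E : Subgroup G) (π : Set ℕ)
    (h : ∀ p ∈ π, p.Prime → ∃ S : Subgroup G, S ≤ E ∧ IsPGroup p S ∧ ¬ p ∣ S.relIndex E ∧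
      E ≤ Subgroup.normalizer (S : Set G) ∧ IsMulCommutative S) :
    ∃ E₂ : Subgroup G, E₂ ≤ E ∧ E ≤ Subgroup.normalizer (E₂ : Set G) ∧ IsMulCommutative E₂ ∧
      (∀ e ∈ E, (∀ r : ℕ, r.Prime → r ∣ orderOf e → r ∈ π) → e ∈ E₂) ∧
      (∀ r : ℕ, r.Prime → r ∣ Nat.card E₂ → r ∈ π) ∧
      (∀ r ∈ π, r.Prime → ¬ r ∣ E₂.relIndex E) := by
  classical
  choose S hSE hSp hSidx hSnorm hScomm using h
  obtain ⟨P, hPdef⟩ : ∃ P : {p : ℕ // p ∈ π ∧ p.Prime} → Subgroup ↥E,
      P = fun i => (S i.1 i.2.1 i.2.2).subgroupOf E := ⟨_, rfl⟩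
  have hPn : ∀ i, (P i).Normal := fun i => by
    rw [hPdef]
    exact (Subgroup.normal_subgroupOf_iff_le_normalizer (hSE i.1 i.2.1 i.2.2)).2
      (hSnorm i.1 i.2.1 i.2.2)
  have hPp : ∀ i, IsPGroup i.1 (P i) := fun i => by
    have h1 := (hSp i.1 i.2.1 i.2.2).comap_subtype (K := E)
    rw [Subgroup.comap_subtype] at h1
    rw [hPdef]
    exact h1
  have hPidx : ∀ i, ¬ i.1 ∣ (P i).index := fun i => by
    rw [hPdef]
    exact hSidx i.1 i.2.1 i.2.2
  have hPc : ∀ i, IsMulCommutative (P i) := fun i => by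
    have h1 := hScomm i.1 i.2.1 i.2.2
    rw [hPdef]
    exact Subgroup.subgroupOf_isMulCommutative _ _
  obtain ⟨F, hF⟩ : ∃ F : Subgroup ↥E, F = ⨆ i, P i := ⟨_, rfl⟩
  have hFn : F.Normal := by
    rw [hF]
    exact Subgroup.iSup_normal P
  have hPF : ∀ i, P i ≤ F := fun i => by
    rw [hF]
    exact le_iSup P i
  -- the `P i` commute pairwise
  have hcomm : ∀ i j, P i ≤ Subgroup.centralizer (P j : Set ↥E) := by
    intro i j x hx
    rw [Subgroup.mem_centralizer_iff]
    intro y hy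
    by_cases hij : i = j
    · subst hij
      exact congrArg Subtype.val ((hPc i).is_comm.comm ⟨y, hy⟩ ⟨x, hx⟩)
    · have hne : j.1 ≠ i.1 := fun h => hij (Subtype.ext h.symm)
      have f1 : Fact (j.1).Prime := ⟨j.2.2⟩
      have f2 : Fact (i.1).Prime := ⟨i.2.2⟩
      exact Subgroup.commute_of_normal_of_disjoint _ _ (hPn j) (hPn i)
        (IsPGroup.disjoint_of_ne j.1 i.1 hne _ _ (hPp j) (hPp i)) y x hy hx
  have hFcomm : F ≤ Subgroup.centralizer (F : Set ↥E) := by
    have h1 : ∀ j, F ≤ Subgroup.centralizer (P j : Set ↥E) := fun j => by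
      rw [hF]
      exact iSup_le (fun i => hcomm i j)
    have h2 : ∀ j, P j ≤ Subgroup.centralizer (F : Set ↥E) := fun j =>
      Subgroup.le_centralizer_iff.1 (h1 j)
    have h3 : (⨆ i, P i) ≤ Subgroup.centralizer (F : Set ↥E) := iSup_le h2
    rw [← hF] at h3
    exact h3
  have hFc : IsMulCommutative F := Subgroup.le_centralizer_iff_isMulCommutative.1 hFcomm
  have hFidx : ∀ r ∈ π, r.Prime → ¬ r ∣ F.index := by
    intro r hr hrp hdvd
    exact hPidx ⟨r, hr, hrp⟩ (hdvd.trans (Subgroup.index_dvd_of_le (hPF ⟨r, hr, hrp⟩)))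
  -- `π`-elements lie in `F`
  have hFpi : ∀ e : ↥E, (∀ r : ℕ, r.Prime → r ∣ orderOf e → r ∈ π) → e ∈ F := by
    intro e he
    by_contra hne
    have h1 : (QuotientGroup.mk e : ↥E ⧸ F) ≠ 1 := fun h =>
      hne ((QuotientGroup.eq_one_iff e).1 h)
    have h2 : orderOf (QuotientGroup.mk e : ↥E ⧸ F) ≠ 1 := fun h => h1 (orderOf_eq_one_iff.1 h)
    obtain ⟨r, hr, hrd⟩ := Nat.exists_prime_and_dvd h2
    have h3 : r ∣ orderOf e := hrd.trans (orderOf_map_dvd (QuotientGroup.mk' F) e)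
    have h4 : r ∣ F.index := by
      rw [Subgroup.index_eq_card]
      exact hrd.trans (orderOf_dvd_natCard _)
    exact hFidx r (he r hr h3) hr h4
  -- the elements of `F` are `π`-elements
  have hFord : ∀ x ∈ F, ∀ r : ℕ, r.Prime → r ∣ orderOf x → r ∈ π := by
    intro x hx
    have hx' : x ∈ ⨆ i, P i := by rw [← hF]; exact hx
    refine Subgroup.iSup_induction' P
      (C := fun x _ => ∀ r : ℕ, r.Prime → r ∣ orderOf x → r ∈ π) ?_ ?_ ?_ hx'
    · intro i y hy r hr hd
      obtain ⟨k, hk⟩ := (hPp i) ⟨y, hy⟩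
      have h1 : y ^ i.1 ^ k = 1 := congrArg Subtype.val hk
      have h2 : r ∣ i.1 ^ k := hd.trans (orderOf_dvd_of_pow_eq_one h1)
      have h3 : r = i.1 := (Nat.prime_dvd_prime_iff_eq hr i.2.2).1 (hr.dvd_of_dvd_pow h2)
      rw [h3]
      exact i.2.1
    · intro r hr hd
      rw [orderOf_one] at hd
      exact absurd (Nat.dvd_one.1 hd) hr.ne_one
    · intro y z hy hz ihy ihz r hr hd
      have hyF : y ∈ F := by rw [hF]; exact hy
      have hzF : z ∈ F := by rw [hF]; exact hz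
      have hc : Commute y z := congrArg Subtype.val (hFc.is_comm.comm ⟨y, hyF⟩ ⟨z, hzF⟩)
      have h1 : r ∣ orderOf y * orderOf z :=
        hd.trans (hc.orderOf_mul_dvd_lcm.trans (Nat.lcm_dvd_mul _ _))
      rcases (Nat.Prime.dvd_mul hr).1 h1 with h2 | h2
      · exact ihy r hr h2
      · exact ihz r hr h2
  refine ⟨F.map E.subtype, Subgroup.map_subtype_le F, ?_, inferInstance, ?_, ?_, ?_⟩
  · intro a ha
    rw [Subgroup.mem_normalizer_iff]
    intro x
    constructor
    · rintro ⟨x', hx', rfl⟩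
      exact ⟨⟨a, ha⟩ * x' * ⟨a, ha⟩⁻¹, hFn.conj_mem x' hx' ⟨a, ha⟩, rfl⟩
    · rintro ⟨y', hy', hy⟩
      refine ⟨⟨a, ha⟩⁻¹ * y' * ⟨a, ha⟩, ?_, ?_⟩
      · have h1 := hFn.conj_mem y' hy' (⟨a, ha⟩⁻¹)
        rw [inv_inv] at h1
        exact h1
      · have hy2 : (y' : G) = a * x * a⁻¹ := hy
        show a⁻¹ * (y' : G) * a = x
        rw [hy2]
        group
  · intro e he hpi
    refine ⟨⟨e, he⟩, hFpi ⟨e, he⟩ (fun r hr hd => hpi r hr ?_), rfl⟩
    rw [Subgroup.orderOf_mk] at hd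
    exact hd
  · intro r hr hd
    rw [Subgroup.card_map_of_injective E.subtype_injective] at hd
    have f1 : Fact r.Prime := ⟨hr⟩
    obtain ⟨x, hx⟩ := exists_prime_orderOf_dvd_card' r hd
    refine hFord x.1 x.2 r hr ?_
    rw [Subgroup.orderOf_coe, hx]
  · intro r hr hrp
    have h1 : (F.map E.subtype).relIndex E = F.index := by
      show ((F.map E.subtype).comap E.subtype).index = F.index
      rw [Subgroup.comap_map_eq_self_of_injective E.subtype_injective]
    rw [h1]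
    exact hFidx r hr hrp

end Cfsg.Agent.Lib.Helper32.BG12X
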