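import Cfsg.Agent.Lib.Helper32.BG12XDefs

/-!
# BGX piece PRIME-CLASS (rows S1421 / S1359 / S1360, helper32's job board)

Notation (see note 1896 / BG12XDefs.lean): `R : Rows G` bundles the earlier rows (R.h5 = B&G 10.5,
R.h8, R.h12, R.h14 = 10.11, R.h17 = 12.5, R.h18 = 12.6, R.h19 = 12.7, R.h20 = 12.10, R.h27 = 13.3(a));
`c : Ctx7 M E p A` = (hM : IsCoatom M, hE : IsComplIn E (sigmaCore M) M, hp : p ∈ tau2 M, hAE : A ≤ E,
hA : IsElementaryAbelian p A, hA2 : Nat.card A = p ^ 2); `cs : CtxS M E p A S` = (c, hab : G has an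
abelian Sylow p-subgroup, hSE : S ≤ E, hSp : IsPGroup p S, hSyl : ¬ p ∣ S.relIndex E);
`FreeSub M E V₁` = (le : V₁ ≤ E, tau : the primes of |V₁| are in τ₁(M) ∪ τ₃(M), free : no v ≠ 1 of V₁
centralizes a nonidentity element of M_σ).  A "line" is a subgroup of order `p` of `A`; it is "good"
if `sigmaCore M ⊓ centralizer X = ⊥`.  Kit: Cfsg.Agent.Lib.Helper32.BG12.*, Helper3.BG13T.*,
`minSimple_solvable`, `minSimple_odd_sub`, `ut_of`, `alpha_sub_sigma`, `pgroup_le_sigmaCore`.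

Proof.  `r ∣ |E| ∣ |M|`.  `r ∉ σ(M)`: otherwise an element of order `r` of `E` generates an
`r`-subgroup of `M`, which lies in `M_σ` (`pgroup_le_sigmaCore`), but `E ⊓ M_σ = ⊥`.
`PRankLE r 2 M` (otherwise `r ∈ α(M) ⊆ σ(M)`, `alpha_sub_sigma hG (ut_of hG) hM`).
If `¬ PRankLE r 1 M`: `r ∈ τ₂(M)`.  Otherwise `r ∈ τ₃(M)` or `τ₁(M)` according to whether
`r ∣ |⁅M, M⁆|` or not.
-/

set_option autoImplicit false

open Cfsg Cfsg.Agent.Lib.Helper32 Cfsg.Agent.Lib.Helper32.BG10 Cfsg.Agent.Lib.Helper3.BG12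
  Cfsg.Agent.Lib.Helper15.BG12

namespace Cfsg.Agent.Lib.Helper32.BG12X

universe u

variable {G : Type u} [Group G] [Finite G]

theorem tau_of_dvd_card (hG : IsMinSimpleOddOrder G) {M E : Subgroup G} (hM : IsCoatom M)
    (hE : IsComplIn E (sigmaCore M) M) {r : ℕ} (hr : r.Prime) (hrE : r ∣ Nat.card E) :
    r ∈ tau1 M ∪ tau2 M ∪ tau3 M := by
  have hrM : r ∣ Nat.card M := hrE.trans (Subgroup.card_dvd_of_le hE.1)
  have hnσ : r ∉ sigma M := by
    intro hσ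
    haveI : Fact r.Prime := ⟨hr⟩
    obtain ⟨x, hx⟩ := exists_prime_orderOf_dvd_card' r hrE
    have hxG : orderOf (x : G) = r := by rw [Subgroup.orderOf_coe]; exact hx
    have hpg : IsPGroup r (Subgroup.zpowers (x : G)) := by
      apply IsPGroup.of_card (n := 1)
      rw [Nat.card_zpowers, hxG, pow_one]
    have hle : Subgroup.zpowers (x : G) ≤ M := by
      rw [Subgroup.zpowers_le]; exact hE.1 x.2
    have h1 := Cfsg.Agent.Lib.Helper32.BG12.pgroup_le_sigmaCore hG hM hσ hpg hle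
    have h2 : (x : G) ∈ E ⊓ sigmaCore M := Subgroup.mem_inf.mpr ⟨x.2, h1 (Subgroup.mem_zpowers _)⟩
    rw [hE.2.2.1, Subgroup.mem_bot] at h2
    rw [h2, orderOf_one] at hxG
    exact hr.one_lt.ne hxG
  have hrank2 : PRankLE r 2 M := by
    by_contra h
    exact hnσ (Cfsg.Agent.Lib.Helper32.BG10.alpha_sub_sigma hG (ut_of hG) hM ⟨hr, h⟩)
  by_cases h1 : PRankLE r 1 M
  · by_cases h2 : r ∣ Nat.card ↥⁅M, M⁆
    · exact Or.inr ⟨hr, hnσ, h2, h1⟩
    · exact Or.inl (Or.inl ⟨hr, hnσ, hrM, h2, h1⟩)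
  · exact Or.inl (Or.inr ⟨hr, hnσ, hrank2, h1⟩)

end Cfsg.Agent.Lib.Helper32.BG12X
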