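import Cfsg.Agent.Lib.Helper32.BG12XDefs
import Cfsg.Agent.Lib.Helper32.BG12XPrimeClass

/-!
# BGX piece TAU2-FIX (rows S1421 / S1359 / S1360, helper32's job board)

Notation (see note 1896 / BG12XDefs.lean): `R : Rows G` bundles the earlier rows (R.h5 = B&G 10.5,
R.h8, R.h12, R.h14 = 10.11, R.h17 = 12.5, R.h18 = 12.6, R.h19 = 12.7, R.h20 = 12.10, R.h27 = 13.3(a));
`c : Ctx7 M E p A` = (hM : IsCoatom M, hE : IsComplIn E (sigmaCore M) M, hp : p ∈ tau2 M, hAE : A ≤ E,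
hA : IsElementaryAbelian p A, hA2 : Nat.card A = p ^ 2); `cs : CtxS M E p A S` = (c, hab : G has an
abelian Sylow p-subgroup, hSE : S ≤ E, hSp : IsPGroup p S, hSyl : ¬ p ∣ S.relIndex E);
`FreeSub M E V₁` = (le : V₁ ≤ E, tau : the primes of |V₁| are in τ₁(M) ∪ τ₃(M), free : no v ≠ 1 of V₁
centralizes a nonidentity element of M_σ).  A "line" is a subgroup of order `p` of `A`; it is "good"
if `sigmaCore M ⊓ centralizer X = ⊥`.  Kit: Cfsg.Agent.Lib.Helper32.BG12.*, Helper3.BG13T.*,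
`minSimple_solvable`, `minSimple_odd_sub`, `ut_of`, `alpha_sub_sigma`, `pgroup_le_sigmaCore`.

`FreeHyp M V`: every `v ≠ 1` of `V` all of whose prime divisors (of the order) are in
`τ₁(M) ∪ τ₃(M)` has `sigmaCore M ⊓ centralizer {v} = ⊥`.  You may use `tau_of_dvd_card`.

Proof.  Let `r ∣ orderOf v`, `r ∉ τ₂(M)`.  `w := v ^ (orderOf v / r)` has order `r`, `w ∈ V ≤ E`,
so `r ∣ |E|` and `r ∈ τ₁(M) ∪ τ₃(M)` (tau_of_dvd_card).  By hfree `M_σ ⊓ C(w) = ⊥`; but
`M_σ ⊓ C(v) ≤ M_σ ⊓ C(w)`, contradicting hfix.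
-/

set_option autoImplicit false

open Cfsg Cfsg.Agent.Lib.Helper32 Cfsg.Agent.Lib.Helper32.BG10 Cfsg.Agent.Lib.Helper3.BG12
  Cfsg.Agent.Lib.Helper15.BG12

namespace Cfsg.Agent.Lib.Helper32.BG12X

universe u

variable {G : Type u} [Group G] [Finite G]

theorem tau2_of_fixed (hG : IsMinSimpleOddOrder G) {M E V : Subgroup G} (hM : IsCoatom M)
    (hE : IsComplIn E (sigmaCore M) M) (hVE : V ≤ E) (hfree : FreeHyp M V) {v : G} (hv : v ∈ V)
    (hfix : sigmaCore M ⊓ Subgroup.centralizer ({v} : Set G) ≠ ⊥) :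
    ∀ r : ℕ, r.Prime → r ∣ orderOf v → r ∈ tau2 M := by
  intro r hr hrv
  by_contra hr2
  have hv0 : orderOf v ≠ 0 := (orderOf_pos v).ne'
  have hw : orderOf (v ^ (orderOf v / r)) = r := orderOf_pow_orderOf_div hv0 hrv
  have hwV : v ^ (orderOf v / r) ∈ V := Subgroup.pow_mem V hv _
  have hw1 : v ^ (orderOf v / r) ≠ 1 := by
    intro h
    rw [h, orderOf_one] at hw
    exact hr.one_lt.ne hw
  have hrE : r ∣ Nat.card E := by
    have h1 := Subgroup.orderOf_dvd_natCard E (hVE hwV)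
    rwa [hw] at h1
  have hr13 : r ∈ tau1 M ∪ tau3 M := by
    rcases tau_of_dvd_card hG hM hE hr hrE with (h | h) | h
    · exact Or.inl h
    · exact absurd h hr2
    · exact Or.inr h
  have hbot := hfree _ hwV hw1 (by
    intro q hq hqw
    rw [hw] at hqw
    rw [(Nat.prime_dvd_prime_iff_eq hq hr).mp hqw]
    exact hr13)
  apply hfix
  rw [eq_bot_iff, ← hbot]
  refine inf_le_inf_left _ ?_
  intro x hx
  rw [Subgroup.mem_centralizer_singleton_iff] at hx ⊢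
  have hc : Commute x v := hx
  exact (hc.pow_right _).eq

end Cfsg.Agent.Lib.Helper32.BG12X
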