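import Cfsg.Agent.Lib.Helper32.BG12XDefs

/-!
# BGX piece V0-EXP (rows S1421 / S1359 / S1360, helper32's job board)

Generic.  `V = E₂ ⋊ V₁` (`E₂` a normal `π`-subgroup, `V₁` a `π'`-subgroup), `C p ≤ E₂` has the
full `p`-exponent of `E₂` for `p ∈ π`; then `V₀ = (⨆ C p) ⊔ V₁` has the exponent of `V`.

Proof.  `V₀ ≤ V`, so `exponent V₀ ∣ exponent V`.  Conversely show `orderOf v ∣ exponent V₀` for
`v ∈ V`; enough for `v` of prime power order `q ^ j` (primary components are powers of `v`).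
If `q ∈ π`: `v ∈ E₂` (`v = e w`, `e ∈ E₂`, `w ∈ V₁`; modulo the normal `E₂`, `w` is a
`q`-element of the `π'`-group `V₁`, so `w = 1`); hC gives `y ∈ C q ≤ V₀` with
`orderOf v ∣ orderOf y`.  If `q ∉ π`: `v = e w` as before and `orderOf w = orderOf v`
(`v ^ m ∈ E₂ ↔ w ^ m ∈ E₂`; `zpowers v ⊓ E₂ = ⊥` and `V₁ ⊓ E₂ = ⊥` by coprimality), `w ∈ V₁ ≤ V₀`.
-/

set_option autoImplicit false

open Cfsg Cfsg.Agent.Lib.Helper32 Cfsg.Agent.Lib.Helper32.BG10 Cfsg.Agent.Lib.Helper3.BG12
  Cfsg.Agent.Lib.Helper15.BG12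

namespace Cfsg.Agent.Lib.Helper32.BG12X

universe u

variable {G : Type u} [Group G] [Finite G]

theorem exponent_cyc_sup {V E₂ V₁ : Subgroup G} (π : Set ℕ) (hE₂V : E₂ ≤ V) (hV₁V : V₁ ≤ V)
    (hn : V ≤ Subgroup.normalizer (E₂ : Set G))
    (hE₂π : ∀ r : ℕ, r.Prime → r ∣ Nat.card E₂ → r ∈ π)
    (hV₁π : ∀ r : ℕ, r.Prime → r ∣ Nat.card V₁ → r ∉ π) (hsup : E₂ ⊔ V₁ = V)
    (C : ℕ → Subgroup G)
    (hC : ∀ p ∈ π, p.Prime → C p ≤ E₂ ∧
      ∀ x ∈ E₂, (∃ k : ℕ, x ^ p ^ k = 1) → ∃ y ∈ C p, orderOf x ∣ orderOf y) :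
    Monoid.exponent ↥((⨆ p ∈ {q : ℕ | q ∈ π ∧ q.Prime}, C p) ⊔ V₁ : Subgroup G) =
      Monoid.exponent ↥V := by
  classical
  set W : Subgroup G := (⨆ p ∈ {q : ℕ | q ∈ π ∧ q.Prime}, C p) ⊔ V₁ with hW
  have hCW : ∀ p ∈ π, p.Prime → C p ≤ W := fun p hp hpp =>
    le_sup_of_le_left (le_iSup₂_of_le p ⟨hp, hpp⟩ le_rfl)
  have hV₁W : V₁ ≤ W := le_sup_right
  have hWV : W ≤ V :=
    sup_le (iSup₂_le fun p hp => ((hC p hp.1 hp.2).1).trans hE₂V) hV₁V
  apply Nat.dvd_antisymm
  · exact Monoid.exponent_dvd_of_monoidHom (Subgroup.inclusion hWV)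
      (Subgroup.inclusion_injective hWV)
  · apply Monoid.exponent_dvd_of_forall_pow_eq_one
    intro v
    have hdisj : ∀ g : G, g ∈ E₂ → g ∈ V₁ → g = 1 := by
      intro g hg1 hg2
      by_contra hne
      obtain ⟨r, hr, hrd⟩ := Nat.exists_prime_and_dvd
        (fun h => hne (orderOf_eq_one_iff.mp h))
      exact hV₁π r hr (hrd.trans (Subgroup.orderOf_dvd_natCard V₁ hg2))
        (hE₂π r hr (hrd.trans (Subgroup.orderOf_dvd_natCard E₂ hg1)))
    have key : orderOf (v : G) ∣ Monoid.exponent ↥W := by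
      rw [Nat.dvd_iff_prime_pow_dvd_dvd]
      intro q k hq hqk
      have hx_ord : orderOf ((v : G) ^ (orderOf (v : G) / q ^ k)) = q ^ k :=
        orderOf_pow_orderOf_div (orderOf_pos (v : G)).ne' hqk
      generalize hx : (v : G) ^ (orderOf (v : G) / q ^ k) = x at hx_ord
      have hxV : x ∈ V := by rw [← hx]; exact V.pow_mem v.2 _
      have hxs : x ∈ V₁ ⊔ E₂ := by rw [sup_comm, hsup]; exact hxV
      obtain ⟨w, hw, e, he, hxwe⟩ := mem_sup_of_le_normalizer (hV₁V.trans hn) hxs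
      have hpow : ∀ m : ℕ, ∃ e' ∈ E₂, x ^ m = w ^ m * e' := by
        intro m
        induction m with
        | zero => exact ⟨1, E₂.one_mem, by simp⟩
        | succ m ih =>
          obtain ⟨e', he', h⟩ := ih
          refine ⟨w⁻¹ * e' * w * e, E₂.mul_mem ?_ he, ?_⟩
          · exact (Subgroup.mem_normalizer_iff''.mp (hn (hV₁V hw)) e').mp he'
          · rw [pow_succ, h, pow_succ]
            have h9 : w ^ m * e' * x = w ^ m * e' * (w * e) := by rw [← hxwe]
            rw [h9]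
            group
      by_cases hqπ : q ∈ π
      · have hw1 : w = 1 := by
          obtain ⟨e', he', h⟩ := hpow (q ^ k)
          have hx1 : x ^ q ^ k = 1 := by rw [← hx_ord]; exact pow_orderOf_eq_one x
          have h2 : w ^ q ^ k = e'⁻¹ := by
            rw [hx1] at h
            exact eq_inv_of_mul_eq_one_left h.symm
          have h3 : w ^ q ^ k = 1 :=
            hdisj _ (by rw [h2]; exact E₂.inv_mem he') (V₁.pow_mem hw _)
          by_contra hne
          have hdvd : orderOf w ∣ q ^ k := orderOf_dvd_of_pow_eq_one h3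
          obtain ⟨r, hr, hrd⟩ := Nat.exists_prime_and_dvd
            (fun h => hne (orderOf_eq_one_iff.mp h))
          have hrq : r = q :=
            (Nat.prime_dvd_prime_iff_eq hr hq).mp (hr.dvd_of_dvd_pow (hrd.trans hdvd))
          subst hrq
          exact hV₁π r hr (hrd.trans (Subgroup.orderOf_dvd_natCard V₁ hw)) hqπ
        have hxE : x ∈ E₂ := by rw [hxwe, hw1, one_mul]; exact he
        obtain ⟨y, hy, hxy⟩ := (hC q hqπ hq).2 x hxE
          ⟨k, by rw [← hx_ord]; exact pow_orderOf_eq_one x⟩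
        rw [hx_ord] at hxy
        have hyW : y ∈ W := hCW q hqπ hq hy
        have h5 := Monoid.order_dvd_exponent (⟨y, hyW⟩ : ↥W)
        rw [Subgroup.orderOf_mk] at h5
        exact hxy.trans h5
      · have hwx : q ^ k ∣ orderOf w := by
          obtain ⟨e', he', h⟩ := hpow (orderOf w)
          rw [pow_orderOf_eq_one, one_mul] at h
          have h1 : x ^ orderOf w = 1 := by
            by_contra hne
            obtain ⟨r, hr, hrd⟩ := Nat.exists_prime_and_dvd
              (fun h' => hne (orderOf_eq_one_iff.mp h'))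
            have hd1 : orderOf (x ^ orderOf w) ∣ q ^ k := by
              rw [← hx_ord]; exact orderOf_pow_dvd _
            have hrq : r = q :=
              (Nat.prime_dvd_prime_iff_eq hr hq).mp (hr.dvd_of_dvd_pow (hrd.trans hd1))
            subst hrq
            apply hqπ
            apply hE₂π r hr
            refine hrd.trans ?_
            rw [h]
            exact Subgroup.orderOf_dvd_natCard E₂ he'
          rw [← hx_ord]
          exact orderOf_dvd_of_pow_eq_one h1
        have h5 := Monoid.order_dvd_exponent (⟨w, hV₁W hw⟩ : ↥W)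
        rw [Subgroup.orderOf_mk] at h5
        exact hwx.trans h5
    apply Subtype.ext
    rw [Subgroup.coe_pow, Subgroup.coe_one]
    exact orderOf_dvd_iff_pow_eq_one.mp key


end Cfsg.Agent.Lib.Helper32.BG12X
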