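import Cfsg.Agent.Lib.Helper32.BG12XDefs

/-!
# BGX piece V0-PI (rows S1421 / S1359 / S1360, helper32's job board)

Generic.  In `V₀ = (⨆ C p) ⊔ V₁` (`C p ≤ E₂` abelian, `C p` a `p`-group normalized by the
`π'`-group `V₁`) every `π`-element `v ≠ 1` has a nontrivial power in some `C p`.

Proof.  `C₀ = ⨆ C p ≤ E₂` is abelian, a `π`-group, normalized by `V₁`, so `V₀ = C₀ V₁`; write
`v = c w`; modulo `C₀`, `w` is a `π`-element of the `π'`-group `V₁`, so `w = 1` and `v ∈ C₀`.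
`C₀` is the product of the `C p` (abelian): `v = ∏ c_p`, `c_p ∈ C p`, and the `c_p` have
coprime orders, so each `c_p` is a power of `v`; choose `p` with `c_p ≠ 1`.
-/

set_option autoImplicit false

open Cfsg Cfsg.Agent.Lib.Helper32 Cfsg.Agent.Lib.Helper32.BG10 Cfsg.Agent.Lib.Helper3.BG12
  Cfsg.Agent.Lib.Helper15.BG12

namespace Cfsg.Agent.Lib.Helper32.BG12X

universe u

variable {G : Type u} [Group G] [Finite G]

theorem pi_elt_cyc_sup {E₂ V₁ : Subgroup G} (π : Set ℕ) (hE₂ab : IsMulCommutative E₂)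
    (hV₁π : ∀ r : ℕ, r.Prime → r ∣ Nat.card V₁ → r ∉ π) (C : ℕ → Subgroup G)
    (hC : ∀ p ∈ π, p.Prime → C p ≤ E₂ ∧ IsPGroup p (C p) ∧
      V₁ ≤ Subgroup.normalizer (C p : Set G)) {v : G}
    (hv : v ∈ (⨆ p ∈ {q : ℕ | q ∈ π ∧ q.Prime}, C p) ⊔ V₁) (hv1 : v ≠ 1)
    (hvπ : ∀ r : ℕ, r.Prime → r ∣ orderOf v → r ∈ π) :
    ∃ p ∈ π, p.Prime ∧ ∃ k : ℕ, v ^ k ≠ 1 ∧ v ^ k ∈ C p := by
  classical
  set C₀ : Subgroup G := ⨆ p ∈ {q : ℕ | q ∈ π ∧ q.Prime}, C p with hC₀
  have hcomm : ∀ x ∈ E₂, ∀ y ∈ E₂, x * y = y * x := by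
    intro x hx y hy
    have := hE₂ab.is_comm.comm (⟨x, hx⟩ : E₂) ⟨y, hy⟩
    exact congrArg Subtype.val this
  have hCle : ∀ p, p ∈ {q : ℕ | q ∈ π ∧ q.Prime} → C p ≤ C₀ := fun p hp =>
    le_iSup₂ (f := fun p (_ : p ∈ {q : ℕ | q ∈ π ∧ q.Prime}) => C p) p hp
  -- `V₁` conjugates `C₀` into itself
  have hconj : ∀ w ∈ V₁, ∀ c ∈ C₀, w * c * w⁻¹ ∈ C₀ := by
    intro w hw
    have hle : C₀ ≤ C₀.comap (MulAut.conj w).toMonoidHom := by
      refine iSup₂_le fun p hp x hx => ?_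
      rw [Subgroup.mem_comap]
      have h1 := (hC p hp.1 hp.2).2.2 hw
      have h2 : w * x * w⁻¹ ∈ C p := (Subgroup.mem_normalizer_iff.mp h1 x).mp hx
      exact hCle p hp h2
    intro c hc
    exact hle hc
  have hnorm : V₁ ≤ Subgroup.normalizer (C₀ : Set G) := by
    intro w hw
    rw [Subgroup.mem_normalizer_iff]
    intro h
    constructor
    · exact hconj w hw h
    · intro hh
      have := hconj w⁻¹ (inv_mem hw) _ hh
      simpa [mul_assoc] using this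
  obtain ⟨c, hc, w, hw, hcw⟩ : ∃ c ∈ C₀, ∃ w ∈ V₁, c * w = v := by
    have : v ∈ ((C₀ ⊔ V₁ : Subgroup G) : Set G) := hv
    rw [Subgroup.coe_mul_of_right_le_normalizer_left C₀ V₁ hnorm] at this
    exact Set.mem_mul.mp this
  have hpow : ∀ k : ℕ, ∃ c' ∈ C₀, v ^ k = c' * w ^ k := by
    intro k
    induction k with
    | zero => exact ⟨1, one_mem _, by simp⟩
    | succ k ih =>
      obtain ⟨c', hc', hk⟩ := ih
      refine ⟨c' * (w ^ k * c * (w ^ k)⁻¹), mul_mem hc' (hconj _ (pow_mem hw k) c hc), ?_⟩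
      rw [pow_succ, hk, ← hcw, pow_succ]
      group
  have hwC : w ∈ C₀ := by
    obtain ⟨c', hc', hk⟩ := hpow (orderOf v)
    rw [pow_orderOf_eq_one] at hk
    have hwn : w ^ orderOf v ∈ C₀ := by
      have : w ^ orderOf v = c'⁻¹ := eq_inv_of_mul_eq_one_right hk.symm
      rw [this]
      exact inv_mem hc'
    have hcop : (orderOf v).Coprime (orderOf w) := by
      by_contra hnc
      obtain ⟨r, hr, hr1, hr2⟩ := Nat.Prime.not_coprime_iff_dvd.mp hnc
      have hr3 : r ∣ Nat.card V₁ := by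
        have := orderOf_dvd_natCard (⟨w, hw⟩ : V₁)
        rw [Subgroup.orderOf_mk] at this
        exact hr2.trans this
      exact hV₁π r hr hr3 (hvπ r hr hr1)
    obtain ⟨j, hj⟩ := exists_pow_eq_self_of_coprime hcop
    rw [← hj]
    exact pow_mem hwn j
  have hvC : v ∈ C₀ := by
    rw [← hcw]
    exact mul_mem hc hwC
  -- the `r`-part of `v`
  have hv1' : orderOf v ≠ 1 := by rwa [Ne, orderOf_eq_one_iff]
  obtain ⟨r, hr, hrv⟩ := Nat.exists_prime_and_dvd hv1'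
  have hrπ := hvπ r hr hrv
  have hN : Nat.card G ≠ 0 := Nat.card_pos.ne'
  let T : Subgroup G :=
    { carrier := {x | x ∈ E₂ ∧ x ^ (ordCompl[r] (Nat.card G)) ∈ C r}
      mul_mem' := by
        rintro x y ⟨hx, hxm⟩ ⟨hy, hym⟩
        refine ⟨mul_mem hx hy, ?_⟩
        have hxy : Commute x y := hcomm x hx y hy
        rw [hxy.mul_pow]
        exact mul_mem hxm hym
      one_mem' := ⟨one_mem _, by rw [one_pow]; exact one_mem _⟩
      inv_mem' := by
        rintro x ⟨hx, hxm⟩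
        exact ⟨inv_mem hx, by rw [inv_pow]; exact inv_mem hxm⟩ }
  have hT : C₀ ≤ T := by
    refine iSup₂_le fun p hp x hx => ?_
    obtain ⟨hpE, hpP, -⟩ := hC p hp.1 hp.2
    refine ⟨hpE hx, ?_⟩
    by_cases hpr : p = r
    · subst hpr
      exact pow_mem hx _
    · obtain ⟨j, hj⟩ := hpP ⟨x, hx⟩
      have hj' : x ^ p ^ j = 1 := by simpa using congrArg Subtype.val hj
      have h1 : orderOf x ∣ p ^ j := orderOf_dvd_of_pow_eq_one hj'
      have h2 : orderOf x ∣ Nat.card G := orderOf_dvd_natCard x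
      have h3 : orderOf x ∣ ordCompl[r] (Nat.card G) := by
        have h4 : (orderOf x).Coprime (ordProj[r] (Nat.card G)) := by
          apply Nat.Coprime.coprime_dvd_left h1
          apply Nat.Coprime.pow
          exact (Nat.coprime_primes hp.2 hr).mpr hpr
        rw [← Nat.ordProj_mul_ordCompl_eq_self (Nat.card G) r] at h2
        exact h4.dvd_of_dvd_mul_left h2
      have h5 : x ^ (ordCompl[r] (Nat.card G)) = 1 := orderOf_dvd_iff_pow_eq_one.mp h3
      rw [h5]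
      exact one_mem _
  have hvT := hT hvC
  refine ⟨r, hrπ, hr, ordCompl[r] (Nat.card G), ?_, hvT.2⟩
  intro h
  have := orderOf_dvd_of_pow_eq_one h
  exact Nat.not_dvd_ordCompl hr hN (hrv.trans this)

end Cfsg.Agent.Lib.Helper32.BG12X
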