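import Cfsg.Agent.Lib.Helper32.BG12XDefs
import Cfsg.Agent.Lib.Helper32.BG12XSylData
import Cfsg.Agent.Lib.Helper32.BG12XSylNormal
import Cfsg.Agent.Lib.Helper32.BG12XHallE2
import Cfsg.Agent.Lib.Helper32.BG12XPrimeClass
import Cfsg.Agent.Lib.Helper32.BG12XTau2Fix
import Cfsg.Agent.Lib.Helper32.BG12XGoodCyc
import Cfsg.Agent.Lib.Helper32.BG12XV0Exp
import Cfsg.Agent.Lib.Helper32.BG12XV0Pi

/-!
# BGX piece AB-FREE (rows S1421 / S1359 / S1360, helper32's job board)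

Notation (see note 1896 / BG12XDefs.lean): `R : Rows G` bundles the earlier rows (R.h5 = B&G 10.5,
R.h8, R.h12, R.h14 = 10.11, R.h17 = 12.5, R.h18 = 12.6, R.h19 = 12.7, R.h20 = 12.10, R.h27 = 13.3(a));
`c : Ctx7 M E p A` = (hM : IsCoatom M, hE : IsComplIn E (sigmaCore M) M, hp : p ∈ tau2 M, hAE : A ≤ E,
hA : IsElementaryAbelian p A, hA2 : Nat.card A = p ^ 2); `cs : CtxS M E p A S` = (c, hab : G has an
abelian Sylow p-subgroup, hSE : S ≤ E, hSp : IsPGroup p S, hSyl : ¬ p ∣ S.relIndex E);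
`FreeSub M E V₁` = (le : V₁ ≤ E, tau : the primes of |V₁| are in τ₁(M) ∪ τ₃(M), free : no v ≠ 1 of V₁
centralizes a nonidentity element of M_σ).  A "line" is a subgroup of order `p` of `A`; it is "good"
if `sigmaCore M ⊓ centralizer X = ⊥`.  Kit: Cfsg.Agent.Lib.Helper32.BG12.*, Helper3.BG13T.*,
`minSimple_solvable`, `minSimple_odd_sub`, `ut_of`, `alpha_sub_sigma`, `pgroup_le_sigmaCore`.

Assembly of the abelian case of B&G 12.16(b).  You may use the placeholders `sylow_data`,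
`sylow_normal_of_abelian`, `hall_of_normal_sylows`, `tau_of_dvd_card`, `tau2_of_fixed`,
`exists_good_cyclic`, `exponent_cyc_sup`, `pi_elt_cyc_sup`, and `Helper3.BG13T.exists_tau2_elemAb`.

Proof.  For `p ∈ τ₂(M)`: `A_p ≤ E` elementary abelian of order `p ^ 2` (exists_tau2_elemAb), `S_p` a
Sylow `p`-subgroup of `V`; it is Sylow in `E` (hV), so `CtxS M E p A_p S_p`; `E ≤ N(S_p)`
(sylow_normal_of_abelian), `S_p` abelian (sylow_data).  hall_of_normal_sylows for `V`,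
`π = τ₂(M)`: `E₂ ≤ V` abelian, normal in `V`, a `τ₂`-group, Hall in `V`, containing all
`τ₂`-elements of `V`.  Schur-Zassenhaus: a complement `V₁` of `E₂` in `V`.  The primes of `|V₁|`
divide `|E|` and are not in `τ₂(M)`, so they are in `τ₁(M) ∪ τ₃(M)` (tau_of_dvd_card), and by
hfree `V₁` is a `FreeSub M E V₁`.  For `p ∈ τ₂(M)` take `C p` from exists_good_cyclic
(`C p ≤ S_p ≤ E₂`, normalized by `V₁`, full exponent of `S_p`, which contains the `p`-elements of
`E₂`), `C p = ⊥` otherwise.  `V₀ := (⨆ C p) ⊔ V₁ ≤ V`; exponent by exponent_cyc_sup.  If `v ∈ V₀`,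
`v ≠ 1` had `M_σ ⊓ C(v) ≠ ⊥`, then all primes of `orderOf v` are in `τ₂(M)` (tau2_of_fixed), so
some power `v ^ k ≠ 1` is in some `C p` (pi_elt_cyc_sup) and `M_σ ⊓ C(v ^ k) = ⊥`, while
`M_σ ⊓ C(v) ≤ M_σ ⊓ C(v ^ k)`: contradiction.
-/

set_option autoImplicit false

open Cfsg Cfsg.Agent.Lib.Helper32 Cfsg.Agent.Lib.Helper32.BG10 Cfsg.Agent.Lib.Helper3.BG12
  Cfsg.Agent.Lib.Helper15.BG12

namespace Cfsg.Agent.Lib.Helper32.BG12X

universe u

variable {G : Type u} [Group G] [Finite G]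

/-- a Sylow `p`-subgroup of the subgroup `V`, as a subgroup of `G` -/
theorem abFree_exists_sylow (p : ℕ) [Fact p.Prime] (V : Subgroup G) :
    ∃ S : Subgroup G, S ≤ V ∧ IsPGroup p S ∧ ¬ p ∣ S.relIndex V := by
  have Q : Sylow p V := default
  refine ⟨(Q : Subgroup V).map V.subtype, Subgroup.map_subtype_le _, Q.2.map _, ?_⟩
  have h1 : ((Q : Subgroup V).map V.subtype).subgroupOf V = (Q : Subgroup V) :=
    Subgroup.comap_map_eq_self_of_injective (Subgroup.subtype_injective V) _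
  unfold Subgroup.relIndex
  rw [h1]
  exact Q.not_dvd_index

theorem ab_free_sub (hG : IsMinSimpleOddOrder G) (R : Rows G) {M E : Subgroup G}
    (hM : IsCoatom M) (hE : IsComplIn E (sigmaCore M) M)
    (hab : ∀ p ∈ tau2 M, ∃ T : Sylow p G, IsMulCommutative (T : Subgroup G)) {V : Subgroup G}
    (hVE : V ≤ E) (hV : ∀ p ∈ tau2 M, ¬ p ∣ V.relIndex E) (hfree : FreeHyp M V) :
    ∃ V₀ : Subgroup G, V₀ ≤ V ∧ Monoid.exponent V₀ = Monoid.exponent V ∧
      ∀ v ∈ V₀, v ≠ 1 → sigmaCore M ⊓ Subgroup.centralizer ({v} : Set G) = ⊥ := by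
  classical
  -- Step 1: the Sylow subgroups of `V` for the primes of `τ₂(M)`
  have hS : ∀ p ∈ tau2 M, ∃ S : Subgroup G, S ≤ V ∧ IsPGroup p S ∧ ¬ p ∣ S.relIndex V ∧
      E ≤ Subgroup.normalizer (S : Set G) ∧ IsMulCommutative S ∧
      ∃ A : Subgroup G, CtxS M E p A S := by
    intro p hp
    haveI : Fact p.Prime := ⟨hp.1⟩
    obtain ⟨A, hAE, hA, hA2⟩ := Cfsg.Agent.Lib.Helper3.BG13T.exists_tau2_elemAb hG hM hE hp
    obtain ⟨S, hSV, hSp, hSyl⟩ := abFree_exists_sylow p V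
    have hSylE : ¬ p ∣ S.relIndex E := by
      rw [← Subgroup.relIndex_mul_relIndex S V E hSV hVE]
      intro h
      rcases (Nat.Prime.dvd_mul hp.1).1 h with h | h
      · exact hSyl h
      · exact hV p hp h
    have cs : CtxS M E p A S :=
      ⟨⟨hM, hE, hp, hAE, hA, hA2⟩, hab p hp, hSV.trans hVE, hSp, hSylE⟩
    exact ⟨S, hSV, hSp, hSyl, sylow_normal_of_abelian hG R cs,
      (sylow_data hG R cs.c cs.hSE cs.hSp cs.hSyl).2.1, A, cs⟩
  -- Step 2: the abelian normal Hall `τ₂`-subgroup of `V`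
  obtain ⟨E₂, hE₂V, hVn, hE₂ab, hE₂elt, hE₂π, hE₂hall⟩ :=
    hall_of_normal_sylows V (tau2 M) (by
      intro p hp _
      obtain ⟨S, hSV, hSp, hSyl, hEN, hSab, _⟩ := hS p hp
      exact ⟨S, hSV, hSp, hSyl, hVE.trans hEN, hSab⟩)
  -- Step 3: a complement (Schur-Zassenhaus)
  haveI hN : (E₂.subgroupOf V).Normal := Subgroup.normal_subgroupOf_of_le_normalizer hVn
  have hcardN : Nat.card (E₂.subgroupOf V) = Nat.card E₂ :=
    Nat.card_congr (Subgroup.subgroupOfEquivOfLe hE₂V).toEquiv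
  have hcop : Nat.Coprime (Nat.card (E₂.subgroupOf V)) (E₂.subgroupOf V).index := by
    refine Nat.coprime_of_dvd (fun r hr hdvd => ?_)
    rw [hcardN] at hdvd
    exact hE₂hall r (hE₂π r hr hdvd) hr
  obtain ⟨H', hH'⟩ := Subgroup.exists_right_complement'_of_coprime hcop
  have hV₁V : H'.map V.subtype ≤ V := Subgroup.map_subtype_le _
  have hcardV₁ : Nat.card (H'.map V.subtype) = E₂.relIndex V := by
    rw [Subgroup.card_map_of_injective (Subgroup.subtype_injective V)]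
    have h1 := hH'.card_mul_card
    have h2 := Subgroup.card_mul_index (E₂.subgroupOf V)
    have h3 : 0 < Nat.card (E₂.subgroupOf V) := Nat.card_pos
    unfold Subgroup.relIndex
    exact Nat.eq_of_mul_eq_mul_left h3 (h1.trans h2.symm)
  have hV₁π : ∀ r : ℕ, r.Prime → r ∣ Nat.card (H'.map V.subtype) → r ∉ tau2 M := by
    intro r hr hdvd hmem
    rw [hcardV₁] at hdvd
    exact hE₂hall r hmem hr hdvd
  have hsup : E₂ ⊔ H'.map V.subtype = V := by
    have h1 := hH'.sup_eq_top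
    have h2 := congrArg (Subgroup.map V.subtype) h1
    rw [Subgroup.map_sup, Subgroup.map_subgroupOf_eq_of_le hE₂V] at h2
    rw [h2, ← MonoidHom.range_eq_map, Subgroup.range_subtype]
  -- Step 4: the complement acts freely
  have htau : ∀ r : ℕ, r.Prime → r ∣ Nat.card (H'.map V.subtype) → r ∈ tau1 M ∪ tau3 M := by
    intro r hr hdvd
    have hrE : r ∣ Nat.card E := dvd_trans hdvd (Subgroup.card_dvd_of_le (hV₁V.trans hVE))
    rcases tau_of_dvd_card hG hM hE hr hrE with (h | h) | h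
    · exact Or.inl h
    · exact absurd h (hV₁π r hr hdvd)
    · exact Or.inr h
  have hV₁F : FreeSub M E (H'.map V.subtype) := by
    refine ⟨hV₁V.trans hVE, htau, ?_⟩
    intro v hv hv1
    refine hfree v (hV₁V hv) hv1 (fun r hr hdvd => ?_)
    exact htau r hr (dvd_trans hdvd (Subgroup.orderOf_dvd_natCard _ hv))
  -- Step 5: the good cyclic subgroups
  have hex : ∀ p, p ∈ tau2 M → ∃ C : Subgroup G, C ≤ E₂ ∧ IsPGroup p C ∧
      H'.map V.subtype ≤ Subgroup.normalizer (C : Set G) ∧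
      (∀ x ∈ E₂, (∃ k : ℕ, x ^ p ^ k = 1) → ∃ y ∈ C, orderOf x ∣ orderOf y) ∧
      ∀ y ∈ C, y ≠ 1 → sigmaCore M ⊓ Subgroup.centralizer ({y} : Set G) = ⊥ := by
    intro p hp
    haveI : Fact p.Prime := ⟨hp.1⟩
    obtain ⟨S, hSV, hSp, hSyl, hEN, hSab, A, cs⟩ := hS p hp
    obtain ⟨C, hCS, hCn, hCexp, hCgood⟩ := exists_good_cyclic hG R cs hV₁F
    have hpel : ∀ x ∈ V, (∃ k : ℕ, x ^ p ^ k = 1) → x ∈ S := by
      rintro x hx ⟨k, hk⟩
      have hzp : IsPGroup p (Subgroup.zpowers x) := by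
        obtain ⟨j, -, hj⟩ := (Nat.dvd_prime_pow hp.1).1 (orderOf_dvd_of_pow_eq_one hk)
        exact IsPGroup.of_card (n := j) (by rw [Nat.card_zpowers, hj])
      have hxn : Subgroup.zpowers x ≤ Subgroup.normalizer (S : Set G) :=
        (Subgroup.zpowers_le).2 (hEN (hVE hx))
      have hP : IsPGroup p (Subgroup.zpowers x ⊔ S : Subgroup G) :=
        IsPGroup.to_sup_of_normal_right' hzp hSp hxn
      have hle : Subgroup.zpowers x ⊔ S ≤ V := sup_le ((Subgroup.zpowers_le).2 hx) hSV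
      exact sylData_le_of_pgroup le_sup_right hle hP hSyl
        (le_sup_left (a := Subgroup.zpowers x) (Subgroup.mem_zpowers x))
    have hSE₂ : S ≤ E₂ := by
      intro s hs
      refine hE₂elt s (hSV hs) (fun r hr hdvd => ?_)
      obtain ⟨k, hk⟩ := hSp ⟨s, hs⟩
      have hk' : s ^ p ^ k = 1 := by
        have h1 := congrArg Subtype.val hk
        simpa using h1
      have h1 : r ∣ p ^ k := dvd_trans hdvd (orderOf_dvd_of_pow_eq_one hk')
      have h2 : r = p := (Nat.prime_dvd_prime_iff_eq hr hp.1).1 (hr.dvd_of_dvd_pow h1)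
      rw [h2]
      exact hp
    refine ⟨C, hCS.trans hSE₂, hSp.to_le hCS, hCn, ?_, hCgood⟩
    intro x hx hxp
    exact hCexp x (hpel x (hE₂V hx) hxp)
  choose! C hC using hex
  -- Step 6: `V₀`
  have hV₀V : (⨆ p ∈ {q : ℕ | q ∈ tau2 M ∧ q.Prime}, C p) ⊔ H'.map V.subtype ≤ V :=
    sup_le (iSup₂_le fun p hp => ((hC p hp.1).1).trans hE₂V) hV₁V
  refine ⟨(⨆ p ∈ {q : ℕ | q ∈ tau2 M ∧ q.Prime}, C p) ⊔ H'.map V.subtype, hV₀V, ?_, ?_⟩
  · exact exponent_cyc_sup (tau2 M) hE₂V hV₁V hVn hE₂π hV₁π hsup C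
      (fun p hp _ => ⟨(hC p hp).1, (hC p hp).2.2.2.1⟩)
  · intro v hv hv1
    by_contra hfix
    have hvπ := tau2_of_fixed hG hM hE hVE hfree (hV₀V hv) hfix
    obtain ⟨p, hp, hpp, k, hk1, hkC⟩ := pi_elt_cyc_sup (tau2 M) hE₂ab hV₁π C
      (fun p hp _ => ⟨(hC p hp).1, (hC p hp).2.1, (hC p hp).2.2.1⟩) hv hv1 hvπ
    have hgood := (hC p hp).2.2.2.2 (v ^ k) hkC hk1
    apply hfix
    rw [eq_bot_iff, ← hgood]
    refine inf_le_inf_left _ ?_
    intro g hg
    rw [Subgroup.mem_centralizer_iff] at hg ⊢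
    intro h hh
    rw [Set.mem_singleton_iff] at hh
    subst hh
    have h1 : Commute v g := hg v (Set.mem_singleton v)
    exact (h1.pow_left k).eq

end Cfsg.Agent.Lib.Helper32.BG12X
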