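import Cfsg.Agent.Lib.Helper32.BG12XDefs
import Cfsg.Agent.Lib.Helper32.BG12XNotBeta

/-!
# BGX piece D-CENTA (rows S1421 / S1359 / S1360, helper32's job board)

Notation: `R : Rows G` bundles the earlier rows (R.h5 = B&G 10.5, R.h8 = 10.8, R.h12 = 10.9,
R.h14 = 10.11 (S1414), R.h16, R.h17 = 12.5 (S1417), R.h18 = 12.6 (S1418), R.h19 = 12.7 (S1419),
R.h20 = 12.10 (S1420), R.h27 = 13.3(a)); `c : Ctx7 M E p A` = (hM : IsCoatom M,
hE : IsComplIn E (sigmaCore M) M, hp : p ∈ tau2 M, hAE : A ≤ E, hA : IsElementaryAbelian p A,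
hA2 : Nat.card A = p ^ 2).  Kit: Cfsg.Agent.Lib.Helper32.BG12.* (pgroup_le_sigmaCore,
mem_sigma_of_dvd_sigmaCore, alpha_sub_sigma, card_of_isComplIn, ...), Helper3.BG13T.*
(exists_compl_ge, exists_tau2_elemAb, coprime_of_sigma, ...), `minSimple_solvable`,
`minSimple_odd_sub`, `ut_of`.

You may use `not_beta` (imported placeholder).

Proof.  Put `D = E ⊓ L_β`, `L_β = piCoreOf (beta L) L`.  `L_β` is normalized by `L ≥ E`, so `E`
normalizes `D`; `E` normalizes `A` (R.h18 (a)); `A ≤ E`.  The primes of `|L_β|` are in `β(L)`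
(R.h14 L hL: `IsPiHallOf (beta L) (piCoreOf (beta L) L) L`), `p ∉ β(L)`, `|A| = p ^ 2`: so
`D ⊓ A = ⊥`.  For `d ∈ D`, `a ∈ A`: `d a d⁻¹ a⁻¹ ∈ D ⊓ A = ⊥`.
-/

set_option autoImplicit false

open Cfsg Cfsg.Agent.Lib.Helper32 Cfsg.Agent.Lib.Helper32.BG10 Cfsg.Agent.Lib.Helper3.BG12
  Cfsg.Agent.Lib.Helper15.BG12

namespace Cfsg.Agent.Lib.Helper32.BG12X

universe u

variable {G : Type u} [Group G] [Finite G]

theorem D_le_centralizer_A (hG : IsMinSimpleOddOrder G) (R : Rows G) {M E A S : Subgroup G}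
    {p : ℕ} [Fact p.Prime] (cs : CtxS M E p A S) {L : Subgroup G} (hL : IsCoatom L)
    (hEL : E ≤ L) :
    E ⊓ piCoreOf (beta L) L ≤ Subgroup.centralizer (A : Set G) := by
  obtain ⟨⟨hEN, -⟩, -, -⟩ := R.h18 M cs.c.hM E cs.c.hE p cs.c.hp A ⟨cs.c.hAE, cs.c.hA, cs.c.hA2⟩
  obtain ⟨⟨-, hprimes, -⟩, -⟩ := R.h14 L hL
  have hnb : p ∉ beta L := not_beta hG R cs L
  have hpp : p.Prime := Fact.out
  -- `L` normalizes `L_β`
  have hLnorm : ∀ l ∈ L, ∀ x ∈ piCoreOf (beta L) L, l * x * l⁻¹ ∈ piCoreOf (beta L) L := by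
    intro l hl x hx
    obtain ⟨y, hy, rfl⟩ := Subgroup.mem_map.mp hx
    refine Subgroup.mem_map.mpr ⟨(⟨l, hl⟩ : L) * y * (⟨l, hl⟩ : L)⁻¹, ?_, ?_⟩
    · exact (piCore_normal (beta L) L).conj_mem y hy ⟨l, hl⟩
    · simp
  -- `L_β ⊓ A = ⊥`
  have hint : ∀ x, x ∈ piCoreOf (beta L) L → x ∈ A → x = 1 := by
    intro x hxL hxA
    by_contra hx1
    have hxp : x ^ p = 1 := cs.c.hA.2 x hxA
    have hord : orderOf x = p := by
      rcases (Nat.dvd_prime hpp).mp (orderOf_dvd_of_pow_eq_one hxp) with h | h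
      · exact absurd (orderOf_eq_one_iff.mp h) hx1
      · exact h
    have hdvd : p ∣ Nat.card (piCoreOf (beta L) L) := by
      rw [← hord]
      have := orderOf_dvd_natCard (⟨x, hxL⟩ : piCoreOf (beta L) L)
      rwa [Subgroup.orderOf_mk] at this
    exact hnb (hprimes p hpp hdvd)
  intro d hd
  obtain ⟨hdE, hdL⟩ := Subgroup.mem_inf.mp hd
  rw [Subgroup.mem_centralizer_iff]
  intro a ha
  have haE : a ∈ E := cs.c.hAE ha
  have h1 : d * a * d⁻¹ ∈ A := by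
    have := hEN hdE
    rw [Subgroup.mem_normalizer_iff] at this
    exact (this a).mp ha
  have h2 : a * d⁻¹ * a⁻¹ ∈ piCoreOf (beta L) L :=
    hLnorm a (hEL haE) d⁻¹ (Subgroup.inv_mem _ hdL)
  have h3 : d * a * d⁻¹ * a⁻¹ ∈ piCoreOf (beta L) L := by
    have := Subgroup.mul_mem _ hdL h2
    have e : d * (a * d⁻¹ * a⁻¹) = d * a * d⁻¹ * a⁻¹ := by group
    rwa [e] at this
  have h4 : d * a * d⁻¹ * a⁻¹ ∈ A := A.mul_mem h1 (A.inv_mem ha)
  have h5 := hint _ h3 h4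
  calc a * d = (d * a * d⁻¹ * a⁻¹)⁻¹ * (d * a) := by group
    _ = d * a := by rw [h5, inv_one, one_mul]

end Cfsg.Agent.Lib.Helper32.BG12X
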