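import Cfsg.Agent.Lib.Helper32.BG12XDefs

/-!
# BGX piece D-ZGROUP (rows S1421 / S1359 / S1360, helper32's job board)

Notation: `R : Rows G` bundles the earlier rows (R.h5 = B&G 10.5, R.h8 = 10.8, R.h12 = 10.9,
R.h14 = 10.11 (S1414), R.h16, R.h17 = 12.5 (S1417), R.h18 = 12.6 (S1418), R.h19 = 12.7 (S1419),
R.h20 = 12.10 (S1420), R.h27 = 13.3(a)); `c : Ctx7 M E p A` = (hM : IsCoatom M,
hE : IsComplIn E (sigmaCore M) M, hp : p ∈ tau2 M, hAE : A ≤ E, hA : IsElementaryAbelian p A,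
hA2 : Nat.card A = p ^ 2).  Kit: Cfsg.Agent.Lib.Helper32.BG12.* (pgroup_le_sigmaCore,
mem_sigma_of_dvd_sigmaCore, alpha_sub_sigma, card_of_isComplIn, ...), Helper3.BG13T.*
(exists_compl_ge, exists_tau2_elemAb, coprime_of_sigma, ...), `minSimple_solvable`,
`minSimple_odd_sub`, `ut_of`.

Proof.  Let `r` be a prime and `Q` a Sylow `r`-subgroup of `D = E ⊓ L_β`; show `Q` cyclic.
If `Q ≠ ⊥` then `r ∣ |L_β|`, so `r ∈ β(L)` (R.h14 L hL, first clause) and `IsIdealPrime r G`.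
`r ∣ |E|`, `E ⊓ M_σ = ⊥`, so `r ∉ σ(M)` (`pgroup_le_sigmaCore`: for `r ∈ σ(M)` every `r`-subgroup
of `M` lies in `M_σ`).  `PRankLE r 2 M` (otherwise `r ∈ α(M) ⊆ σ(M)`, `alpha_sub_sigma`).
If `¬ PRankLE r 1 M` then R.h5 gives `¬ IsIdealPrime r G`, a contradiction.  So `PRankLE r 1 M`,
and an `r`-subgroup of `M` (`r` odd) of `r`-rank 1 is cyclic (compare
`Helper3.BG13T.cyclic_sylow_compl` and the rank-one lemmas of the BG10/BG12 kits).
-/

set_option autoImplicit false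

open Cfsg Cfsg.Agent.Lib.Helper32 Cfsg.Agent.Lib.Helper32.BG10 Cfsg.Agent.Lib.Helper3.BG12
  Cfsg.Agent.Lib.Helper15.BG12

namespace Cfsg.Agent.Lib.Helper32.BG12X

universe u

variable {G : Type u} [Group G] [Finite G]

theorem D_isZGroup (hG : IsMinSimpleOddOrder G) (R : Rows G) {M E : Subgroup G}
    (hM : IsCoatom M) (hE : IsComplIn E (sigmaCore M) M) {L : Subgroup G} (hL : IsCoatom L) :
    IsZGroup ↥(E ⊓ piCoreOf (beta L) L) := by
  refine ⟨fun r hr P => ?_⟩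
  have : Fact r.Prime := ⟨hr⟩
  obtain ⟨D, hD⟩ : ∃ D : Subgroup G, D = E ⊓ piCoreOf (beta L) L := ⟨_, rfl⟩
  -- the image `Q` of `P` in `G`
  have hiso : IsCyclic ↥((P : Subgroup ↥(E ⊓ piCoreOf (beta L) L)).map
      (E ⊓ piCoreOf (beta L) L).subtype) → IsCyclic ↥(P : Subgroup ↥(E ⊓ piCoreOf (beta L) L)) :=
    fun h => ((Subgroup.equivMapOfInjective (P : Subgroup ↥(E ⊓ piCoreOf (beta L) L))
      (E ⊓ piCoreOf (beta L) L).subtype (Subgroup.subtype_injective _)).isCyclic).mpr h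
  apply hiso
  have hQp : IsPGroup r ↥((P : Subgroup ↥(E ⊓ piCoreOf (beta L) L)).map
      (E ⊓ piCoreOf (beta L) L).subtype) := P.isPGroup'.map _
  have hQD : (P : Subgroup ↥(E ⊓ piCoreOf (beta L) L)).map
      (E ⊓ piCoreOf (beta L) L).subtype ≤ E ⊓ piCoreOf (beta L) L := Subgroup.map_subtype_le _
  obtain ⟨Q, hQ⟩ : ∃ Q : Subgroup G, Q = (P : Subgroup ↥(E ⊓ piCoreOf (beta L) L)).map
      (E ⊓ piCoreOf (beta L) L).subtype := ⟨_, rfl⟩
  rw [← hQ] at hQp hQD ⊢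
  have hQE : Q ≤ E := hQD.trans inf_le_left
  have hQβ : Q ≤ piCoreOf (beta L) L := hQD.trans inf_le_right
  have hQM : Q ≤ M := hQE.trans hE.1
  by_contra hnc
  -- `Q` is not trivial
  have hQ1 : Q ≠ ⊥ := by
    rintro rfl
    exact hnc inferInstance
  have hrQ : r ∣ Nat.card ↥Q := by
    obtain ⟨n, hn⟩ := IsPGroup.iff_card.mp hQp
    rw [hn]
    rcases Nat.eq_zero_or_pos n with h0 | h0
    · exfalso
      rw [h0, pow_zero] at hn
      exact hQ1 (Subgroup.card_eq_one.mp hn)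
    · exact dvd_pow_self r h0.ne'
  have hr2 : r ≠ 2 := by
    rintro rfl
    have hodd := minSimple_odd_sub hG Q
    exact (Nat.not_even_iff_odd.mpr hodd) (even_iff_two_dvd.mpr hrQ)
  -- `r ∈ β(L)`
  have hrβ : r ∈ beta L :=
    (R.h14 L hL).1.2.1 r hr (dvd_trans hrQ (Subgroup.card_dvd_of_le hQβ))
  have hideal : IsIdealPrime r G := hrβ.2
  -- `r ∉ σ(M)`
  have hrσ : r ∉ sigma M := by
    intro hσ
    have h1 : Q ≤ sigmaCore M := BG12.pgroup_le_sigmaCore hG hM hσ hQp hQM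
    have h2 : Q ≤ E ⊓ sigmaCore M := le_inf hQE h1
    rw [hE.2.2.1] at h2
    exact hQ1 (le_bot_iff.mp h2)
  have hr2M : PRankLE r 2 ↥M := by
    by_contra h
    exact hrσ (alpha_sub_sigma hG (ut_of hG) hM ⟨hr, h⟩)
  have hr1M : PRankLE r 1 ↥M := by
    by_contra h
    exact (R.h5 M hM r hrσ hr2M h).1 hideal
  have hr1Q : PRankLE r 1 ↥Q := prankLE_mono hQM hr1M
  obtain ⟨A, -, hAe, hAc⟩ := Cfsg.Agent.S0126.result hr2 hQp hnc
  have h1 := hr1Q A hAe.1 hAe.2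
  rw [hAc, pow_one] at h1
  have h2 := hr.one_lt
  nlinarith

end Cfsg.Agent.Lib.Helper32.BG12X
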