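import Cfsg.Agent.Lib.Helper32.BG12XDefs

/-!
# BGX piece Z-CENT (rows S1421 / S1359 / S1360, helper32's job board)

Generic (no B&G context).

Proof.  `D' = ⁅D, D⁆` and `D / D'` are cyclic (Mathlib, `IsZGroup`), and `N` normalizes `D` and
`D'`.  Automorphism groups of cyclic groups are abelian, so `⁅N, N⁆` centralizes `D'` and acts
trivially on `D / D'`: for `n ∈ ⁅N, N⁆`, `d ∈ D`: `d⁻¹ * (n * d * n⁻¹) ∈ D'`, and `n` commutes
with `D'`.  For `s ∈ S ≤ ⁅N, N⁆`, `d ∈ D`: `s d s⁻¹ = d c` with `c ∈ D'` commuting with `s`, so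
`s ^ k d s ^ (-k) = d c ^ k`; with `k = orderOf s` (a power of `p`) `c ^ k = 1`, and
`orderOf c ∣ |D|` is prime to `p`: `c = 1`.
-/

set_option autoImplicit false

open Cfsg Cfsg.Agent.Lib.Helper32 Cfsg.Agent.Lib.Helper32.BG10 Cfsg.Agent.Lib.Helper3.BG12
  Cfsg.Agent.Lib.Helper15.BG12

namespace Cfsg.Agent.Lib.Helper32.BG12X

universe u

variable {G : Type u} [Group G] [Finite G]

/-- automorphisms of a cyclic group commute -/
theorem zcent_aux_mulAut_comm {C : Type*} [Group C] [IsCyclic C] (a b : MulAut C) :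
    a * b = b * a := by
  apply (IsCyclic.mulAutMulEquiv C).injective
  rw [map_mul, map_mul, mul_comm]

/-- a homomorphism into the automorphism group of a cyclic group kills the commutator subgroup -/
theorem zcent_aux_comm_le_ker {H : Type*} [Group H] {C : Type*} [Group C] [IsCyclic C]
    (f : H →* MulAut C) : commutator H ≤ f.ker := by
  rw [commutator_def, Subgroup.commutator_le]
  intro a _ b _
  rw [MonoidHom.mem_ker, map_commutatorElement, commutatorElement_eq_one_iff_mul_comm]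
  exact zcent_aux_mulAut_comm _ _

/-- the induced action of automorphisms on the abelianization -/
def zcent_aux_abHom (D : Type*) [Group D] : MulAut D →* MulAut (Abelianization D) where
  toFun e := e.abelianizationCongr
  map_one' := abelianizationCongr_refl
  map_mul' e₁ e₂ := (abelianizationCongr_trans e₂ e₁).symm

/-- a `p`-element of the commutator subgroup centralizes a normal Z-subgroup of order prime to `p` -/
theorem zcent_aux_normal {H : Type*} [Group H] [Finite H] (D : Subgroup H) [D.Normal]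
    [IsZGroup ↥D] (p : ℕ) [Fact p.Prime] (hcop : ¬ p ∣ Nat.card D) (s : H)
    (hs : s ∈ commutator H) (k : ℕ) (hsk : s ^ (p ^ k) = 1) (d : H) (hd : d ∈ D) :
    s * d = d * s := by
  have hp : p.Prime := Fact.out
  have hKmap : (commutator ↥D).map D.subtype = ⁅D, D⁆ := Subgroup.map_subtype_commutator D
  haveI hcycD : IsCyclic ↥(commutator ↥D) := IsZGroup.isCyclic_commutator ↥D
  haveI hcycK : IsCyclic ↥(⁅D, D⁆ : Subgroup H) := by
    rw [← hKmap]
    exact isCyclic_of_surjective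
      ((commutator ↥D).equivMapOfInjective D.subtype D.subtype_injective).toMonoidHom
      (MulEquiv.surjective _)
  -- the commutator subgroup of `H` centralizes `⁅D, D⁆`
  have h1 : ∀ c ∈ (⁅D, D⁆ : Subgroup H), s * c * s⁻¹ = c := by
    intro c hc
    have h0 := zcent_aux_comm_le_ker (MulAut.conjNormal (H := (⁅D, D⁆ : Subgroup H))) hs
    rw [MonoidHom.mem_ker] at h0
    have h2 : ((MulAut.conjNormal s (⟨c, hc⟩ : ↥(⁅D, D⁆ : Subgroup H)) :
        ↥(⁅D, D⁆ : Subgroup H)) : H) = c := by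
      rw [h0]; rfl
    rw [MulAut.conjNormal_apply] at h2
    exact h2
  -- ... and acts trivially on `D / ⁅D, D⁆`
  have h2 : ∀ d' : ↥D, d'⁻¹ * (MulAut.conjNormal s d') ∈ commutator ↥D := by
    intro d'
    have h0 := zcent_aux_comm_le_ker ((zcent_aux_abHom ↥D).comp (MulAut.conjNormal (H := D))) hs
    rw [MonoidHom.mem_ker] at h0
    have h3 : (zcent_aux_abHom ↥D (MulAut.conjNormal s)) (Abelianization.of d')
        = Abelianization.of d' := by
      have h4 : (zcent_aux_abHom ↥D).comp (MulAut.conjNormal (H := D)) s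
          = zcent_aux_abHom ↥D (MulAut.conjNormal s) := rfl
      rw [← h4, h0]; rfl
    have h4 : Abelianization.of (MulAut.conjNormal s d') = Abelianization.of d' := by
      rw [← h3]; rfl
    rw [← Abelianization.ker_of, MonoidHom.mem_ker, map_mul, map_inv, h4, inv_mul_cancel]
  have hcK : d⁻¹ * (s * d * s⁻¹) ∈ (⁅D, D⁆ : Subgroup H) := by
    have h3 := h2 ⟨d, hd⟩
    rw [← hKmap]
    refine ⟨_, h3, ?_⟩
    simp [MulAut.conjNormal_apply]
  have hcD : d⁻¹ * (s * d * s⁻¹) ∈ D := (Subgroup.commutator_le_left D D) hcK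
  have hsc : s * (d⁻¹ * (s * d * s⁻¹)) * s⁻¹ = d⁻¹ * (s * d * s⁻¹) := h1 _ hcK
  have hsd : s * d * s⁻¹ = d * (d⁻¹ * (s * d * s⁻¹)) := by group
  have hpow : ∀ j : ℕ, s ^ j * d * (s ^ j)⁻¹ = d * (d⁻¹ * (s * d * s⁻¹)) ^ j := by
    intro j
    induction j with
    | zero => simp
    | succ j ih =>
      calc s ^ (j + 1) * d * (s ^ (j + 1))⁻¹ = s * (s ^ j * d * (s ^ j)⁻¹) * s⁻¹ := by
            rw [pow_succ']; group
        _ = s * (d * (d⁻¹ * (s * d * s⁻¹)) ^ j) * s⁻¹ := by rw [ih]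
        _ = (s * d * s⁻¹) * (s * (d⁻¹ * (s * d * s⁻¹)) * s⁻¹) ^ j := by
            rw [conj_pow]; group
        _ = d * (d⁻¹ * (s * d * s⁻¹)) * (d⁻¹ * (s * d * s⁻¹)) ^ j := by rw [hsc, ← hsd]
        _ = d * (d⁻¹ * (s * d * s⁻¹)) ^ (j + 1) := by rw [pow_succ', mul_assoc]
  have hck : (d⁻¹ * (s * d * s⁻¹)) ^ (p ^ k) = 1 := by
    have h3 := hpow (p ^ k)
    rw [hsk, one_mul, inv_one, mul_one] at h3
    have h4 : d * 1 = d * (d⁻¹ * (s * d * s⁻¹)) ^ (p ^ k) := by rw [mul_one]; exact h3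
    exact (mul_left_cancel h4).symm
  have ho1 : orderOf (d⁻¹ * (s * d * s⁻¹)) ∣ p ^ k := orderOf_dvd_of_pow_eq_one hck
  have ho2 : orderOf (d⁻¹ * (s * d * s⁻¹)) ∣ Nat.card D := Subgroup.orderOf_dvd_natCard D hcD
  have hcop' : Nat.Coprime (Nat.card D) p := ((Nat.Prime.coprime_iff_not_dvd hp).2 hcop).symm
  have ho3 : Nat.Coprime (orderOf (d⁻¹ * (s * d * s⁻¹))) (p ^ k) :=
    Nat.Coprime.pow_right k (Nat.Coprime.coprime_dvd_left ho2 hcop')
  have ho4 : orderOf (d⁻¹ * (s * d * s⁻¹)) = 1 := Nat.Coprime.eq_one_of_dvd ho3 ho1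
  have hc1 : d⁻¹ * (s * d * s⁻¹) = 1 := orderOf_eq_one_iff.1 ho4
  have h5 : s * d * s⁻¹ = d := by rw [hsd, hc1, mul_one]
  calc s * d = (s * d * s⁻¹) * s := by group
    _ = d * s := by rw [h5]

theorem zgroup_centralized {p : ℕ} [Fact p.Prime] {D S N : Subgroup G} (hD : IsZGroup ↥D)
    (hSp : IsPGroup p S) (hcop : ¬ p ∣ Nat.card D)
    (hND : N ≤ Subgroup.normalizer (D : Set G)) (hSN : S ≤ ⁅N, N⁆) :
    D ≤ Subgroup.centralizer (S : Set G) := by
  intro d hd
  rw [Subgroup.mem_centralizer_iff]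
  intro s hs
  have hle : D ≤ Subgroup.normalizer (D : Set G) := Subgroup.le_normalizer
  haveI hnorm : (D.subgroupOf (Subgroup.normalizer (D : Set G))).Normal :=
    Subgroup.normal_in_normalizer
  haveI hZ : IsZGroup ↥(D.subgroupOf (Subgroup.normalizer (D : Set G))) :=
    IsZGroup.of_injective (f := (Subgroup.subgroupOfEquivOfLe hle).toMonoidHom)
      (MulEquiv.injective _)
  have hcard : Nat.card (D.subgroupOf (Subgroup.normalizer (D : Set G))) = Nat.card D :=
    Nat.card_congr (Subgroup.subgroupOfEquivOfLe hle).toEquiv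
  have hs' : s ∈ (commutator ↥(Subgroup.normalizer (D : Set G))).map
      (Subgroup.normalizer (D : Set G)).subtype := by
    rw [Subgroup.map_subtype_commutator]
    exact Subgroup.commutator_mono hND hND (hSN hs)
  obtain ⟨s', hs'c, hs'eq⟩ := hs'
  obtain ⟨k, hk⟩ := hSp ⟨s, hs⟩
  have hk' : s' ^ (p ^ k) = 1 := by
    apply Subtype.ext
    have h1 := congrArg Subtype.val hk
    rw [Subgroup.coe_pow, Subgroup.coe_one] at h1
    rw [Subgroup.coe_pow, Subgroup.coe_one]
    have h2 : (s' : G) = s := hs'eq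
    rw [h2]
    exact h1
  have key := zcent_aux_normal (D.subgroupOf (Subgroup.normalizer (D : Set G))) p
    (by rw [hcard]; exact hcop) s' hs'c k hk' ⟨d, hle hd⟩ (Subgroup.mem_subgroupOf.2 hd)
  have h3 := congrArg Subtype.val key
  rw [Subgroup.coe_mul, Subgroup.coe_mul] at h3
  have h2 : (s' : G) = s := hs'eq
  rw [h2] at h3
  exact h3

end Cfsg.Agent.Lib.Helper32.BG12X
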