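import Cfsg.Agent.Lib.Helper32.BG12XDefs
import Cfsg.Agent.Lib.Helper32.BG12XSylData
import Cfsg.Agent.Lib.Helper32.BG12XSylG
import Cfsg.Agent.Lib.Helper32.BG12XNotBeta
import Cfsg.Agent.Lib.Helper32.BG12XDCentA
import Cfsg.Agent.Lib.Helper32.BG12XDZ
import Cfsg.Agent.Lib.Helper32.BG12XZCent

/-!
# BGX piece CENT-D (rows S1421 / S1359 / S1360, helper32's job board)

Notation: `R : Rows G` bundles the earlier rows (R.h5 = B&G 10.5, R.h8 = 10.8, R.h12 = 10.9,
R.h14 = 10.11 (S1414), R.h16, R.h17 = 12.5 (S1417), R.h18 = 12.6 (S1418), R.h19 = 12.7 (S1419),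
R.h20 = 12.10 (S1420), R.h27 = 13.3(a)); `c : Ctx7 M E p A` = (hM : IsCoatom M,
hE : IsComplIn E (sigmaCore M) M, hp : p ∈ tau2 M, hAE : A ≤ E, hA : IsElementaryAbelian p A,
hA2 : Nat.card A = p ^ 2).  Kit: Cfsg.Agent.Lib.Helper32.BG12.* (pgroup_le_sigmaCore,
mem_sigma_of_dvd_sigmaCore, alpha_sub_sigma, card_of_isComplIn, ...), Helper3.BG13T.*
(exists_compl_ge, exists_tau2_elemAb, coprime_of_sigma, ...), `minSimple_solvable`,
`minSimple_odd_sub`, `ut_of`.

Assembly; you may use the imported placeholders `sylow_data`, `sylow_of_G`, `not_beta`,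
`D_le_centralizer_A`, `D_isZGroup`, `zgroup_centralized`.

Proof.  `D = E ⊓ L_β` equals `L_β ⊓ C(A)`: `⊆` is D_le_centralizer_A (`E ≤ N(A) ≤ L` by
R.h18 (a)), `⊇` because `C(A) ≤ E` (R.h18 (b)).  `N(S) ≤ N(A) ≤ L` (sylow_data) normalizes
`L_β` and `C(A)`, hence `D`.  `D` is a Z-group (D_isZGroup) and `p ∤ |D|` (`L_β` is a
`β(L)`-group by R.h14, `p ∉ β(L)` by not_beta).  `S` is a Sylow `p`-subgroup of `G`
(sylow_of_G); by Schur-Zassenhaus it has a complement `V` in `N(S)`, so R.h8 gives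
`S ≤ ⁅N(S), N(S)⁆`.  Apply zgroup_centralized with `N = N(S)`.
-/

set_option autoImplicit false

open Cfsg Cfsg.Agent.Lib.Helper32 Cfsg.Agent.Lib.Helper32.BG10 Cfsg.Agent.Lib.Helper3.BG12
  Cfsg.Agent.Lib.Helper15.BG12

namespace Cfsg.Agent.Lib.Helper32.BG12X

universe u

variable {G : Type u} [Group G] [Finite G]

theorem centralizes_D (hG : IsMinSimpleOddOrder G) (R : Rows G) {M E A S : Subgroup G}
    {p : ℕ} [Fact p.Prime] (cs : CtxS M E p A S) {L : Subgroup G} (hL : IsCoatom L)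
    (hNL : Subgroup.normalizer (A : Set G) ≤ L) :
    E ⊓ piCoreOf (beta L) L ≤ Subgroup.centralizer (S : Set G) := by
  have c := cs.c
  obtain ⟨⟨hEN, -⟩, ⟨hCA, hMN, -⟩, -⟩ := R.h18 M c.hM E c.hE p c.hp A ⟨c.hAE, c.hA, c.hA2⟩
  have hCE : Subgroup.centralizer (A : Set G) ≤ E := by
    rw [← hMN]
    exact hCA
  have hEL : E ≤ L := hEN.trans hNL
  have hDA : E ⊓ piCoreOf (beta L) L ≤ Subgroup.centralizer (A : Set G) :=
    D_le_centralizer_A hG R cs hL hEL
  obtain ⟨-, -, -, hNS, -⟩ := sylow_data hG R c cs.hSE cs.hSp cs.hSyl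
  -- `N(S)` normalizes `D`
  have hND : Subgroup.normalizer (S : Set G) ≤
      Subgroup.normalizer ((E ⊓ piCoreOf (beta L) L : Subgroup G) : Set G) := by
    rw [Subgroup.le_normalizer_iff]
    intro n hn d hd
    have hnA : n ∈ Subgroup.normalizer (A : Set G) := hNS hn
    have hnL : n ∈ L := hNL hnA
    have hdCA : d ∈ Subgroup.centralizer (A : Set G) := hDA hd
    have h1 : n * d * n⁻¹ ∈ piCoreOf (beta L) L :=
      (Subgroup.le_normalizer_iff.mp (le_normalizer_piCoreOf (beta L) L)) n hnL d hd.2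
    have h2 : n * d * n⁻¹ ∈ Subgroup.centralizer (A : Set G) := by
      rw [Subgroup.mem_centralizer_iff]
      intro a ha
      have ha' : n⁻¹ * a * n ∈ A := by
        have := (Subgroup.mem_normalizer_iff''.mp hnA a).mp ha
        exact this
      have hc := (Subgroup.mem_centralizer_iff.mp hdCA) _ ha'
      calc a * (n * d * n⁻¹) = n * ((n⁻¹ * a * n) * d) * n⁻¹ := by group
        _ = n * (d * (n⁻¹ * a * n)) * n⁻¹ := by rw [hc]
        _ = n * d * n⁻¹ * a := by group
    exact ⟨hCE h2, h1⟩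
  -- `D` is a Z-group of order prime to `p`
  have hDZ : IsZGroup ↥(E ⊓ piCoreOf (beta L) L) := D_isZGroup hG R c.hM c.hE hL
  have hcop : ¬ p ∣ Nat.card ↥(E ⊓ piCoreOf (beta L) L) := by
    intro hp
    have h1 : p ∣ Nat.card ↥(piCoreOf (beta L) L) :=
      hp.trans (Subgroup.card_dvd_of_le inf_le_right)
    exact not_beta hG R cs L ((R.h14 L hL).1.2.1 p (Fact.out : p.Prime) h1)
  -- `S` is a Sylow `p`-subgroup of `G`
  have hmax := sylow_of_G hG R cs
  let P : Sylow p G := ⟨S, cs.hSp, fun {Q} hQ hSQ => hmax Q hQ hSQ⟩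
  have hPS : (P : Subgroup G) = S := rfl
  -- Schur-Zassenhaus: a complement of `S` in `N(S)`
  have hQN : (P : Subgroup G) ≤ Subgroup.normalizer ((P : Subgroup G) : Set G) :=
    Subgroup.le_normalizer
  have hcardHn : Nat.card ((P : Subgroup G).subgroupOf
      (Subgroup.normalizer ((P : Subgroup G) : Set G))) = Nat.card (P : Subgroup G) :=
    Nat.card_congr (Subgroup.subgroupOfEquivOfLe hQN).toEquiv
  have hidxdvd : ((P : Subgroup G).subgroupOf
      (Subgroup.normalizer ((P : Subgroup G) : Set G))).index ∣ (P : Subgroup G).index :=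
    Dvd.intro _ (Subgroup.relIndex_mul_index hQN)
  have hcop0 : (Nat.card ((P : Subgroup G).subgroupOf
      (Subgroup.normalizer ((P : Subgroup G) : Set G)))).Coprime
      ((P : Subgroup G).subgroupOf (Subgroup.normalizer ((P : Subgroup G) : Set G))).index := by
    rw [hcardHn]
    exact Nat.Coprime.coprime_dvd_right hidxdvd P.card_coprime_index
  obtain ⟨K0, hK0⟩ := Subgroup.exists_right_complement'_of_coprime hcop0
  have hVN : K0.map (Subgroup.normalizer ((P : Subgroup G) : Set G)).subtype ≤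
      Subgroup.normalizer ((P : Subgroup G) : Set G) := by
    rintro _ ⟨y, -, rfl⟩; exact y.2
  have hcompl : IsComplIn (P : Subgroup G)
      (K0.map (Subgroup.normalizer ((P : Subgroup G) : Set G)).subtype)
      (Subgroup.normalizer ((P : Subgroup G) : Set G)) := by
    refine ⟨hQN, hVN, ?_, ?_⟩
    · rw [eq_bot_iff]
      intro z hz
      obtain ⟨hzP, hzV⟩ := Subgroup.mem_inf.mp hz
      obtain ⟨y, hy, rfl⟩ := hzV
      have hy1 : y ∈ (P : Subgroup G).subgroupOf
          (Subgroup.normalizer ((P : Subgroup G) : Set G)) ⊓ K0 :=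
        Subgroup.mem_inf.mpr ⟨Subgroup.mem_subgroupOf.mpr hzP, hy⟩
      rw [hK0.disjoint.eq_bot] at hy1
      have hy2 : y = 1 := Subgroup.mem_bot.mp hy1
      rw [hy2]
      simp
    · intro m hm
      obtain ⟨⟨a, b⟩, hab⟩ := hK0.2 ⟨m, hm⟩
      refine ⟨((a : ↥(Subgroup.normalizer ((P : Subgroup G) : Set G))) : G),
        Subgroup.mem_subgroupOf.mp a.2,
        ((b : ↥(Subgroup.normalizer ((P : Subgroup G) : Set G))) : G), ⟨b, b.2, rfl⟩, ?_⟩
      have h := congrArg Subtype.val hab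
      simpa using h.symm
  have hSN : S ≤ ⁅Subgroup.normalizer (S : Set G), Subgroup.normalizer (S : Set G)⁆ :=
    (R.h8 p P _ hcompl).2
  exact zgroup_centralized hDZ cs.hSp hcop hND hSN

end Cfsg.Agent.Lib.Helper32.BG12X
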