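import Cfsg.Agent.Lib.Helper15.BG12Defs3
import Cfsg.Agent.Lib.Helper3.BG13a

/-!
# B&G 12.12 - 12.16 (rows S1421, S1359, S1360): interface (helper32)

`Rows G` bundles the earlier rows of B&G Sections 10 - 13 (all proved on main) as `Prop`s;
`Ctx7 M E p A` (helper15) is the standing data `p ∈ τ₂(M)`, `A ≤ E` elementary abelian of
order `p ^ 2`; `CtxS` adds a Sylow `p`-subgroup `S` of `E` in the case where `G` has abelian
Sylow `p`-subgroups.
-/

set_option autoImplicit false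

open Cfsg Cfsg.Agent.Lib.Helper32 Cfsg.Agent.Lib.Helper32.BG10 Cfsg.Agent.Lib.Helper3.BG12
  Cfsg.Agent.Lib.Helper15.BG12

namespace Cfsg.Agent.Lib.Helper32.BG12X

universe u

/-- S1427 (B&G 13.3(a)) -/
def H27 (G : Type u) [Group G] : Prop :=
  ∀ (M : Subgroup G), IsCoatom M → ∀ (E : Subgroup G), IsComplIn E (sigmaCore M) M →
    ∀ (p : ℕ) [Fact p.Prime] (S : Sylow p E), (S : Subgroup E) ≠ ⊥ → IsCyclic (S : Subgroup E) →
    ∀ x ∈ (S : Subgroup E).map E.subtype, x ≠ 1 →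
      sigmaCore M ⊓ Subgroup.centralizer ({x} : Set G) =
        sigmaCore M ⊓
          Subgroup.centralizer (((S : Subgroup E).map E.subtype : Subgroup G) : Set G)

/-- the earlier rows -/
structure Rows (G : Type u) [Group G] : Prop where
  h5 : H5 G
  h8 : H8 G
  h12 : H12 G
  h14 : H14 G
  h16 : H16 G
  h17 : H17 G
  h18 : H18 G
  h19 : H19 G
  h20 : H20 G
  h27 : H27 G

variable {G : Type u} [Group G]

/-- the hypothesis of S1421, relative to a subgroup `V` of the complement -/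
def FreeHyp (M V : Subgroup G) : Prop :=
  ∀ v ∈ V, v ≠ 1 → (∀ r : ℕ, r.Prime → r ∣ orderOf v → r ∈ tau1 M ∪ tau3 M) →
    sigmaCore M ⊓ Subgroup.centralizer ({v} : Set G) = ⊥

/-- `A₀ = C_A(M_σ)` -/
def lineNA (M A : Subgroup G) : Subgroup G :=
  A ⊓ Subgroup.centralizer (sigmaCore M : Set G)

/-- standing data, abelian case: `G` has an abelian Sylow `p`-subgroup and `S` is a Sylow
`p`-subgroup of `E` -/
structure CtxS (M E : Subgroup G) (p : ℕ) (A S : Subgroup G) : Prop where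
  c : Ctx7 M E p A
  hab : ∃ T : Sylow p G, IsMulCommutative (T : Subgroup G)
  hSE : S ≤ E
  hSp : IsPGroup p S
  hSyl : ¬ p ∣ S.relIndex E

/-- a subgroup of `E` whose primes are in `τ₁(M) ∪ τ₃(M)` and whose nonidentity elements have
no fixed point on `M_σ` -/
structure FreeSub (M E V₁ : Subgroup G) : Prop where
  le : V₁ ≤ E
  tau : ∀ r : ℕ, r.Prime → r ∣ Nat.card V₁ → r ∈ tau1 M ∪ tau3 M
  free : ∀ v ∈ V₁, v ≠ 1 → sigmaCore M ⊓ Subgroup.centralizer ({v} : Set G) = ⊥

end Cfsg.Agent.Lib.Helper32.BG12X
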