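import Cfsg.Agent.Lib.Helper32.BG12XDefs

/-!
# BGX piece GEN-CPL (rows S1421 / S1359 / S1360, helper32's job board)

Generic.

Proof.  `S'` abelian `p`-group, `A₀ ≤ S'` of order `p` meeting the subgroup `S'^p = {x ^ p}`
trivially (hpow).  Take `S₀ ≤ S'` maximal with `S'^p ≤ S₀` and `S₀ ⊓ A₀ = ⊥`.  If
`x ∈ S'`, `x ∉ A₀ S₀`: `S₀ ⊔ zpowers x` is bigger (`x ^ p ∈ S₀`), so it contains a generator
`a₀` of `A₀`: `a₀ = s x ^ i` with `p ∤ i` (else `a₀ ∈ S₀`), so `x ^ i ∈ A₀ S₀` and, as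
`x ^ p ∈ S₀`, `x ∈ A₀ S₀`, a contradiction.
-/

set_option autoImplicit false

open Cfsg Cfsg.Agent.Lib.Helper32 Cfsg.Agent.Lib.Helper32.BG10 Cfsg.Agent.Lib.Helper3.BG12
  Cfsg.Agent.Lib.Helper15.BG12

namespace Cfsg.Agent.Lib.Helper32.BG12X

universe u

/-- the commutative case: a subgroup meeting the `p`-th powers trivially has a complement -/
theorem gencpl_comm {H : Type*} [Group H] [Finite H] (hcomm : ∀ a b : H, a * b = b * a) {p : ℕ}
    [Fact p.Prime] (A : Subgroup H) (hpow : ∀ x : H, x ^ p ∈ A → x ^ p = 1) :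
    ∃ T : Subgroup H, T ⊓ A = ⊥ ∧ A ⊔ T = ⊤ := by
  classical
  let _ : CommGroup H := { (inferInstance : Group H) with mul_comm := hcomm }
  have hp := (Fact.out : p.Prime)
  obtain ⟨T, hT⟩ := Set.Finite.exists_maximal
    (s := {T : Subgroup H | T ⊓ A = ⊥ ∧ ∀ x : H, x ^ p ∈ T}) (Set.toFinite _)
    ⟨(powMonoidHom p : H →* H).range, by
      rw [Subgroup.eq_bot_iff_forall]
      rintro y ⟨⟨x, rfl⟩, hy⟩
      exact hpow x hy, fun x => ⟨x, rfl⟩⟩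
  obtain ⟨⟨hTA, hTp⟩, hTmax⟩ := hT
  refine ⟨T, hTA, ?_⟩
  rw [eq_top_iff]
  intro x _
  by_contra hx
  have hxT : x ∉ T := fun h => hx (Subgroup.mem_sup_right h)
  have hne : (T ⊔ Subgroup.zpowers x) ⊓ A ≠ ⊥ := by
    intro hbot
    have h1 : T ⊔ Subgroup.zpowers x ≤ T :=
      hTmax ⟨hbot, fun y => Subgroup.mem_sup_left (hTp y)⟩ le_sup_left
    exact hxT (h1 (Subgroup.mem_sup_right (Subgroup.mem_zpowers x)))
  rw [Ne, Subgroup.eq_bot_iff_forall] at hne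
  push Not at hne
  obtain ⟨a, ha, ha1⟩ := hne
  obtain ⟨y, hy, z, hz, hyz⟩ := Subgroup.mem_sup.1 ha.1
  obtain ⟨i, hi⟩ := Subgroup.mem_zpowers_iff.1 hz
  by_cases hpi : (p : ℤ) ∣ i
  · obtain ⟨j, hj⟩ := hpi
    have hzT : z ∈ T := by
      rw [← hi, hj, zpow_mul, zpow_natCast]
      exact T.zpow_mem (hTp x) j
    have haT : a ∈ T := by rw [← hyz]; exact T.mul_mem hy hzT
    have h2 : a ∈ T ⊓ A := ⟨haT, ha.2⟩
    rw [hTA] at h2
    exact ha1 (Subgroup.mem_bot.1 h2)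
  · have hcop : IsCoprime (p : ℤ) i :=
      ((Nat.prime_iff_prime_int.mp hp).irreducible.coprime_iff_not_dvd).2 hpi
    obtain ⟨u, v, huv⟩ := hcop
    apply hx
    have hzAT : z ∈ A ⊔ T := by
      rw [eq_inv_mul_of_mul_eq hyz]
      exact (A ⊔ T).mul_mem (Subgroup.mem_sup_right (T.inv_mem hy)) (Subgroup.mem_sup_left ha.2)
    have hxe : x = (x ^ p) ^ u * z ^ v := by
      rw [← hi, ← zpow_natCast, ← zpow_mul, ← zpow_mul, ← zpow_add]
      have h3 : (p : ℤ) * u + i * v = 1 := by linarith [huv]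
      rw [h3, zpow_one]
    rw [hxe]
    exact (A ⊔ T).mul_mem ((A ⊔ T).zpow_mem (Subgroup.mem_sup_right (hTp x)) u)
      ((A ⊔ T).zpow_mem hzAT v)

variable {G : Type u} [Group G] [Finite G]

theorem exists_compl_of_not_pow {p : ℕ} [Fact p.Prime] {S' A₀ : Subgroup G}
    (hS : IsMulCommutative S') (hSp : IsPGroup p S') (hA₀ : A₀ ≤ S') (hc : Nat.card A₀ = p)
    (hpow : ∀ x ∈ S', x ^ p ∈ A₀ → x ^ p = 1) :
    ∃ S₀ : Subgroup G, S₀ ≤ S' ∧ S₀ ⊓ A₀ = ⊥ ∧ A₀ ⊔ S₀ = S'  := by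
  have hcomm : ∀ a b : ↥S', a * b = b * a := fun a b => hS.is_comm.comm a b
  obtain ⟨T, hTA, hAT⟩ := gencpl_comm hcomm (p := p) (A₀.subgroupOf S') (by
    intro x hx
    rw [Subgroup.mem_subgroupOf] at hx
    have h1 : ((x ^ p : ↥S') : G) = (x : G) ^ p := rfl
    rw [h1] at hx
    have h2 := hpow (x : G) x.2 hx
    exact Subtype.ext (by rw [h1, h2]; rfl))
  have h1 : A₀ = (A₀.subgroupOf S').map S'.subtype :=
    (Subgroup.map_subgroupOf_eq_of_le hA₀).symm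
  refine ⟨T.map S'.subtype, Subgroup.map_subtype_le T, ?_, ?_⟩
  · rw [h1, ← Subgroup.map_inf _ _ _ (Subgroup.subtype_injective S'), hTA, Subgroup.map_bot]
  · rw [h1, ← Subgroup.map_sup, hAT, ← MonoidHom.range_eq_map, Subgroup.range_subtype]

end Cfsg.Agent.Lib.Helper32.BG12X
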