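import Cfsg.Agent.Lib.Helper32.BG12XDefs

/-!
# BGX piece GEN-EXP (rows S1421 / S1359 / S1360, helper32's job board; filled by helper1)

Generic.

Proof.  `exponent V₀ ∣ exponent V` (subgroup).  Conversely let `n = exponent V₀`; show
`v ^ n = 1` for `v ∈ V`; it is enough for `v` of prime power order (every `v` is a product of
commuting powers of itself of prime power order).  `V = A₀ V₀` with `A₀` normal, so `v = a w`
(`a ∈ A₀`, `w ∈ V₀`) and `v ^ n ∈ A₀` (as `w ^ n = 1` modulo the normal subgroup `A₀`).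
If `v` is a `q`-element, `q ≠ p`: `v ^ n` is a `q`-element of `A₀`, so `1`.  If `v` is a
`p`-element: `zpowers v ⊔ A₀` is a `p`-subgroup of `V`, abelian by hab; `w = a⁻¹ v` is in it, so
`a`, `w` commute and `v ^ n = a ^ n w ^ n = a ^ n`; `p ∣ n` because `p ∣ |V₀| = |V| / p` (hbig)
gives an element of order `p` in `V₀`; so `a ^ n = 1`.
-/

set_option autoImplicit false

open Cfsg Cfsg.Agent.Lib.Helper32 Cfsg.Agent.Lib.Helper32.BG10 Cfsg.Agent.Lib.Helper3.BG12
  Cfsg.Agent.Lib.Helper15.BG12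

namespace Cfsg.Agent.Lib.Helper32.BG12X

universe u

variable {G : Type u} [Group G] [Finite G]

theorem exponent_compl_eq {p : ℕ} [Fact p.Prime] {V V₀ A₀ : Subgroup G} (hV₀ : V₀ ≤ V)
    (hA₀V : A₀ ≤ V) (hn : V ≤ Subgroup.normalizer (A₀ : Set G)) (hc : Nat.card A₀ = p)
    (hinf : V₀ ⊓ A₀ = ⊥) (hsup : A₀ ⊔ V₀ = V)
    (hab : ∀ P : Subgroup G, P ≤ V → IsPGroup p P → IsMulCommutative P)
    (hbig : p ^ 2 ∣ Nat.card V) :
    Monoid.exponent V₀ = Monoid.exponent V := by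
  have hp : p.Prime := Fact.out
  -- elements of `V₀` are killed by the exponent
  have hV₀pow : ∀ w ∈ V₀, w ^ Monoid.exponent V₀ = 1 := by
    intro w hw
    have h1 := Monoid.pow_exponent_eq_one (⟨w, hw⟩ : V₀)
    exact congrArg Subtype.val h1
  have hV₀n : V₀ ≤ Subgroup.normalizer (A₀ : Set G) := hV₀.trans hn
  -- decomposition `v = a w`
  have hdec : ∀ v ∈ V, ∃ a ∈ A₀, ∃ w ∈ V₀, v = a * w := by
    intro v hv
    have h1 : v ∈ ((A₀ ⊔ V₀ : Subgroup G) : Set G) := by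
      rw [hsup]
      exact hv
    rw [Subgroup.coe_mul_of_right_le_normalizer_left A₀ V₀ hV₀n] at h1
    obtain ⟨a, ha, w, hw, rfl⟩ := Set.mem_mul.mp h1
    exact ⟨a, ha, w, hw, rfl⟩
  have hA₀pow : ∀ a ∈ A₀, a ^ p = 1 := by
    intro a ha
    have h1 := pow_card_eq_one' (G := A₀) (x := ⟨a, ha⟩)
    rw [hc] at h1
    exact congrArg Subtype.val h1
  -- `|V| = p |V₀|`
  have hcard : Nat.card V = p * Nat.card V₀ := by
    let f : A₀ × V₀ → V := fun x => ⟨x.1.1 * x.2.1, V.mul_mem (hA₀V x.1.2) (hV₀ x.2.2)⟩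
    have hinj : Function.Injective f := by
      rintro ⟨⟨a, ha⟩, ⟨w, hw⟩⟩ ⟨⟨a', ha'⟩, ⟨w', hw'⟩⟩ h
      have h0 : a * w = a' * w' := congrArg Subtype.val h
      have h1 : a'⁻¹ * a = w' * w⁻¹ := by
        have h5 : a = a' * w' * w⁻¹ := by
          rw [← h0]
          group
        rw [h5]
        group
      have h2 : a'⁻¹ * a ∈ V₀ ⊓ A₀ :=
        ⟨by rw [h1]; exact V₀.mul_mem hw' (V₀.inv_mem hw), A₀.mul_mem (A₀.inv_mem ha') ha⟩
      rw [hinf, Subgroup.mem_bot] at h2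
      have h3 : a = a' := (inv_mul_eq_one.mp h2).symm
      subst h3
      have h4 : w = w' := mul_left_cancel h0
      subst h4
      rfl
    have hsurj : Function.Surjective f := by
      rintro ⟨v, hv⟩
      obtain ⟨a, ha, w, hw, rfl⟩ := hdec v hv
      exact ⟨(⟨a, ha⟩, ⟨w, hw⟩), rfl⟩
    rw [← Nat.card_congr (Equiv.ofBijective f ⟨hinj, hsurj⟩), Nat.card_prod, hc]
  have hpn : p ∣ Monoid.exponent V₀ := by
    have h1 : p ∣ Nat.card V₀ := by
      have h2 : p * p ∣ p * Nat.card V₀ := by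
        rw [← hcard, ← sq]
        exact hbig
      exact (Nat.mul_dvd_mul_iff_left hp.pos).mp h2
    obtain ⟨x, hx⟩ := exists_prime_orderOf_dvd_card' p h1
    rw [← hx]
    exact Monoid.order_dvd_exponent x
  have hA₀n : ∀ a ∈ A₀, a ^ Monoid.exponent V₀ = 1 := by
    intro a ha
    obtain ⟨k, hk⟩ := hpn
    rw [hk, pow_mul, hA₀pow a ha, one_pow]
  have hA₀p : IsPGroup p A₀ := IsPGroup.of_card (n := 1) (by rw [hc, pow_one])
  -- `p`-elements
  have hpel : ∀ y ∈ V, (∃ k : ℕ, y ^ p ^ k = 1) → y ^ Monoid.exponent V₀ = 1 := by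
    rintro y hy ⟨k, hk⟩
    obtain ⟨a, ha, w, hw, rfl⟩ := hdec y hy
    have hzp : IsPGroup p (Subgroup.zpowers (a * w)) := by
      rintro ⟨g, hg⟩
      refine ⟨k, ?_⟩
      obtain ⟨i, rfl⟩ := Subgroup.mem_zpowers_iff.mp hg
      apply Subtype.ext
      show ((a * w) ^ i) ^ p ^ k = 1
      rw [← zpow_natCast, ← zpow_mul, mul_comm, zpow_mul, zpow_natCast, hk, one_zpow]
    have hzn : Subgroup.zpowers (a * w) ≤ Subgroup.normalizer (A₀ : Set G) :=
      (Subgroup.zpowers_le.mpr hy).trans hn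
    have hPp : IsPGroup p (Subgroup.zpowers (a * w) ⊔ A₀ : Subgroup G) :=
      hzp.to_sup_of_normal_right' hA₀p hzn
    have hPV : Subgroup.zpowers (a * w) ⊔ A₀ ≤ V := sup_le (Subgroup.zpowers_le.mpr hy) hA₀V
    have hcommP := hab _ hPV hPp
    have ha' : a ∈ Subgroup.zpowers (a * w) ⊔ A₀ :=
      (le_sup_right : A₀ ≤ Subgroup.zpowers (a * w) ⊔ A₀) ha
    have hy' : a * w ∈ Subgroup.zpowers (a * w) ⊔ A₀ :=
      (le_sup_left : Subgroup.zpowers (a * w) ≤ Subgroup.zpowers (a * w) ⊔ A₀)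
        (Subgroup.mem_zpowers _)
    have h1 : a * (a * w) = (a * w) * a :=
      congrArg Subtype.val (hcommP.is_comm.comm ⟨a, ha'⟩ ⟨a * w, hy'⟩)
    have h2 : Commute a w := by
      have h3 : a * (a * w) = a * (w * a) := by rw [h1, mul_assoc]
      exact mul_left_cancel h3
    rw [h2.mul_pow, hA₀n a ha, hV₀pow w hw, one_mul]
  -- `(a w) ^ k ∈ A₀ w ^ k`
  have hpowdec : ∀ a ∈ A₀, ∀ w ∈ V₀, ∀ k : ℕ, ∃ a' ∈ A₀, (a * w) ^ k = a' * w ^ k := by
    intro a ha w hw k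
    induction k with
    | zero => exact ⟨1, A₀.one_mem, by simp⟩
    | succ k ih =>
      obtain ⟨a', ha', hk⟩ := ih
      have hwk : w ^ k ∈ Subgroup.normalizer (A₀ : Set G) := hV₀n (V₀.pow_mem hw k)
      have hconj : w ^ k * a * (w ^ k)⁻¹ ∈ A₀ := (Subgroup.mem_normalizer_iff.mp hwk a).mp ha
      refine ⟨a' * (w ^ k * a * (w ^ k)⁻¹), A₀.mul_mem ha' hconj, ?_⟩
      rw [pow_succ, hk, pow_succ]
      group
  have hVpow : ∀ v ∈ V, v ^ Monoid.exponent V₀ = 1 := by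
    intro v hv
    have hvn : (v ^ Monoid.exponent V₀) ^ p = 1 := by
      obtain ⟨a, ha, w, hw, rfl⟩ := hdec v hv
      obtain ⟨a', ha', hk⟩ := hpowdec a ha w hw (Monoid.exponent V₀)
      rw [hV₀pow w hw, mul_one] at hk
      rw [hk]
      exact hA₀pow a' ha'
    have ho : orderOf v ≠ 0 := (orderOf_pos v).ne'
    obtain ⟨j, r, hr, hjr⟩ := Nat.exists_eq_pow_mul_and_not_dvd ho p hp.ne_one
    have hy : (v ^ r) ^ Monoid.exponent V₀ = 1 := by
      apply hpel (v ^ r) (V.pow_mem hv r)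
      refine ⟨j, ?_⟩
      rw [← pow_mul, mul_comm, ← hjr, pow_orderOf_eq_one]
    have hcop : Nat.Coprime p r := (Nat.Prime.coprime_iff_not_dvd hp).mpr hr
    have hz : (v ^ p ^ j) ^ Monoid.exponent V₀ = 1 := by
      have h1 : ((v ^ p ^ j) ^ Monoid.exponent V₀) ^ p = 1 := by
        have h5 : ((v ^ p ^ j) ^ Monoid.exponent V₀) ^ p =
            ((v ^ Monoid.exponent V₀) ^ p) ^ p ^ j := by
          rw [← pow_mul, ← pow_mul, ← pow_mul, ← pow_mul]
          congr 1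
          ring
        rw [h5, hvn, one_pow]
      have h2 : ((v ^ p ^ j) ^ Monoid.exponent V₀) ^ r = 1 := by
        have h5 : ((v ^ p ^ j) ^ Monoid.exponent V₀) ^ r =
            (v ^ (p ^ j * r)) ^ Monoid.exponent V₀ := by
          rw [← pow_mul, ← pow_mul, ← pow_mul]
          congr 1
          ring
        rw [h5, ← hjr, pow_orderOf_eq_one, one_pow]
      have h3 : orderOf ((v ^ p ^ j) ^ Monoid.exponent V₀) ∣ Nat.gcd p r :=
        Nat.dvd_gcd (orderOf_dvd_of_pow_eq_one h1) (orderOf_dvd_of_pow_eq_one h2)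
      rw [Nat.Coprime.gcd_eq_one hcop, Nat.dvd_one, orderOf_eq_one_iff] at h3
      exact h3
    have h4 : orderOf v ∣ Nat.gcd (r * Monoid.exponent V₀) (p ^ j * Monoid.exponent V₀) :=
      Nat.dvd_gcd (orderOf_dvd_of_pow_eq_one (by rw [pow_mul]; exact hy))
        (orderOf_dvd_of_pow_eq_one (by rw [pow_mul]; exact hz))
    rw [Nat.gcd_mul_right] at h4
    have hcop2 : Nat.gcd r (p ^ j) = 1 := Nat.Coprime.pow_right j hcop.symm
    rw [hcop2, one_mul] at h4
    exact orderOf_dvd_iff_pow_eq_one.mp h4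
  apply Nat.dvd_antisymm
  · apply Monoid.exponent_dvd_of_forall_pow_eq_one
    intro g
    apply Subtype.ext
    have h1 := Monoid.pow_exponent_eq_one (⟨g.1, hV₀ g.2⟩ : V)
    have h2 : (g : G) ^ Monoid.exponent V = 1 := congrArg Subtype.val h1
    exact h2
  · apply Monoid.exponent_dvd_of_forall_pow_eq_one
    intro g
    apply Subtype.ext
    exact hVpow g.1 g.2

end Cfsg.Agent.Lib.Helper32.BG12X
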