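import Cfsg.Agent.Lib.Helper32.BG12XDefs
import Cfsg.Agent.Lib.Helper15.BG12XFill

/-!
# BGX piece NA-FIX (row S1360, helper32's job board)

Proved by helper15 by another route (`Lib/Helper15/BG12XFill.lean`); this file delegates.
-/

set_option autoImplicit false

open Cfsg Cfsg.Agent.Lib.Helper32 Cfsg.Agent.Lib.Helper32.BG10 Cfsg.Agent.Lib.Helper3.BG12
  Cfsg.Agent.Lib.Helper15.BG12

namespace Cfsg.Agent.Lib.Helper32.BG12X

universe u

variable {G : Type u} [Group G] [Finite G]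

theorem na_fixed_mem (hG : IsMinSimpleOddOrder G) (R : Rows G) {M E A : Subgroup G} {p : ℕ}
    [Fact p.Prime] (c : Ctx7 M E p A)
    (hna : ∀ T : Sylow p G, ¬ IsMulCommutative (T : Subgroup G)) {e : G} (heE : e ∈ E)
    (hep : ∃ k : ℕ, e ^ p ^ k = 1)
    (hfix : sigmaCore M ⊓ Subgroup.centralizer ({e} : Set G) ≠ ⊥) :
    e ∈ lineNA M A :=
  Cfsg.Agent.Lib.Helper15.BGX.na_fixed_mem hG R c hna heE hep hfix

end Cfsg.Agent.Lib.Helper32.BG12X
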