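import Cfsg.Agent.Lib.Helper32.BG12XDefs
import Cfsg.Agent.Lib.Helper15.BG12XFill

/-!
# BGX piece NA-KEY (row S1360, helper32's job board)

Proved by helper15 by another route (`Lib/Helper15/BG12XFill.lean`); this file delegates.
-/

set_option autoImplicit false

open Cfsg Cfsg.Agent.Lib.Helper32 Cfsg.Agent.Lib.Helper32.BG10 Cfsg.Agent.Lib.Helper3.BG12
  Cfsg.Agent.Lib.Helper15.BG12

namespace Cfsg.Agent.Lib.Helper32.BG12X

universe u

variable {G : Type u} [Group G] [Finite G]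

theorem na_key (hG : IsMinSimpleOddOrder G) (R : Rows G) {M E A : Subgroup G} {p : ℕ}
    [Fact p.Prime] (c : Ctx7 M E p A)
    (hna : ∀ T : Sylow p G, ¬ IsMulCommutative (T : Subgroup G)) {x : G} (hxE : x ∈ E)
    (hxp : ∃ k : ℕ, x ^ p ^ k = 1) (hx : x ^ p ≠ 1) :
    ¬ lineNA M A ≤ Subgroup.zpowers x :=
  Cfsg.Agent.Lib.Helper15.BGX.na_key hG R c hna hxE hxp hx

end Cfsg.Agent.Lib.Helper32.BG12X
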