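import Cfsg.Agent.Lib.Helper32.BG12XDefs
import Cfsg.Agent.Lib.Helper32.BG12XNaKey
import Cfsg.Agent.Lib.Helper32.BG12XNaLine
import Cfsg.Agent.Lib.Helper32.BG12XGenCpl
import Cfsg.Agent.Lib.Helper32.BG12XGenExp
import Cfsg.Agent.Lib.Helper2.Gaschutz

/-!
# BGX piece NA-FREE (rows S1421 / S1359 / S1360, helper32's job board; filled by helper1)

Notation (see note 1896 / BG12XDefs.lean): `R : Rows G` bundles the earlier rows (R.h5 = B&G 10.5,
R.h8, R.h12, R.h14 = 10.11, R.h17 = 12.5, R.h18 = 12.6, R.h19 = 12.7, R.h20 = 12.10, R.h27 = 13.3(a));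
`c : Ctx7 M E p A` = (hM : IsCoatom M, hE : IsComplIn E (sigmaCore M) M, hp : p ∈ tau2 M, hAE : A ≤ E,
hA : IsElementaryAbelian p A, hA2 : Nat.card A = p ^ 2).

B&G 12.12 (free part).

Proof.  `A₀ = lineNA M A`, `|A₀| = p` (R.h19 with hna).  Let `S'` be a Sylow `p`-subgroup of `V`;
`A ≤ V` (`A` normal in `E`, R.h18 (a), and `p ∤ |E : V|`), `A₀ ≤ S'`, `S'` abelian (R.h17 (b):
`p`-subgroups of `M` are abelian).  If `x ∈ S'`, `x ^ p ∈ A₀`, `x ^ p ≠ 1`, then
`A₀ = zpowers (x ^ p) ≤ zpowers x`, contradicting na_key.  So exists_compl_of_not_pow gives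
`S₀` with `S₀ ⊓ A₀ = ⊥`, `A₀ ⊔ S₀ = S'`.  `A₀` is normal in `V ≤ M` (na_line_normal), abelian;
Gaschütz gives `V₀ ≤ V` with `V₀ ⊓ A₀ = ⊥`, `A₀ ⊔ V₀ = V`.  exponent_compl_eq (`p ^ 2 ∣ |A| ∣ |V|`)
gives the exponent.
-/

set_option autoImplicit false

open Cfsg Cfsg.Agent.Lib.Helper32 Cfsg.Agent.Lib.Helper32.BG10 Cfsg.Agent.Lib.Helper3.BG12
  Cfsg.Agent.Lib.Helper15.BG12

namespace Cfsg.Agent.Lib.Helper32.BG12X

universe u

variable {G : Type u} [Group G] [Finite G]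

/-- a normal `p`-subgroup of `E` lies in every subgroup of `E` of index prime to `p` -/
theorem nafree_normal_le {p : ℕ} [Fact p.Prime] {E N W : Subgroup G} (hNE : N ≤ E)
    (hN : IsPGroup p N) (hn : E ≤ Subgroup.normalizer (N : Set G))
    (hW : ¬ p ∣ W.relIndex E) : N ≤ W := by
  have hp : p.Prime := Fact.out
  haveI : (N.subgroupOf E).Normal := (Subgroup.normal_subgroupOf_iff_le_normalizer hNE).mpr hn
  have hN' : IsPGroup p (N.subgroupOf E) := hN.comap_subtype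
  obtain ⟨Q⟩ : Nonempty (Sylow p (W.subgroupOf E)) := inferInstance
  have hQp : IsPGroup p ((Q : Subgroup (W.subgroupOf E)).map (W.subgroupOf E).subtype) :=
    Q.isPGroup'.map _
  have hidx : ¬ p ∣ ((Q : Subgroup (W.subgroupOf E)).map (W.subgroupOf E).subtype).index := by
    rw [Subgroup.index_map_subtype]
    intro h
    rcases (Nat.Prime.dvd_mul hp).mp h with h | h
    · exact Q.not_dvd_index h
    · exact hW h
  have h1 : N.subgroupOf E ≤ hQp.toSylow hidx := hN'.le_sylow_of_normal _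
  intro x hx
  have h2 : (⟨x, hNE hx⟩ : E) ∈ hQp.toSylow hidx := h1 (Subgroup.mem_subgroupOf.mpr hx)
  rw [IsPGroup.mem_toSylow] at h2
  obtain ⟨y, _, hyx⟩ := Subgroup.mem_map.mp h2
  have h3 : (⟨x, hNE hx⟩ : E) ∈ W.subgroupOf E := by
    rw [← hyx]
    exact y.2
  exact Subgroup.mem_subgroupOf.mp h3

/-- `p`-subgroups of `M` are abelian (R.h17) -/
theorem nafree_pgroup_comm (R : Rows G) {M E A : Subgroup G} {p : ℕ} [Fact p.Prime]
    (c : Ctx7 M E p A) {P : Subgroup G} (hPM : P ≤ M) (hP : IsPGroup p P) :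
    IsMulCommutative P := by
  have hEM : E ≤ M := c.hE.1
  obtain ⟨_, hSyl, _⟩ := R.h17 M c.hM p c.hp A ⟨c.hAE.trans hEM, c.hA, c.hA2⟩
  have hP' : IsPGroup p (P.subgroupOf M) := hP.comap_subtype
  obtain ⟨T, hT⟩ := hP'.exists_le_sylow
  have hTc := (hSyl T).1
  refine ⟨⟨fun a b => ?_⟩⟩
  have ha : (⟨a.1, hPM a.2⟩ : M) ∈ (T : Subgroup M) := hT (Subgroup.mem_subgroupOf.mpr a.2)
  have hb : (⟨b.1, hPM b.2⟩ : M) ∈ (T : Subgroup M) := hT (Subgroup.mem_subgroupOf.mpr b.2)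
  have h1 := hTc.is_comm.comm ⟨_, ha⟩ ⟨_, hb⟩
  apply Subtype.ext
  have h2 : (a : G) * (b : G) = (b : G) * (a : G) :=
    congrArg (fun t : (T : Subgroup M) => ((t : M) : G)) h1
  exact h2

theorem na_free_compl (hG : IsMinSimpleOddOrder G) (R : Rows G) {M E A : Subgroup G} {p : ℕ}
    [Fact p.Prime] (c : Ctx7 M E p A)
    (hna : ∀ T : Sylow p G, ¬ IsMulCommutative (T : Subgroup G)) {V : Subgroup G} (hVE : V ≤ E)
    (hV : ¬ p ∣ V.relIndex E) :
    ∃ V₀ : Subgroup G, V₀ ≤ V ∧ Monoid.exponent V₀ = Monoid.exponent V ∧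
      V₀ ⊓ lineNA M A = ⊥ := by
  have hp : p.Prime := Fact.out
  have hEM : E ≤ M := c.hE.1
  obtain ⟨_, ⟨hA₀c, _⟩, _⟩ := R.h19 M c.hM E c.hE p c.hp hna A ⟨c.hAE, c.hA, c.hA2⟩
  have hc : Nat.card (lineNA M A) = p := hA₀c
  obtain ⟨⟨hEnA, _⟩, _, _⟩ := R.h18 M c.hM E c.hE p c.hp A ⟨c.hAE, c.hA, c.hA2⟩
  have hAp : IsPGroup p A := IsPGroup.of_card (n := 2) c.hA2
  have hAV : A ≤ V := nafree_normal_le c.hAE hAp hEnA hV
  have hA₀A : lineNA M A ≤ A := inf_le_left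
  have hA₀V : lineNA M A ≤ V := hA₀A.trans hAV
  have hMn := na_line_normal hG R c
  have hVn : V ≤ Subgroup.normalizer ((lineNA M A : Subgroup G) : Set G) :=
    (hVE.trans hEM).trans hMn
  have hA₀p : IsPGroup p (lineNA M A) := IsPGroup.of_card (n := 1) (by rw [hc, pow_one])
  have hab : ∀ P : Subgroup G, P ≤ V → IsPGroup p P → IsMulCommutative P :=
    fun P hPV hP => nafree_pgroup_comm R c (hPV.trans (hVE.trans hEM)) hP
  have hbig : p ^ 2 ∣ Nat.card V := by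
    rw [← c.hA2]
    exact Subgroup.card_dvd_of_le hAV
  -- a Sylow `p`-subgroup of `V`
  haveI hKn : ((lineNA M A).subgroupOf V).Normal :=
    (Subgroup.normal_subgroupOf_iff_le_normalizer hA₀V).mpr hVn
  obtain ⟨Q⟩ : Nonempty (Sylow p V) := inferInstance
  have hKp : IsPGroup p ((lineNA M A).subgroupOf V) := hA₀p.comap_subtype
  have hKQ : (lineNA M A).subgroupOf V ≤ Q := hKp.le_sylow_of_normal Q
  have hS'V : (Q : Subgroup V).map V.subtype ≤ V := Subgroup.map_subtype_le _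
  have hS'p : IsPGroup p ((Q : Subgroup V).map V.subtype) := Q.isPGroup'.map _
  have hA₀S' : lineNA M A ≤ (Q : Subgroup V).map V.subtype := by
    intro x hx
    exact Subgroup.mem_map.mpr ⟨⟨x, hA₀V hx⟩, hKQ (Subgroup.mem_subgroupOf.mpr hx), rfl⟩
  have hS'c : IsMulCommutative ((Q : Subgroup V).map V.subtype) := hab _ hS'V hS'p
  have hpow : ∀ x ∈ (Q : Subgroup V).map V.subtype, x ^ p ∈ lineNA M A → x ^ p = 1 := by
    intro x hx hxp
    by_contra hne
    have hxE : x ∈ E := hVE (hS'V hx)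
    have hxk : ∃ k : ℕ, x ^ p ^ k = 1 := by
      obtain ⟨k, hk⟩ := hS'p ⟨x, hx⟩
      exact ⟨k, congrArg Subtype.val hk⟩
    apply na_key hG R c hna hxE hxk hne
    have h1 : Subgroup.zpowers (x ^ p) ≤ lineNA M A := Subgroup.zpowers_le.mpr hxp
    have h2 : Subgroup.zpowers (x ^ p) = lineNA M A := by
      apply Subgroup.eq_of_le_of_card_ge h1
      rw [hc, Nat.card_zpowers]
      have h3 : orderOf (x ^ p) ∣ p := by
        have h4 := pow_card_eq_one' (G := lineNA M A) (x := ⟨x ^ p, hxp⟩)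
        rw [hc] at h4
        exact orderOf_dvd_of_pow_eq_one (congrArg Subtype.val h4)
      rcases (Nat.dvd_prime hp).mp h3 with h | h
      · exact absurd (orderOf_eq_one_iff.mp h) hne
      · exact h.ge
    rw [← h2]
    exact Subgroup.zpowers_le.mpr (Subgroup.pow_mem _ (Subgroup.mem_zpowers x) p)
  obtain ⟨S₀, hS₀S', hS₀inf, hS₀sup⟩ := exists_compl_of_not_pow hS'c hS'p hA₀S' hc hpow
  -- Gaschütz in `V`
  haveI hKc : IsMulCommutative ((lineNA M A).subgroupOf V) := by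
    have hcA₀ := hab (lineNA M A) hA₀V hA₀p
    refine ⟨⟨fun a b => ?_⟩⟩
    have h1 := hcA₀.is_comm.comm ⟨a.1.1, a.2⟩ ⟨b.1.1, b.2⟩
    have h2 : ((a : V) : G) * ((b : V) : G) = ((b : V) : G) * ((a : V) : G) :=
      congrArg Subtype.val h1
    apply Subtype.ext
    apply Subtype.ext
    exact h2
  have hcop : (Nat.card ((lineNA M A).subgroupOf V)).Coprime (Q : Subgroup V).index := by
    have h1 : Nat.card ((lineNA M A).subgroupOf V) = p := by
      rw [← hc]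
      exact Nat.card_congr (Subgroup.subgroupOfEquivOfLe hA₀V).toEquiv
    rw [h1]
    exact (Nat.Prime.coprime_iff_not_dvd hp).mpr Q.not_dvd_index
  have hAK : S₀.subgroupOf V ⊓ (lineNA M A).subgroupOf V = ⊥ := by
    rw [eq_bot_iff]
    rintro x ⟨hx1, hx2⟩
    have h1 : (x : G) ∈ S₀ ⊓ lineNA M A :=
      ⟨Subgroup.mem_subgroupOf.mp hx1, Subgroup.mem_subgroupOf.mp hx2⟩
    rw [hS₀inf, Subgroup.mem_bot] at h1
    exact Subgroup.mem_bot.mpr (Subtype.ext h1)
  have hKA : (lineNA M A).subgroupOf V ⊔ S₀.subgroupOf V = (Q : Subgroup V) := by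
    rw [← Subgroup.subgroupOf_sup hA₀V (hS₀S'.trans hS'V), hS₀sup, ← Subgroup.comap_subtype]
    exact Subgroup.comap_map_eq_self_of_injective V.subtype_injective _
  obtain ⟨H, hH⟩ := Cfsg.Agent.Lib.Helper2.gaschutz_exists ((lineNA M A).subgroupOf V)
    (Q : Subgroup V) hKQ hcop (S₀.subgroupOf V) hAK hKA
  have hinf : H.map V.subtype ⊓ lineNA M A = ⊥ := by
    rw [eq_bot_iff]
    rintro x ⟨hx1, hx2⟩
    obtain ⟨y, hy, rfl⟩ := Subgroup.mem_map.mp hx1
    have h1 : y ∈ (lineNA M A).subgroupOf V := Subgroup.mem_subgroupOf.mpr hx2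
    have h2 : y = 1 := Subgroup.disjoint_def.mp hH.disjoint h1 hy
    rw [h2, map_one]
    exact Subgroup.one_mem _
  have hsup : lineNA M A ⊔ H.map V.subtype = V := by
    have h1 := hH.sup_eq_top
    have h2 := congrArg (Subgroup.map V.subtype) h1
    rw [Subgroup.map_sup, Subgroup.map_subgroupOf_eq_of_le hA₀V, ← MonoidHom.range_eq_map,
      Subgroup.range_subtype] at h2
    exact h2
  exact ⟨H.map V.subtype, Subgroup.map_subtype_le _,
    exponent_compl_eq (Subgroup.map_subtype_le _) hA₀V hVn hc hinf hsup hab hbig, hinf⟩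

end Cfsg.Agent.Lib.Helper32.BG12X
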