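import Cfsg.Agent.Lib.Helper32.BG12XSylData
import Cfsg.Agent.Lib.Helper32.BG12XSylNormal
import Cfsg.Agent.Lib.Helper32.BG12XHallE2
import Cfsg.Agent.Lib.Helper32.BG12XNaLine
import Cfsg.Agent.Lib.Helper32.BG12XNaFix
import Cfsg.Agent.Lib.Helper32.BG12XNaFree
import Cfsg.Agent.Lib.Helper32.BG12XTau2Fix
import Cfsg.Agent.Lib.Helper32.BG12XAbFree
import Cfsg.Agent.Lib.Helper15.BG14a

/-!
# BGX: B&G 12.16 (rows S1421, S1359, S1360), assembly (helper32)

`core_a`: an abelian normal subgroup of the complement `E` containing the `τ₂`-elements with a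
fixed point on `M_σ`; `core_b`: a subgroup of the same exponent acting freely.
-/

set_option autoImplicit false

open Cfsg Cfsg.Agent.Lib.Helper32 Cfsg.Agent.Lib.Helper32.BG10 Cfsg.Agent.Lib.Helper3.BG12
  Cfsg.Agent.Lib.Helper15.BG12 Cfsg.Agent.Lib.Helper3.BG13T Cfsg.Agent.Lib.Helper32.BG12

namespace Cfsg.Agent.Lib.Helper32.BG12X

universe u

variable {G : Type u} [Group G] [Finite G]

theorem comm_of_le' {H K : Subgroup G} (h : H ≤ K) (hK : IsMulCommutative K) :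
    IsMulCommutative H :=
  ⟨⟨fun a b => Subtype.ext (show (a : G) * (b : G) = (b : G) * (a : G) from
    congrArg Subtype.val (hK.is_comm.comm ⟨a, h a.2⟩ ⟨b, h b.2⟩))⟩⟩

theorem exists_sylow_sub (p : ℕ) [Fact p.Prime] (E : Subgroup G) :
    ∃ S : Subgroup G, S ≤ E ∧ IsPGroup p S ∧ ¬ p ∣ S.relIndex E := by
  obtain ⟨P⟩ : Nonempty (Sylow p E) := inferInstance
  refine ⟨(P : Subgroup E).map E.subtype, Subgroup.map_subtype_le _, ?_, ?_⟩
  · exact P.2.map E.subtype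
  · have h1 : ((P : Subgroup E).map E.subtype).subgroupOf E = (P : Subgroup E) :=
      Subgroup.comap_map_eq_self_of_injective (Subgroup.subtype_injective E) _
    rw [Subgroup.relIndex, h1]
    exact P.not_dvd_index

theorem pelt_of_primes {p : ℕ} (hp : p.Prime) {e : G}
    (h : ∀ r : ℕ, r.Prime → r ∣ orderOf e → r = p) : ∃ k : ℕ, e ^ p ^ k = 1 := by
  have hpos : orderOf e ≠ 0 := (orderOf_pos e).ne'
  have h1 := Nat.eq_prime_pow_of_unique_prime_dvd hpos (fun {d} hd hdd => h d hd hdd)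
  exact ⟨_, by rw [← h1]; exact pow_orderOf_eq_one e⟩

theorem core_a (hG : IsMinSimpleOddOrder G) (R : Rows G) {M E : Subgroup G} (hM : IsCoatom M)
    (hE : IsComplIn E (sigmaCore M) M) :
    ∃ A₀ : Subgroup G, A₀ ≤ E ∧ E ≤ Subgroup.normalizer (A₀ : Set G) ∧ IsMulCommutative A₀ ∧
      ∀ e ∈ E, (∀ r : ℕ, r.Prime → r ∣ orderOf e → r ∈ tau2 M) →
        sigmaCore M ⊓ Subgroup.centralizer ({e} : Set G) ≠ ⊥ → e ∈ A₀ := by
  by_cases hNA : ∃ p, p ∈ tau2 M ∧ ∀ T : Sylow p G, ¬ IsMulCommutative (T : Subgroup G)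
  · obtain ⟨p, hp, hna⟩ := hNA
    haveI : Fact p.Prime := ⟨hp.1⟩
    obtain ⟨A, hAE, hA, hA2⟩ := exists_tau2_elemAb hG hM hE hp
    have c : Ctx7 M E p A := ⟨hM, hE, hp, hAE, hA, hA2⟩
    have h19 := R.h19 M hM E hE p hp hna A ⟨hAE, hA, hA2⟩
    refine ⟨lineNA M A, inf_le_left.trans hAE, hE.1.trans (na_line_normal hG R c),
      comm_of_le' inf_le_left hA.1, ?_⟩
    intro e he hτ hfix
    refine na_fixed_mem hG R c hna he (pelt_of_primes hp.1 (fun r hr hrd => ?_)) hfix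
    have h1 := hτ r hr hrd
    rw [h19.1] at h1
    exact h1
  · have hNA' : ∀ p ∈ tau2 M, ∃ T : Sylow p G, IsMulCommutative (T : Subgroup G) := by
      intro p hp
      by_contra h
      exact hNA ⟨p, hp, fun T hT => h ⟨T, hT⟩⟩
    have hS : ∀ p ∈ tau2 M, p.Prime → ∃ S : Subgroup G, S ≤ E ∧ IsPGroup p S ∧
        ¬ p ∣ S.relIndex E ∧ E ≤ Subgroup.normalizer (S : Set G) ∧ IsMulCommutative S := by
      intro p hp hpp
      haveI : Fact p.Prime := ⟨hpp⟩
      obtain ⟨A, hAE, hA, hA2⟩ := exists_tau2_elemAb hG hM hE hp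
      obtain ⟨T, hT⟩ := hNA' p hp
      obtain ⟨S, hSE, hSp, hSyl⟩ := exists_sylow_sub p E
      have cs : CtxS M E p A S := ⟨⟨hM, hE, hp, hAE, hA, hA2⟩, ⟨T, hT⟩, hSE, hSp, hSyl⟩
      exact ⟨S, hSE, hSp, hSyl, sylow_normal_of_abelian hG R cs,
        (sylow_data hG R cs.c hSE hSp hSyl).2.1⟩
    obtain ⟨E₂, hE₂E, hE₂n, hE₂ab, hE₂mem, -, -⟩ := hall_of_normal_sylows E (tau2 M) hS
    exact ⟨E₂, hE₂E, hE₂n, hE₂ab, fun e he hτ _ => hE₂mem e he hτ⟩

theorem core_b (hG : IsMinSimpleOddOrder G) (R : Rows G) {M E : Subgroup G} (hM : IsCoatom M)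
    (hE : IsComplIn E (sigmaCore M) M) {V : Subgroup G} (hVE : V ≤ E)
    (hV : ∀ p ∈ tau2 M, ¬ p ∣ V.relIndex E) (hfree : FreeHyp M V) :
    ∃ V₀ : Subgroup G, V₀ ≤ V ∧ Monoid.exponent V₀ = Monoid.exponent V ∧
      ∀ v ∈ V₀, v ≠ 1 → sigmaCore M ⊓ Subgroup.centralizer ({v} : Set G) = ⊥ := by
  by_cases hNA : ∃ p, p ∈ tau2 M ∧ ∀ T : Sylow p G, ¬ IsMulCommutative (T : Subgroup G)
  · obtain ⟨p, hp, hna⟩ := hNA
    haveI : Fact p.Prime := ⟨hp.1⟩
    obtain ⟨A, hAE, hA, hA2⟩ := exists_tau2_elemAb hG hM hE hp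
    have c : Ctx7 M E p A := ⟨hM, hE, hp, hAE, hA, hA2⟩
    have h19 := R.h19 M hM E hE p hp hna A ⟨hAE, hA, hA2⟩
    obtain ⟨V₀, hV₀V, hexp, hinf⟩ := na_free_compl hG R c hna hVE (hV p hp)
    refine ⟨V₀, hV₀V, hexp, fun v hv hv1 => ?_⟩
    by_contra hfix
    have hτ := tau2_of_fixed hG hM hE hVE hfree (hV₀V hv) hfix
    have hvp : ∃ k : ℕ, v ^ p ^ k = 1 := pelt_of_primes hp.1 (fun r hr hrd => by
      have h1 := hτ r hr hrd
      rw [h19.1] at h1
      exact h1)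
    have hmem := na_fixed_mem hG R c hna (hVE (hV₀V hv)) hvp hfix
    have h2 : v ∈ V₀ ⊓ lineNA M A := Subgroup.mem_inf.mpr ⟨hv, hmem⟩
    rw [hinf] at h2
    exact hv1 (Subgroup.mem_bot.mp h2)
  · have hNA' : ∀ p ∈ tau2 M, ∃ T : Sylow p G, IsMulCommutative (T : Subgroup G) := by
      intro p hp
      by_contra h
      exact hNA ⟨p, hp, fun T hT => h ⟨T, hT⟩⟩
    exact ab_free_sub hG R hM hE hNA' hVE hV hfree

/-- `τ₂(M)` and `κ(M)` are disjoint -/
theorem tau2_not_kappa {M : Subgroup G} {p : ℕ} (hp : p ∈ tau2 M) : p ∉ kappa M := by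
  intro hk
  haveI : Fact p.Prime := ⟨hp.1⟩
  apply hp.2.2.2
  intro A hAc hAp
  have hAP : IsPGroup p A := by
    intro a
    refine ⟨1, ?_⟩
    rw [pow_one]
    exact Subtype.ext (by rw [Subgroup.coe_pow, Subgroup.coe_one]; exact hAp a a.2)
  obtain ⟨P, hP⟩ := hAP.exists_le_sylow
  haveI hcyc : IsCyclic (P : Subgroup M) := (hk.2.2.2 P).1
  haveI : IsCyclic A := by
    have hinj : Function.Injective (Subgroup.inclusion hP) := Subgroup.inclusion_injective hP
    exact isCyclic_of_injective (Subgroup.inclusion hP) hinj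
  have hexp : Monoid.exponent A ∣ p := by
    apply Monoid.exponent_dvd_of_forall_pow_eq_one
    intro a
    exact Subtype.ext (by rw [Subgroup.coe_pow, Subgroup.coe_one]; exact hAp a a.2)
  rw [IsCyclic.exponent_eq_card] at hexp
  rw [pow_one]
  exact Nat.le_of_dvd hp.1.pos hexp

/-- S1359 -/
theorem s1359 (hG : IsMinSimpleOddOrder G) (R : Rows G) {M : Subgroup G} (hM : IsCoatom M)
    {K U : Subgroup G} (hKU : IsSigmaDecomposition M K U) :
    IsMulCommutative (Subgroup.closure ((U : Set G) ∩ sigmaHat M)) := by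
  obtain ⟨E, hE, hUE⟩ := exists_compl_ge hG hM hKU.compl.1
    (Cfsg.Agent.Lib.Helper15.BG14.u_coprime hG hM hKU)
  obtain ⟨A₀, -, -, h3, h4⟩ := core_a hG R hM hE
  refine comm_of_le' ?_ h3
  rw [Subgroup.closure_le]
  rintro u ⟨huU, -, y, hy, hy1, hcomm⟩
  have hfix : sigmaCore M ⊓ Subgroup.centralizer ({u} : Set G) ≠ ⊥ := by
    intro h0
    have h1 : y ∈ sigmaCore M ⊓ Subgroup.centralizer ({u} : Set G) := by
      refine Subgroup.mem_inf.mpr ⟨hy, ?_⟩
      rw [Subgroup.mem_centralizer_iff]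
      intro g hg
      rw [Set.mem_singleton_iff.mp hg]
      exact hcomm
    rw [h0] at h1
    exact hy1 (Subgroup.mem_bot.mp h1)
  have hfixX : sigmaCore M ⊓ Subgroup.centralizer ((Subgroup.zpowers u : Subgroup G) : Set G)
      ≠ ⊥ := by
    intro h0
    have h1 : y ∈ sigmaCore M ⊓
        Subgroup.centralizer ((Subgroup.zpowers u : Subgroup G) : Set G) := by
      refine Subgroup.mem_inf.mpr ⟨hy, ?_⟩
      rw [Subgroup.mem_centralizer_iff]
      intro g hg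
      obtain ⟨k, rfl⟩ := Subgroup.mem_zpowers_iff.mp hg
      exact (Commute.zpow_left (show Commute u y from hcomm) k).eq
    rw [h0] at h1
    exact hy1 (Subgroup.mem_bot.mp h1)
  refine h4 u (hUE huU) (fun r hr hrd => ?_) hfix
  exact Cfsg.Agent.Lib.Helper15.BG14.u_tau2 hG hM hKU (X := Subgroup.zpowers u)
    ((Subgroup.zpowers_le).mpr huU) hfixX hr (by rw [Nat.card_zpowers]; exact hrd)

theorem cent_singleton_le_zpowers (v : G) :
    Subgroup.centralizer ({v} : Set G) ≤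
      Subgroup.centralizer ((Subgroup.zpowers v : Subgroup G) : Set G) := by
  intro y hy
  rw [Subgroup.mem_centralizer_iff] at hy ⊢
  intro g hg
  obtain ⟨k, rfl⟩ := Subgroup.mem_zpowers_iff.mp hg
  exact (Commute.zpow_left (show Commute v y from hy v rfl) k).eq

/-- S1360 -/
theorem s1360 (hG : IsMinSimpleOddOrder G) (R : Rows G) {M : Subgroup G} (hM : IsCoatom M)
    {K U : Subgroup G} (hKU : IsSigmaDecomposition M K U) :
    ∃ U₀ : Subgroup G, U₀ ≤ U ∧ Monoid.exponent U₀ = Monoid.exponent U ∧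
      ∀ u ∈ U₀, u ∈ sigmaHat M → u = 1 := by
  obtain ⟨E, hE, hUE⟩ := exists_compl_ge hG hM hKU.compl.1
    (Cfsg.Agent.Lib.Helper15.BG14.u_coprime hG hM hKU)
  have hKM : K ≤ M := hKU.hall.1
  have hnσ : M ≤ Subgroup.normalizer ((sigmaCore M : Subgroup G) : Set G) :=
    le_normalizer_map_subtype M _
  have hV : ∀ p ∈ tau2 M, ¬ p ∣ U.relIndex E := by
    intro p hp hd
    haveI : Fact p.Prime := ⟨hp.1⟩
    have h1 : Nat.card U * U.relIndex E = Nat.card E := card_mul_relIndex_of_le hUE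
    have h2 := card_of_isComplIn hKU.compl
    have h3 := card_of_isComplIn hE
    have hpos : 0 < Nat.card U := Nat.card_pos
    have h4 : U.relIndex E * Nat.card (sigmaCore M) =
        Nat.card (K ⊔ sigmaCore M : Subgroup G) := by
      apply Nat.eq_of_mul_eq_mul_left hpos
      rw [← mul_assoc, h1, ← h3, h2]
    have hσ : (Nat.card (sigmaCore M)).Coprime p := by
      rw [Nat.coprime_comm, Nat.Prime.coprime_iff_not_dvd hp.1]
      intro hd'
      exact hp.2.1 (mem_sigma_of_dvd_sigmaCore hp.1 hd')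
    have hK : (Nat.card K).Coprime p := by
      rw [Nat.coprime_comm, Nat.Prime.coprime_iff_not_dvd hp.1]
      intro hd'
      exact tau2_not_kappa hp (hKU.hall.2.1 p hp.1 hd')
    have h5 := coprime_card_sup (hKM.trans hnσ) hσ hK
    rw [sup_comm] at h5
    have h6 : p ∣ Nat.card (K ⊔ sigmaCore M : Subgroup G) := by
      rw [← h4]
      exact hd.mul_right _
    exact (Nat.Prime.coprime_iff_not_dvd hp.1).mp h5.symm h6
  have hfree : FreeHyp M U := by
    intro v hv hv1 hτ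
    by_contra hfix
    have hfixX : sigmaCore M ⊓
        Subgroup.centralizer ((Subgroup.zpowers v : Subgroup G) : Set G) ≠ ⊥ := by
      intro h0
      apply hfix
      rw [eq_bot_iff, ← h0]
      exact inf_le_inf_left _ (cent_singleton_le_zpowers v)
    obtain ⟨r, hr, hrd⟩ := Nat.exists_prime_and_dvd
      (show orderOf v ≠ 1 from fun h => hv1 (orderOf_eq_one_iff.mp h))
    have h2 := Cfsg.Agent.Lib.Helper15.BG14.u_tau2 hG hM hKU (X := Subgroup.zpowers v)
      ((Subgroup.zpowers_le).mpr hv) hfixX hr (by rw [Nat.card_zpowers]; exact hrd)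
    rcases hτ r hr hrd with h1 | h3
    · exact h2.2.2.2 h1.2.2.2.2
    · exact h2.2.2.2 h3.2.2.2
  obtain ⟨U₀, h1, h2, h3⟩ := core_b hG R hM hE hUE hV hfree
  refine ⟨U₀, h1, h2, fun u hu hσ => ?_⟩
  by_contra hu1
  obtain ⟨-, y, hy, hy1, hc⟩ := hσ
  have h4 : y ∈ sigmaCore M ⊓ Subgroup.centralizer ({u} : Set G) := by
    refine Subgroup.mem_inf.mpr ⟨hy, ?_⟩
    rw [Subgroup.mem_centralizer_iff]
    intro g hg
    rw [Set.mem_singleton_iff.mp hg]
    exact hc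
  rw [h3 u hu hu1] at h4
  exact hy1 (Subgroup.mem_bot.mp h4)

/-- S1421 -/
theorem s1421 (hG : IsMinSimpleOddOrder G) (R : Rows G) {M E : Subgroup G} (hM : IsCoatom M)
    (hE : IsComplIn E (sigmaCore M) M) (h : FreeHyp M E) :
    (∃ A₀ : Subgroup G, A₀ ≤ E ∧ E ≤ Subgroup.normalizer (A₀ : Set G) ∧ IsMulCommutative A₀ ∧
        ∀ x ∈ sigmaCore M, x ≠ 1 → E ⊓ Subgroup.centralizer ({x} : Set G) ≤ A₀) ∧
      ∃ E₀ : Subgroup G, E₀ ≤ E ∧ Monoid.exponent E₀ = Monoid.exponent E ∧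
        ∀ e ∈ E₀, e ≠ 1 → sigmaCore M ⊓ Subgroup.centralizer ({e} : Set G) = ⊥ := by
  obtain ⟨A₀, h1, h2, h3, h4⟩ := core_a hG R hM hE
  refine ⟨⟨A₀, h1, h2, h3, fun x hx hx1 e he => ?_⟩, ?_⟩
  · obtain ⟨heE, hec⟩ := Subgroup.mem_inf.mp he
    have hfix : sigmaCore M ⊓ Subgroup.centralizer ({e} : Set G) ≠ ⊥ := by
      intro h0
      have h5 : x ∈ sigmaCore M ⊓ Subgroup.centralizer ({e} : Set G) := by
        refine Subgroup.mem_inf.mpr ⟨hx, ?_⟩
        rw [Subgroup.mem_centralizer_iff]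
        intro g hg
        rw [Set.mem_singleton_iff.mp hg]
        exact ((Subgroup.mem_centralizer_iff.mp hec) x rfl).symm
      rw [h0] at h5
      exact hx1 (Subgroup.mem_bot.mp h5)
    exact h4 e heE (tau2_of_fixed hG hM hE le_rfl h heE hfix) hfix
  · exact core_b hG R hM hE le_rfl
      (fun p hp hd => hp.1.ne_one (Nat.dvd_one.mp (by rwa [Subgroup.relIndex_self] at hd))) h

end Cfsg.Agent.Lib.Helper32.BG12X
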