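import Cfsg.Agent.Lib.Helper32.BG12XDefs
import Cfsg.Agent.Lib.Helper32.BG12XNaLine

/-!
# BGX piece NA-RED (rows S1421 / S1359 / S1360, helper32's job board)

Notation: `R : Rows G` bundles the earlier rows (R.h5 = B&G 10.5, R.h8 = 10.8, R.h12 = 10.9,
R.h14 = 10.11 (S1414), R.h16, R.h17 = 12.5 (S1417), R.h18 = 12.6 (S1418), R.h19 = 12.7 (S1419),
R.h20 = 12.10 (S1420), R.h27 = 13.3(a)); `c : Ctx7 M E p A` = (hM : IsCoatom M,
hE : IsComplIn E (sigmaCore M) M, hp : p ∈ tau2 M, hAE : A ≤ E, hA : IsElementaryAbelian p A,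
hA2 : Nat.card A = p ^ 2).  Kit: Cfsg.Agent.Lib.Helper32.BG12.* (pgroup_le_sigmaCore,
mem_sigma_of_dvd_sigmaCore, alpha_sub_sigma, card_of_isComplIn, ...), Helper3.BG13T.*
(exists_compl_ge, exists_tau2_elemAb, coprime_of_sigma, ...), `minSimple_solvable`,
`minSimple_odd_sub`, `ut_of`.

You may use `na_line_normal` (imported placeholder).

Proof.  Suppose `P` centralizes `A₀ = lineNA M A`.  `|A₀| = p` (R.h19 with hna, second clause),
so `A₀ ≠ ⊥`, `N(A₀) ≠ ⊤` (`G` simple), and `M ≤ N(A₀)` (na_line_normal) gives `N(A₀) = M`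
(`M` coatom).  So `P ≤ C(A₀) ≤ M`; `P` is a `p`-subgroup of `M`, so it lies in a Sylow
`p`-subgroup of `M`, which is abelian (R.h17, clause (b)): `P` abelian, contradicting `hna P`.
-/

set_option autoImplicit false

open Cfsg Cfsg.Agent.Lib.Helper32 Cfsg.Agent.Lib.Helper32.BG10 Cfsg.Agent.Lib.Helper3.BG12
  Cfsg.Agent.Lib.Helper15.BG12

namespace Cfsg.Agent.Lib.Helper32.BG12X

universe u

variable {G : Type u} [Group G] [Finite G]

theorem na_not_central (hG : IsMinSimpleOddOrder G) (R : Rows G) {M E A : Subgroup G} {p : ℕ}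
    [Fact p.Prime] (c : Ctx7 M E p A)
    (hna : ∀ T : Sylow p G, ¬ IsMulCommutative (T : Subgroup G)) (P : Sylow p G) :
    ¬ ∀ g ∈ (P : Subgroup G), ∀ a ∈ lineNA M A, g * a = a * g := by
  intro hcent
  haveI hs : IsSimpleGroup G := hG.2.1
  have hp := (Fact.out : p.Prime)
  obtain ⟨-, ⟨hcard, -⟩, -⟩ := R.h19 M c.hM E c.hE p c.hp hna A ⟨c.hAE, c.hA, c.hA2⟩
  have hcard' : Nat.card (lineNA M A) = p := hcard
  have hA0ne : lineNA M A ≠ ⊥ := by
    intro h
    rw [h, Subgroup.card_bot] at hcard'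
    exact hp.one_lt.ne hcard'
  have hA0M : lineNA M A ≤ M := fun x hx => c.hE.1 (c.hAE hx.1)
  have hNtop : Subgroup.normalizer ((lineNA M A : Subgroup G) : Set G) ≠ ⊤ := by
    intro h
    have hn : (lineNA M A).Normal := Subgroup.normalizer_eq_top_iff.mp h
    rcases hn.eq_bot_or_eq_top with h1 | h1
    · exact hA0ne h1
    · apply c.hM.1
      rw [eq_top_iff, ← h1]
      exact hA0M
  have hNM : Subgroup.normalizer ((lineNA M A : Subgroup G) : Set G) = M := by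
    rcases c.hM.le_iff.mp (na_line_normal hG R c) with h | h
    · exact absurd h hNtop
    · exact h
  have hPM : (P : Subgroup G) ≤ M := by
    intro g hg
    rw [← hNM]
    apply Subgroup.centralizer_le_normalizer
    rw [Subgroup.mem_centralizer_iff]
    intro a ha
    exact (hcent g hg a ha).symm
  obtain ⟨-, hab, -⟩ := R.h17 M c.hM p c.hp A ⟨c.hAE.trans c.hE.1, c.hA, c.hA2⟩
  have hPp : IsPGroup p ((P : Subgroup G).subgroupOf M) := P.isPGroup'.comap_subtype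
  obtain ⟨Q, hQ⟩ := hPp.exists_le_sylow
  apply hna P
  have hQc := (hab Q).1
  refine ⟨⟨fun a b => ?_⟩⟩
  have ha : (⟨a.1, hPM a.2⟩ : M) ∈ (Q : Subgroup M) := hQ (Subgroup.mem_subgroupOf.mpr a.2)
  have hb : (⟨b.1, hPM b.2⟩ : M) ∈ (Q : Subgroup M) := hQ (Subgroup.mem_subgroupOf.mpr b.2)
  have hcomm := hQc.is_comm.comm ⟨_, ha⟩ ⟨_, hb⟩
  have h3 := congrArg (fun x : (Q : Subgroup M) => ((x : M) : G)) hcomm
  exact Subtype.ext h3

end Cfsg.Agent.Lib.Helper32.BG12X
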