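import Cfsg.Agent.Lib.Helper32.BG12XDefs
import Cfsg.Agent.Lib.Helper3.BG12f
import Cfsg.Agent.Lib.Helper15.BG12Asm
import Cfsg.Agent.Lib.Helper41.BG11Kit
import Cfsg.Agent.Lib.Helper32.BG10Main
import Cfsg.Agent.S1412
import Cfsg.Agent.S1414
import Cfsg.Agent.S1416
import Cfsg.Agent.S1417

/-!
# BGX: the earlier rows, instantiated (helper32)
-/

set_option autoImplicit false

open Cfsg Cfsg.Agent.Lib.Helper32 Cfsg.Agent.Lib.Helper32.BG10 Cfsg.Agent.Lib.Helper3.BG12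
  Cfsg.Agent.Lib.Helper15.BG12

namespace Cfsg.Agent.Lib.Helper32.BG12X

universe u

variable {G : Type u} [Group G] [Finite G]

theorem rows_of (hG : IsMinSimpleOddOrder G) : Rows G := by
  have h12 : H12 G := fun p _ P hr => Cfsg.Agent.S1412.result hG p P hr
  have h14 : H14 G := fun M hM => Cfsg.Agent.S1414.result hG M hM
  have h16 : H16 G := fun M hM p _ A hA => Cfsg.Agent.S1416.result hG M hM p A hA
  have h17 : H17 G := fun M hM p _ hp A hA => Cfsg.Agent.S1417.result hG M hM p hp A hA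
  have h18 : H18 G := Cfsg.Agent.Lib.Helper3.BG12.h18_of hG h16 h17
  exact ⟨Cfsg.Agent.Lib.Helper41.BG11.h5_of hG, Cfsg.Agent.Lib.Helper32.BG10.h8_of hG, h12, h14,
    h16, h17, h18, Cfsg.Agent.Lib.Helper15.BG12.h19_of hG h16 h17 h18,
    Cfsg.Agent.Lib.Helper3.BG12.h20_of hG h16 h17,
    fun M hM E hE p _ S hS1 hSc =>
      Cfsg.Agent.Lib.Helper3.BG13.bg13_3a hG h14 h17 h18 M hM E hE p S hS1 hSc⟩

end Cfsg.Agent.Lib.Helper32.BG12X
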