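import Cfsg.Agent.Lib.Helper32.BG12XDefs

/-!
# BGX piece SOC-R2 (rows S1421 / S1359 / S1360, helper32's job board; proved by helper16)

Only `R.h12` (= S1412, B&G 10.9) is needed.

Proof.  R.h12 p P hr: `P` abelian (excluded) or `P = P₁ ⊔ P₂` with `P₁`, `P₂` commuting
elementwise, `Monoid.exponent P₁ = p`, `P₂` cyclic.  Then `P₂` is central in `P`, and
`x = u v` with `u ∈ P₁`, `v ∈ P₂`, so `x ^ p = u ^ p v ^ p = v ^ p ∈ P₂`.  `zpowers x` is a
cyclic `p`-group, `zpowers (x ^ p) ≠ ⊥`, so its unique subgroup of order `p`, namely `X`, lies in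
`zpowers (x ^ p) ≤ P₂`, which is central in `P`.
-/

set_option autoImplicit false
set_option linter.unusedSectionVars false

open Cfsg Cfsg.Agent.Lib.Helper32 Cfsg.Agent.Lib.Helper32.BG10 Cfsg.Agent.Lib.Helper3.BG12
  Cfsg.Agent.Lib.Helper15.BG12

namespace Cfsg.Agent.Lib.Helper32.BG12X

universe u

variable {G : Type u} [Group G] [Finite G]

/-- the join of two elementwise commuting subgroups is their product -/
private theorem socr2_decomp {P₁ P₂ : Subgroup G} (hc : ∀ a ∈ P₁, ∀ b ∈ P₂, a * b = b * a)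
    {g : G} (hg : g ∈ P₁ ⊔ P₂) : ∃ u ∈ P₁, ∃ v ∈ P₂, g = u * v := by
  have hcl : P₁ ⊔ P₂ = Subgroup.closure ((P₁ : Set G) ∪ (P₂ : Set G)) := by
    rw [Subgroup.closure_union, Subgroup.closure_eq, Subgroup.closure_eq]
  rw [hcl] at hg
  induction hg using Subgroup.closure_induction with
  | mem y hy =>
    rcases hy with hy | hy
    · exact ⟨y, hy, 1, P₂.one_mem, (mul_one y).symm⟩
    · exact ⟨1, P₁.one_mem, y, hy, (one_mul y).symm⟩
  | one => exact ⟨1, P₁.one_mem, 1, P₂.one_mem, (mul_one 1).symm⟩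
  | mul a b _ _ ha hb =>
    obtain ⟨u, hu, v, hv, rfl⟩ := ha
    obtain ⟨u', hu', v', hv', rfl⟩ := hb
    refine ⟨u * u', P₁.mul_mem hu hu', v * v', P₂.mul_mem hv hv', ?_⟩
    calc u * v * (u' * v') = u * (v * u') * v' := by group
      _ = u * (u' * v) * v' := by rw [hc u' hu' v hv]
      _ = u * u' * (v * v') := by group
  | inv a _ ha =>
    obtain ⟨u, hu, v, hv, rfl⟩ := ha
    refine ⟨u⁻¹, P₁.inv_mem hu, v⁻¹, P₂.inv_mem hv, ?_⟩
    rw [mul_inv_rev, hc u⁻¹ (P₁.inv_mem hu) v⁻¹ (P₂.inv_mem hv)]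

theorem socle_central_rank2 (hG : IsMinSimpleOddOrder G) (R : Rows G) {p : ℕ} [Fact p.Prime]
    (P : Sylow p G) (hna : ¬ IsMulCommutative (P : Subgroup G))
    (hr : PRankLE p 2 (P : Subgroup G)) {x : G} (hx : x ∈ (P : Subgroup G)) (hxp : x ^ p ≠ 1)
    {X : Subgroup G} (hX : X ≤ Subgroup.zpowers x) (hXc : Nat.card X = p) :
    ∀ g ∈ (P : Subgroup G), ∀ a ∈ X, g * a = a * g := by
  have hp : p.Prime := Fact.out
  rcases R.h12 p P hr with hab | ⟨P₁, P₂, hsup, hc, -, -, hexp, hcyc, -⟩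
  · exact absurd hab hna
  -- `P₂` is commutative
  have hc2 : ∀ a ∈ P₂, ∀ b ∈ P₂, a * b = b * a := by
    intro a ha b hb
    have hcm : IsMulCommutative ↥P₂ := IsCyclic.isMulCommutative
    have h := hcm.is_comm.comm (⟨a, ha⟩ : P₂) ⟨b, hb⟩
    exact congrArg Subtype.val h
  -- `P₂` is central in `P`
  have hcen : ∀ b ∈ P₂, ∀ g ∈ (P : Subgroup G), g * b = b * g := by
    intro b hb g hg
    rw [← hsup] at hg
    obtain ⟨u, hu, v, hv, rfl⟩ := socr2_decomp hc hg
    calc u * v * b = u * (v * b) := by group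
      _ = u * (b * v) := by rw [hc2 v hv b hb]
      _ = (u * b) * v := by group
      _ = (b * u) * v := by rw [hc u hu b hb]
      _ = b * (u * v) := by group
  -- `x = u v`
  have hxs : x ∈ P₁ ⊔ P₂ := by rw [hsup]; exact hx
  obtain ⟨u, hu, v, hv, hxuv⟩ := socr2_decomp hc hxs
  have hup : u ^ p = 1 := by
    have h := Monoid.pow_exponent_eq_one (⟨u, hu⟩ : P₁)
    rw [hexp] at h
    simpa using congrArg Subtype.val h
  have hxpv : x ^ p = v ^ p := by
    have hcomm : Commute u v := hc u hu v hv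
    rw [hxuv, hcomm.mul_pow, hup, one_mul]
  -- the order of `x`
  obtain ⟨n, hn⟩ : ∃ n, orderOf x = p ^ n := by
    obtain ⟨k, hk⟩ := P.isPGroup' ⟨x, hx⟩
    have h1 : x ^ p ^ k = 1 := by simpa using congrArg Subtype.val hk
    obtain ⟨m, -, hm⟩ := (Nat.dvd_prime_pow hp).mp (orderOf_dvd_of_pow_eq_one h1)
    exact ⟨m, hm⟩
  have hn2 : 2 ≤ n := by
    by_contra hcon
    push Not at hcon
    apply hxp
    apply orderOf_dvd_iff_pow_eq_one.mp
    rw [hn]
    calc p ^ n ∣ p ^ 1 := pow_dvd_pow p (by omega)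
      _ = p := pow_one p
  intro g hg a ha
  obtain ⟨k, hk⟩ := Subgroup.mem_zpowers_iff.mp (hX ha)
  have hap : a ^ p = 1 := by
    have h : (⟨a, ha⟩ : X) ^ Nat.card X = 1 := pow_card_eq_one'
    rw [hXc] at h
    simpa using congrArg Subtype.val h
  have hdvd : (orderOf x : ℤ) ∣ k * p := by
    apply orderOf_dvd_iff_zpow_eq_one.mpr
    rw [zpow_mul, hk, zpow_natCast]
    exact hap
  have hpk : (p : ℤ) ∣ k := by
    have h2 : ((p : ℤ) * p) ∣ k * p := by
      refine dvd_trans ?_ hdvd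
      rw [hn]
      push_cast
      calc (p : ℤ) * p = (p : ℤ) ^ 2 := by ring
        _ ∣ (p : ℤ) ^ n := pow_dvd_pow _ hn2
    exact Int.dvd_of_mul_dvd_mul_right (by exact_mod_cast hp.ne_zero) h2
  obtain ⟨m, hm⟩ := hpk
  have haP₂ : a ∈ P₂ := by
    rw [← hk, hm, zpow_mul, zpow_natCast, hxpv]
    exact P₂.zpow_mem (P₂.pow_mem hv p) m
  exact hcen a haP₂ g hg

end Cfsg.Agent.Lib.Helper32.BG12X
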