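import Cfsg.Agent.Lib.Helper32.BG12XDefs
import Cfsg.Agent.Lib.Helper43.BG12XSocR3Core

/-!
# BGX piece SOC-R3 (rows S1421 / S1359 / S1360, helper32's job board)

Notation: `R : Rows G` bundles the earlier rows (R.h5 = B&G 10.5, R.h8 = 10.8, R.h12 = 10.9,
R.h14 = 10.11 (S1414), R.h16, R.h17 = 12.5 (S1417), R.h18 = 12.6 (S1418), R.h19 = 12.7 (S1419),
R.h20 = 12.10 (S1420), R.h27 = 13.3(a)); `c : Ctx7 M E p A` = (hM : IsCoatom M,
hE : IsComplIn E (sigmaCore M) M, hp : p ∈ tau2 M, hAE : A ≤ E, hA : IsElementaryAbelian p A,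
hA2 : Nat.card A = p ^ 2).  Kit: Cfsg.Agent.Lib.Helper32.BG12.* (pgroup_le_sigmaCore,
mem_sigma_of_dvd_sigmaCore, alpha_sub_sigma, card_of_isComplIn, ...), Helper3.BG13T.*
(exists_compl_ge, exists_tau2_elemAb, coprime_of_sigma, ...), `minSimple_solvable`,
`minSimple_odd_sub`, `ut_of`.

Uses `Cfsg.Agent.S1453.result` (import Cfsg.Agent.S1453) for the `p`-group `↥P` and
`A.subgroupOf P`, and R.h5 (`A` is a maximal elementary abelian subgroup of `G`: every
elementary abelian `B ≥ A` equals `A`).  `p ≠ 2` since `|G|` is odd.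

Proof.  In `P`: `W = ⟨x ∈ Z₂(P) | x ^ p = 1⟩`, `T = C_P(W)`, `Z = ⟨x ∈ Z(P) | x ^ p = 1⟩`.  S1453:
`¬ A ≤ T`, `|Z| = p`, `T` characteristic of index `p`.  `Z ≤ A` (`A Z` is elementary abelian,
maximality).  Pick `a ∈ A`, `a ∉ T`; `Z ≤ T` (central), so `A = Z ⟨a⟩`, `A ⊓ T = Z`, and
`P = ⟨a⟩ T`.  Write `x = a ^ i * t`, `t ∈ T`; `x` commutes with `a` (hxA), so `t ∈ D := C_T(a)`
and `x ^ p = t ^ p ≠ 1`.  `D` is cyclic: otherwise (`p` odd) `D` contains an elementary abelian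
`B` of order `p ^ 2`, `⟨B, a, Z⟩` is elementary abelian containing `A`, so `B ≤ A ⊓ T = Z`, of
order `p`, a contradiction.  `Z ≤ D`, so `Z` is the unique subgroup of order `p` of the cyclic
`D`; `X ≤ zpowers x` of order `p` lies in `zpowers (x ^ p) = zpowers (t ^ p) ≤ D`, so `X = Z`,
central in `P`.
-/

set_option autoImplicit false

open Cfsg Cfsg.Agent.Lib.Helper32 Cfsg.Agent.Lib.Helper32.BG10 Cfsg.Agent.Lib.Helper3.BG12
  Cfsg.Agent.Lib.Helper15.BG12

namespace Cfsg.Agent.Lib.Helper32.BG12X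

universe u

variable {G : Type u} [Group G] [Finite G]

theorem socle_central_rank3 (hG : IsMinSimpleOddOrder G) (R : Rows G) {M E A : Subgroup G}
    {p : ℕ} [Fact p.Prime] (c : Ctx7 M E p A) (P : Sylow p G) (hAP : A ≤ (P : Subgroup G))
    (hr : ¬ PRankLE p 2 (P : Subgroup G)) {x : G} (hx : x ∈ (P : Subgroup G))
    (hxA : x ∈ Subgroup.centralizer (A : Set G)) (hxp : x ^ p ≠ 1)
    {X : Subgroup G} (hX : X ≤ Subgroup.zpowers x) (hXc : Nat.card X = p) :
    ∀ g ∈ (P : Subgroup G), ∀ a ∈ X, g * a = a * g := by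
  classical
  have hp : p.Prime := Fact.out
  have hp2 : p ≠ 2 := by
    intro h2
    have hodd : Odd (Nat.card (A : Subgroup G)) := minSimple_odd_sub hG A
    rw [c.hA2, h2] at hodd
    exact absurd hodd (by decide)
  obtain ⟨-, hps, hpr2, hpr1⟩ := c.hp
  have hAM : A ≤ M := c.hAE.trans c.hE.1
  have hmaxG : ∀ B : Subgroup G, IsElementaryAbelian p B → A ≤ B → B = A :=
    (R.h5 M c.hM p hps hpr2 hpr1).2 A hAM c.hA c.hA2
  have hEA' : IsElementaryAbelian p (A.subgroupOf (P : Subgroup G)) := by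
    refine ⟨⟨⟨fun a b => ?_⟩⟩, ?_⟩
    · apply Subtype.ext
      apply Subtype.ext
      have h1 := c.hA.1.is_comm.comm ⟨((a : ↥(P : Subgroup G)) : G), Subgroup.mem_subgroupOf.mp a.2⟩
        ⟨((b : ↥(P : Subgroup G)) : G), Subgroup.mem_subgroupOf.mp b.2⟩
      have h2 := congrArg Subtype.val h1
      simpa using h2
    · intro a ha
      apply Subtype.ext
      have h1 := c.hA.2 (a : G) (Subgroup.mem_subgroupOf.mp ha)
      rw [Subgroup.coe_pow, Subgroup.coe_one]
      exact h1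
  have hcard' : Nat.card ↥(A.subgroupOf (P : Subgroup G)) = p ^ 2 := by
    rw [Nat.card_congr (Subgroup.subgroupOfEquivOfLe hAP).toEquiv, c.hA2]
  have hmax' : ∀ B : Subgroup ↥(P : Subgroup G), IsElementaryAbelian p B →
      A.subgroupOf (P : Subgroup G) ≤ B → B = A.subgroupOf (P : Subgroup G) := by
    intro B hB hAB
    have hBmap : IsElementaryAbelian p (B.map (P : Subgroup G).subtype) := by
      refine ⟨⟨⟨?_⟩⟩, ?_⟩
      · rintro ⟨_, a, ha, rfl⟩ ⟨_, b, hb, rfl⟩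
        apply Subtype.ext
        have h1 := hB.1.is_comm.comm ⟨a, ha⟩ ⟨b, hb⟩
        exact congrArg (fun z : ↥B => ((z : ↥(P : Subgroup G)) : G)) h1
      · rintro _ ⟨a, ha, rfl⟩
        have h1 := congrArg (fun z : ↥(P : Subgroup G) => (z : G)) (hB.2 a ha)
        simpa using h1
    have hAle : A ≤ B.map (P : Subgroup G).subtype := by
      intro a ha
      exact ⟨⟨a, hAP ha⟩, hAB (Subgroup.mem_subgroupOf.mpr ha), rfl⟩
    have h1 := hmaxG _ hBmap hAle
    ext b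
    rw [Subgroup.mem_subgroupOf, ← h1]
    constructor
    · intro hb
      exact ⟨b, hb, rfl⟩
    · rintro ⟨b', hb', hbb⟩
      have h2 : b' = b := Subtype.ext hbb
      rwa [← h2]
  obtain ⟨hnot, hZcard, -, hchar, hidx⟩ :=
    Cfsg.Agent.S1453.result p hp2 P.isPGroup' hr (A.subgroupOf (P : Subgroup G)) hEA' hcard' hmax'
  have hTn := @Subgroup.normal_of_characteristic _ _ _ hchar
  have hXP : X ≤ (P : Subgroup G) := hX.trans (by rw [Subgroup.zpowers_le]; exact hx)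
  have key := Cfsg.Agent.Lib.Helper43.BG12X.socr3_core hp2 P.isPGroup'
    (A.subgroupOf (P : Subgroup G)) hEA' hcard' hmax' _ hTn hidx
    (Subgroup.center_le_centralizer _) hnot hZcard
    (x := (⟨x, hx⟩ : ↥(P : Subgroup G))) ?_ ?_ (X := X.subgroupOf (P : Subgroup G)) ?_ ?_
  · intro g hg a ha
    have h1 := key ⟨g, hg⟩ ⟨a, hXP ha⟩ (Subgroup.mem_subgroupOf.mpr ha)
    exact congrArg Subtype.val h1
  · intro e he
    apply Subtype.ext
    have h1 := Subgroup.mem_centralizer_iff.mp hxA (e : G) (Subgroup.mem_subgroupOf.mp he)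
    exact h1.symm
  · intro h
    apply hxp
    have h1 := congrArg Subtype.val h
    simpa using h1
  · intro y hy
    have hy' : (y : G) ∈ Subgroup.zpowers x := hX (Subgroup.mem_subgroupOf.mp hy)
    obtain ⟨k, hk⟩ := Subgroup.mem_zpowers_iff.mp hy'
    refine Subgroup.mem_zpowers_iff.mpr ⟨k, ?_⟩
    apply Subtype.ext
    rw [Subgroup.coe_zpow]
    exact hk
  · rw [Nat.card_congr (Subgroup.subgroupOfEquivOfLe hXP).toEquiv, hXc]

end Cfsg.Agent.Lib.Helper32.BG12X
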