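import Cfsg.Agent.Lib.Helper32.BG12XDefs

/-!
# BGX piece SUP-BETA (rows S1421 / S1359 / S1360, helper32's job board)

Notation: `R : Rows G` bundles the earlier rows (R.h5 = B&G 10.5, R.h8 = 10.8, R.h12 = 10.9,
R.h14 = 10.11 (S1414), R.h16, R.h17 = 12.5 (S1417), R.h18 = 12.6 (S1418), R.h19 = 12.7 (S1419),
R.h20 = 12.10 (S1420), R.h27 = 13.3(a)); `c : Ctx7 M E p A` = (hM : IsCoatom M,
hE : IsComplIn E (sigmaCore M) M, hp : p ∈ tau2 M, hAE : A ≤ E, hA : IsElementaryAbelian p A,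
hA2 : Nat.card A = p ^ 2).  Kit: Cfsg.Agent.Lib.Helper32.BG12.* (pgroup_le_sigmaCore,
mem_sigma_of_dvd_sigmaCore, alpha_sub_sigma, card_of_isComplIn, ...), Helper3.BG13T.*
(exists_compl_ge, exists_tau2_elemAb, coprime_of_sigma, ...), `minSimple_solvable`,
`minSimple_odd_sub`, `ut_of`.

Proof.  Put `L_β = piCoreOf (beta L) L`, `L_σ = sigmaCore L`.  R.h14 L hL: `L_β` is a Hall
`β(L)`-subgroup of `L`, and `L_σ` has a nilpotent Hall `β(L)'`-subgroup `H`.  `L_β ≤ L_σ`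
(`β ⊆ α ⊆ σ`), so `|L_σ| = |L_β| |H|` and `L_σ = L_β H`.  `S ≤ L_σ` (`pgroup_le_sigmaCore`), and
`S` is a Sylow `p`-subgroup of `L_σ` (hSyl).  As `p ∉ β(L)`, `H` contains a Sylow `p`-subgroup
`S'` of `L_σ`, normal in `H` (`H` nilpotent); `S = x S' x⁻¹` with `x ∈ L_σ`, so `H' = x H x⁻¹`
normalizes `S` and `L_σ = L_β H'`.  For `g ∈ L`: `g S g⁻¹ ≤ L_σ` is a Sylow `p`-subgroup of
`L_σ`, so `g S g⁻¹ = y S y⁻¹` with `y = b h`, `b ∈ L_β`, `h ∈ H'`; thus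
`g S g⁻¹ = b S b⁻¹ ≤ S ⊔ L_β`.  Also `g L_β g⁻¹ = L_β`.
-/

set_option autoImplicit false

open Cfsg Cfsg.Agent.Lib.Helper32 Cfsg.Agent.Lib.Helper32.BG10 Cfsg.Agent.Lib.Helper3.BG12
  Cfsg.Agent.Lib.Helper15.BG12

namespace Cfsg.Agent.Lib.Helper32.BG12X

universe u

variable {G : Type u} [Group G] [Finite G]

open scoped Pointwise

theorem supbeta_pow_mul {G : Type*} [Group G] (B : Subgroup G) {b h : G} (hb : b ∈ B)
    (hh : h ∈ Subgroup.normalizer (B : Set G)) (n : ℕ) :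
    ∃ b' ∈ B, (b * h) ^ n = b' * h ^ n := by
  induction n with
  | zero => exact ⟨1, one_mem _, by simp⟩
  | succ n ih =>
    obtain ⟨b', hb', he⟩ := ih
    have hn : h ^ n ∈ Subgroup.normalizer (B : Set G) := pow_mem hh n
    have hc : h ^ n * b * (h ^ n)⁻¹ ∈ B := (Subgroup.mem_normalizer_iff.mp hn b).mp hb
    refine ⟨b' * (h ^ n * b * (h ^ n)⁻¹), mul_mem hb' hc, ?_⟩
    rw [pow_succ, he, pow_succ]
    simp only [mul_assoc, inv_mul_cancel_left]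

theorem supbeta_generic {G : Type*} [Group G] [Finite G] {p : ℕ} [Fact p.Prime]
    (L N B H S : Subgroup G)
    (hNL : N ≤ L) (hLN : L ≤ Subgroup.normalizer (N : Set G))
    (hLB : L ≤ Subgroup.normalizer (B : Set G))
    (hHN : H ≤ N) (hH : Group.IsNilpotent ↥H)
    (hcop1 : Nat.Coprime (Nat.card B) (Nat.card H))
    (hcop2 : Nat.Coprime (B.relIndex N) (H.relIndex N))
    (hSN : S ≤ N) (hSp : IsPGroup p S)
    (hSyl : ∀ P : Subgroup G, IsPGroup p P → S ≤ P → P = S) :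
    L ≤ Subgroup.normalizer ((S ⊔ B : Subgroup G) : Set G) := by
  classical
  have hBH : B ⊓ H = ⊥ := (Subgroup.disjoint_of_coprime_natCard hcop1).eq_bot
  have hNBH : N ≤ B ⊔ H := by
    rw [← Subgroup.relIndex_eq_one]
    have h1 : (B ⊔ H).relIndex N ∣ B.relIndex N :=
      Subgroup.relIndex_dvd_of_le_left N le_sup_left
    have h2 : (B ⊔ H).relIndex N ∣ H.relIndex N :=
      Subgroup.relIndex_dvd_of_le_left N le_sup_right
    have h3 := Nat.dvd_gcd h1 h2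
    rw [hcop2.gcd_eq_one] at h3
    exact Nat.dvd_one.mp h3
  have hHB : H ≤ Subgroup.normalizer (B : Set G) := hHN.trans (hNL.trans hLB)
  have hdecomp : ∀ x ∈ N, ∃ b ∈ B, ∃ h ∈ H, x = b * h := by
    intro x hx
    have hx' : x ∈ ((B ⊔ H : Subgroup G) : Set G) := hNBH hx
    rw [Subgroup.coe_mul_of_right_le_normalizer_left B H hHB] at hx'
    obtain ⟨b, hb, h, hh, rfl⟩ := hx'
    exact ⟨b, hb, h, hh, rfl⟩
  -- the Sylow `p`-subgroup of `H`
  obtain ⟨Q⟩ : Nonempty (Sylow p ↥H) := inferInstance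
  have : Group.IsNilpotent ↥H := hH
  have hQn : (Q : Subgroup ↥H).Normal :=
    Sylow.normal_of_normalizerCondition Group.normalizerCondition_of_isNilpotent Q
  have hQall : ∀ h : ↥H, (∃ k : ℕ, h ^ p ^ k = 1) → h ∈ (Q : Subgroup ↥H) := by
    rintro h ⟨k, hk⟩
    have hz : IsPGroup p ↥(Subgroup.zpowers h) := by
      rintro ⟨g, hg⟩
      obtain ⟨i, rfl⟩ := Subgroup.mem_zpowers_iff.mp hg
      refine ⟨k, Subtype.ext ?_⟩
      show (h ^ i) ^ p ^ k = 1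
      rw [← zpow_natCast, ← zpow_mul, mul_comm, zpow_mul, zpow_natCast, hk, one_zpow]
    obtain ⟨Q', hQ'⟩ := hz.exists_le_sylow
    have := Sylow.unique_of_normal Q hQn
    have hQQ : Q' = Q := Subsingleton.elim _ _
    rw [← hQQ]
    exact hQ' (Subgroup.mem_zpowers h)
  obtain ⟨P', hP'⟩ : ∃ P' : Subgroup G, P' = (Q : Subgroup ↥H).map H.subtype := ⟨_, rfl⟩
  have hP'H : P' ≤ H := by
    rw [hP']
    exact Subgroup.map_subtype_le _
  have hP'p : IsPGroup p ↥P' := by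
    rw [hP']
    exact Q.isPGroup'.map H.subtype
  have hP'mem : ∀ h ∈ H, (∃ k : ℕ, h ^ p ^ k = 1) → h ∈ P' := by
    rintro h hh ⟨k, hk⟩
    rw [hP']
    exact ⟨⟨h, hh⟩, hQall ⟨h, hh⟩ ⟨k, Subtype.ext hk⟩, rfl⟩
  have hP'norm : ∀ h ∈ H, ∀ x ∈ P', h * x * h⁻¹ ∈ P' := by
    intro h hh x hx
    rw [hP'] at hx ⊢
    obtain ⟨y, hy, rfl⟩ := hx
    exact ⟨⟨h, hh⟩ * y * ⟨h, hh⟩⁻¹, hQn.conj_mem y hy ⟨h, hh⟩, rfl⟩
  -- the key: `p`-elements of `N` lie in `P' ⊔ B`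
  have hkey : ∀ x ∈ N, (∃ k : ℕ, x ^ p ^ k = 1) → x ∈ P' ⊔ B := by
    rintro x hx ⟨k, hk⟩
    obtain ⟨b, hb, h, hh, rfl⟩ := hdecomp x hx
    obtain ⟨b', hb', he⟩ := supbeta_pow_mul B hb (hHB hh) (p ^ k)
    rw [hk] at he
    have h1 : h ^ p ^ k = b'⁻¹ := eq_inv_of_mul_eq_one_right he.symm
    have h2 : h ^ p ^ k ∈ B ⊓ H :=
      Subgroup.mem_inf.mpr ⟨by rw [h1]; exact inv_mem hb', pow_mem hh _⟩
    rw [hBH, Subgroup.mem_bot] at h2
    exact mul_mem (Subgroup.mem_sup_right hb) (Subgroup.mem_sup_left (hP'mem h hh ⟨k, h2⟩))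
  have hSle : S ≤ P' ⊔ B := by
    intro s hs
    obtain ⟨k, hk⟩ := hSp ⟨s, hs⟩
    exact hkey s (hSN hs) ⟨k, congrArg Subtype.val hk⟩
  -- Sylow conjugacy in `N`
  have hP'le : P' ≤ S ⊔ B := by
    obtain ⟨SN, hSN'⟩ : ∃ SN : Sylow p ↥N, (SN : Subgroup ↥N) = S.subgroupOf N := by
      refine ⟨⟨S.subgroupOf N, hSp.comap_subtype, ?_⟩, rfl⟩
      intro Q₀ hQ₀ hle
      have h1 : Q₀.map N.subtype = S := by
        apply hSyl _ (hQ₀.map N.subtype)
        intro s hs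
        exact ⟨⟨s, hSN hs⟩, hle (Subgroup.mem_subgroupOf.mpr hs), rfl⟩
      ext x
      rw [Subgroup.mem_subgroupOf, ← h1]
      exact (Subgroup.mem_map_iff_mem N.subtype_injective).symm
    have hP'N : IsPGroup p ↥(P'.subgroupOf N) := hP'p.comap_subtype
    obtain ⟨Q₂, hQ₂⟩ := hP'N.exists_le_sylow
    obtain ⟨n, hn⟩ := MulAction.exists_smul_eq ↥N Q₂ SN
    obtain ⟨b, hb, h, hh, hnbh⟩ := hdecomp (n : G) n.2
    have hconj : ∀ x ∈ P', (n : G) * x * (n : G)⁻¹ ∈ S := by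
      intro x hx
      have hxN : x ∈ N := hHN (hP'H hx)
      have h1 : (⟨x, hxN⟩ : ↥N) ∈ (Q₂ : Subgroup ↥N) := hQ₂ (Subgroup.mem_subgroupOf.mpr hx)
      have h2 : n * ⟨x, hxN⟩ * n⁻¹ ∈ ((n • Q₂ : Sylow p ↥N) : Subgroup ↥N) := by
        rw [Sylow.coe_subgroup_smul]
        exact ⟨⟨x, hxN⟩, h1, rfl⟩
      rw [hn, hSN', Subgroup.mem_subgroupOf] at h2
      exact h2
    intro x hx
    have h1 : h⁻¹ * x * h ∈ P' := by
      have := hP'norm h⁻¹ (inv_mem hh) x hx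
      rwa [inv_inv] at this
    have h2 := hconj _ h1
    rw [hnbh] at h2
    have h3 : b * h * (h⁻¹ * x * h) * (b * h)⁻¹ = b * x * b⁻¹ := by group
    rw [h3] at h2
    have h4 : x = b⁻¹ * (b * x * b⁻¹) * b := by group
    rw [h4]
    exact mul_mem (mul_mem (Subgroup.mem_sup_right (inv_mem hb)) (Subgroup.mem_sup_left h2))
      (Subgroup.mem_sup_right hb)
  have hKK : S ⊔ B = P' ⊔ B :=
    le_antisymm (sup_le hSle le_sup_right) (sup_le hP'le le_sup_right)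
  rw [hKK]
  -- `L` normalizes `P' ⊔ B`
  have hinv : ∀ g ∈ L, ∀ x ∈ P' ⊔ B, g * x * g⁻¹ ∈ P' ⊔ B := by
    intro g hg
    have hle : P' ⊔ B ≤ (P' ⊔ B).comap (MulAut.conj g).toMonoidHom := by
      apply sup_le
      · intro x hx
        show g * x * g⁻¹ ∈ P' ⊔ B
        have hxN : x ∈ N := hHN (hP'H hx)
        apply hkey
        · exact (Subgroup.mem_normalizer_iff.mp (hLN hg) x).mp hxN
        · obtain ⟨k, hk⟩ := hP'p ⟨x, hx⟩
          refine ⟨k, ?_⟩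
          have hk' : x ^ p ^ k = 1 := congrArg Subtype.val hk
          rw [conj_pow, hk', mul_one, mul_inv_cancel]
      · intro x hx
        show g * x * g⁻¹ ∈ P' ⊔ B
        exact Subgroup.mem_sup_right ((Subgroup.mem_normalizer_iff.mp (hLB hg) x).mp hx)
    intro x hx
    exact hle hx
  intro g hg
  rw [Subgroup.mem_normalizer_iff]
  intro x
  constructor
  · exact hinv g hg x
  · intro hx
    have := hinv g⁻¹ (inv_mem hg) _ hx
    have h5 : g⁻¹ * (g * x * g⁻¹) * g⁻¹⁻¹ = x := by group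
    rwa [h5] at this

theorem sup_beta_normal (hG : IsMinSimpleOddOrder G) (R : Rows G) {L : Subgroup G}
    (hL : IsCoatom L) {p : ℕ} [Fact p.Prime] (hpσ : p ∈ sigma L) (hpβ : p ∉ beta L)
    {S : Subgroup G} (hSL : S ≤ L) (hSp : IsPGroup p S)
    (hSyl : ∀ P : Subgroup G, IsPGroup p P → S ≤ P → P = S) :
    L ≤ Subgroup.normalizer ((S ⊔ piCoreOf (beta L) L : Subgroup G) : Set G) := by
  have _ := hpβ
  obtain ⟨⟨hBL, hBprimes, hBidx⟩, -, -, ⟨H, ⟨hHN, hHprimes, hHidx⟩, hHnil⟩, -⟩ := R.h14 L hL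
  have hNL : sigmaCore L ≤ L := piCoreOf_le (sigma L) L
  have hLN : L ≤ Subgroup.normalizer (sigmaCore L : Set G) := le_normalizer_piCoreOf (sigma L) L
  have hLB : L ≤ Subgroup.normalizer (piCoreOf (beta L) L : Set G) :=
    le_normalizer_piCoreOf (beta L) L
  have hBN : piCoreOf (beta L) L ≤ sigmaCore L :=
    le_piCoreOf (sigma L) hBL hLB
      (fun q hq hd => alpha_sub_sigma hG (ut_of hG) hL (hBprimes q hq hd).1)
  have hSN : S ≤ sigmaCore L := BG12.pgroup_le_sigmaCore hG hL hpσ hSp hSL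
  have hcop1 : Nat.Coprime (Nat.card (piCoreOf (beta L) L)) (Nat.card H) := by
    apply Nat.coprime_of_dvd
    intro q hq hqB hqH
    exact (hHprimes q hq hqH).2 (hBprimes q hq hqB)
  have hcop2 : Nat.Coprime ((piCoreOf (beta L) L).relIndex (sigmaCore L))
      (H.relIndex (sigmaCore L)) := by
    apply Nat.coprime_of_dvd
    intro q hq hqB hqH
    have hqβ : q ∉ beta L := by
      intro hqβ
      apply hBidx q hq hqβ
      rw [← Subgroup.relIndex_mul_relIndex _ _ _ hBN hNL]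
      exact Dvd.dvd.mul_right hqB _
    exact hHidx q hq ⟨hq, hqβ⟩ hqH
  exact supbeta_generic L (sigmaCore L) (piCoreOf (beta L) L) H S hNL hLN hLB hHN hHnil
    hcop1 hcop2 hSN hSp hSyl

end Cfsg.Agent.Lib.Helper32.BG12X
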