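import Mathlib
import Cfsg.Agent.Lib.Helper29.Chain
import Cfsg.Agent.Lib.Helper40.AxB

set_option autoImplicit false
open scoped commutatorElement

namespace Cfsg.Agent.Lib.Helper32

section Class2

variable {G : Type*} [Group G]

theorem swap_eq_comm_mul (y x : G) : y * x = ⁅y, x⁆ * x * y := by
  rw [commutatorElement_def]; group

theorem pow_mul_eq_class2 {x y : G} (hy : Commute ⁅y, x⁆ y) (n : ℕ) :
    y ^ n * x = ⁅y, x⁆ ^ n * x * y ^ n := by
  induction n with
  | zero => simp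
  | succ n ih =>
    have h1 : Commute (⁅y, x⁆ ^ n) y := hy.pow_left n
    calc y ^ (n + 1) * x = y * (y ^ n * x) := by rw [pow_succ', mul_assoc]
      _ = y * (⁅y, x⁆ ^ n * x * y ^ n) := by rw [ih]
      _ = (y * ⁅y, x⁆ ^ n) * x * y ^ n := by simp only [mul_assoc]
      _ = (⁅y, x⁆ ^ n * y) * x * y ^ n := by rw [h1.eq]
      _ = ⁅y, x⁆ ^ n * (y * x) * y ^ n := by simp only [mul_assoc]
      _ = ⁅y, x⁆ ^ n * (⁅y, x⁆ * x * y) * y ^ n := by rw [← swap_eq_comm_mul]
      _ = ⁅y, x⁆ ^ (n + 1) * x * y ^ (n + 1) := by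
        rw [pow_succ, pow_succ']; simp only [mul_assoc]

theorem mul_pow_class2 {x y : G} (hx : Commute ⁅y, x⁆ x) (hy : Commute ⁅y, x⁆ y) (n : ℕ) :
    (x * y) ^ n = x ^ n * y ^ n * ⁅y, x⁆ ^ (n.choose 2) := by
  induction n with
  | zero => simp
  | succ n ih =>
    have h1 : Commute (⁅y, x⁆ ^ (n.choose 2)) x := hx.pow_left _
    have h2 : Commute (⁅y, x⁆ ^ (n.choose 2)) y := hy.pow_left _
    have h3 : Commute (⁅y, x⁆ ^ n) x := hx.pow_left _
    have h4 : Commute (⁅y, x⁆ ^ n) (y ^ n) := (hy.pow_left _).pow_right _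
    have h5 : Commute (⁅y, x⁆ ^ n) y := hy.pow_left _
    have hch : (n + 1).choose 2 = n + n.choose 2 := by
      rw [Nat.choose_succ_succ' n 1, Nat.choose_one_right]
    calc (x * y) ^ (n + 1) = (x * y) ^ n * (x * y) := pow_succ _ _
      _ = x ^ n * y ^ n * ⁅y, x⁆ ^ (n.choose 2) * (x * y) := by rw [ih]
      _ = x ^ n * y ^ n * (⁅y, x⁆ ^ (n.choose 2) * x) * y := by simp only [mul_assoc]
      _ = x ^ n * y ^ n * (x * ⁅y, x⁆ ^ (n.choose 2)) * y := by rw [h1.eq]
      _ = x ^ n * (y ^ n * x) * (⁅y, x⁆ ^ (n.choose 2) * y) := by simp only [mul_assoc]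
      _ = x ^ n * (⁅y, x⁆ ^ n * x * y ^ n) * (y * ⁅y, x⁆ ^ (n.choose 2)) := by
        rw [pow_mul_eq_class2 hy, h2.eq]
      _ = x ^ n * (⁅y, x⁆ ^ n * x) * (y ^ n * y) * ⁅y, x⁆ ^ (n.choose 2) := by
        simp only [mul_assoc]
      _ = x ^ n * (x * ⁅y, x⁆ ^ n) * y ^ (n + 1) * ⁅y, x⁆ ^ (n.choose 2) := by
        rw [h3.eq, ← pow_succ]
      _ = x ^ n * x * (⁅y, x⁆ ^ n * y ^ (n + 1)) * ⁅y, x⁆ ^ (n.choose 2) := by
        simp only [mul_assoc]
      _ = x ^ (n + 1) * (y ^ (n + 1) * ⁅y, x⁆ ^ n) * ⁅y, x⁆ ^ (n.choose 2) := by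
        rw [← pow_succ, ((hy.pow_left n).pow_right (n + 1)).eq]
      _ = x ^ (n + 1) * y ^ (n + 1) * ⁅y, x⁆ ^ ((n + 1).choose 2) := by
        rw [hch, pow_add ⁅y, x⁆ n (n.choose 2)]; simp only [mul_assoc]

theorem commutator_pow_left_class2 {x y : G} (hx : Commute ⁅x, y⁆ x) (n : ℕ) :
    ⁅x ^ n, y⁆ = ⁅x, y⁆ ^ n := by
  have h := pow_mul_eq_class2 (x := y) (y := x) hx n
  rw [commutatorElement_def, h]
  group

end Class2

section MinConf

variable {G : Type*} [Group G]

/-- conjugation by an element normalizing `K` preserves the centralizer of `K` -/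
theorem conj_mem_centralizer_of_mem_normalizer' {K : Subgroup G} {g c : G}
    (hg : g ∈ Subgroup.normalizer (K : Set G)) (hc : c ∈ Subgroup.centralizer (K : Set G)) :
    g * c * g⁻¹ ∈ Subgroup.centralizer (K : Set G) := by
  rw [Subgroup.mem_centralizer_iff] at hc ⊢
  intro k hk
  have h1 : g⁻¹ * k * g ∈ K := by
    have := (Subgroup.mem_normalizer_iff.mp (Subgroup.inv_mem _ hg) k).mp hk
    simpa using this
  have h2 := hc _ h1
  calc k * (g * c * g⁻¹) = g * ((g⁻¹ * k * g) * c) * g⁻¹ := by group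
    _ = g * (c * (g⁻¹ * k * g)) * g⁻¹ := by rw [h2]
    _ = g * c * g⁻¹ * k := by group

/-- A minimal configuration: `R` is not centralized by `K`, but every proper subgroup of `R`
normalized by `K` and `A` is. -/
structure MinConf (R K A : Subgroup G) : Prop where
  hKR : K ≤ Subgroup.normalizer (R : Set G)
  hAR : A ≤ Subgroup.normalizer (R : Set G)
  hAK : A ≤ Subgroup.normalizer (K : Set G)
  not_le : ¬ R ≤ Subgroup.centralizer (K : Set G)
  proper_le : ∀ R' : Subgroup G, R' ≤ R → R' ≠ R → K ≤ Subgroup.normalizer (R' : Set G) →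
    A ≤ Subgroup.normalizer (R' : Set G) → R' ≤ Subgroup.centralizer (K : Set G)

theorem exists_minConf [Finite G] {K A : Subgroup G} (hAK : A ≤ Subgroup.normalizer (K : Set G)) :
    ∀ (n : ℕ) (R : Subgroup G), Nat.card R = n → K ≤ Subgroup.normalizer (R : Set G) →
      A ≤ Subgroup.normalizer (R : Set G) → ¬ R ≤ Subgroup.centralizer (K : Set G) →
      ∃ R₁ : Subgroup G, R₁ ≤ R ∧ MinConf R₁ K A := by
  intro n
  induction n using Nat.strong_induction_on with
  | _ n ih =>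
    intro R hn hKR hAR hnot
    by_cases hmin : ∀ R' : Subgroup G, R' ≤ R → R' ≠ R → K ≤ Subgroup.normalizer (R' : Set G) →
        A ≤ Subgroup.normalizer (R' : Set G) → R' ≤ Subgroup.centralizer (K : Set G)
    · exact ⟨R, le_rfl, ⟨hKR, hAR, hAK, hnot, hmin⟩⟩
    · push Not at hmin
      obtain ⟨R', hle, hne, hK', hA', hnot'⟩ := hmin
      have hlt : Nat.card R' < n := by
        rw [← hn]
        exact lt_of_le_of_ne (Subgroup.card_le_of_le hle)
          (fun h => hne (Subgroup.eq_of_le_of_card_ge hle h.ge))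
      obtain ⟨R₁, h1, h2⟩ := ih _ hlt R' rfl hK' hA' hnot'
      exact ⟨R₁, h1.trans hle, h2⟩

namespace MinConf

variable {R K A : Subgroup G}

theorem comm_eq [Finite G] {p : ℕ} [Fact p.Prime] (h : MinConf R K A) (hR : IsPGroup p R)
    (hK : (Nat.card K).Coprime p) : ⁅R, K⁆ = R := by
  by_contra hne
  have h1 : ⁅R, K⁆ ≤ R := Cfsg.Agent.Lib.Helper40.commutator_le_of_le_normalizer' h.hKR
  have h2 : K ≤ Subgroup.normalizer ((⁅R, K⁆ : Subgroup G) : Set G) :=
    Cfsg.Agent.Lib.Helper40.le_normalizer_commutator' h.hKR Subgroup.le_normalizer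
  have h3 : A ≤ Subgroup.normalizer ((⁅R, K⁆ : Subgroup G) : Set G) :=
    Cfsg.Agent.Lib.Helper40.le_normalizer_commutator' h.hAR h.hAK
  have h4 := h.proper_le _ h1 hne h2 h3
  have h5 : ⁅⁅R, K⁆, K⁆ = ⊥ := Subgroup.commutator_eq_bot_iff_le_centralizer.mpr h4
  have h6 : ⁅R, K⁆ = ⊥ := Cfsg.Agent.Lib.Helper29.star_of_coprime hR hK h.hKR h5
  exact h.not_le (Subgroup.commutator_eq_bot_iff_le_centralizer.mp h6)

theorem ne_bot (h : MinConf R K A) : R ≠ ⊥ := by
  intro hb
  exact h.not_le (hb ▸ bot_le)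

theorem derived_le [Finite G] {p : ℕ} [Fact p.Prime] (h : MinConf R K A) (hR : IsPGroup p R) :
    ⁅R, R⁆ ≤ Subgroup.centralizer (K : Set G) := by
  have h0 : ⁅R, R⁆ ≠ R :=
    Cfsg.Agent.Lib.Helper40.commutator_ne_of_isPGroup hR hR Subgroup.le_normalizer h.ne_bot
  have h1 : ⁅R, R⁆ ≤ R := Cfsg.Agent.Lib.Helper40.commutator_le_of_le_normalizer' Subgroup.le_normalizer
  exact h.proper_le _ h1 h0
    (Cfsg.Agent.Lib.Helper40.le_normalizer_commutator' h.hKR h.hKR)
    (Cfsg.Agent.Lib.Helper40.le_normalizer_commutator' h.hAR h.hAR)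

/-- `C_R(K)` is central in `R`. -/
theorem central [Finite G] {p : ℕ} [Fact p.Prime] (h : MinConf R K A) (hR : IsPGroup p R)
    (hK : (Nat.card K).Coprime p) {c x : G} (hc : c ∈ R) (hcK : c ∈ Subgroup.centralizer (K : Set G))
    (hx : x ∈ R) : Commute c x := by
  have hCK : R ⊓ Subgroup.centralizer (K : Set G) ≤ Subgroup.centralizer (K : Set G) := inf_le_right
  have h1 : ⁅⁅K, R ⊓ Subgroup.centralizer (K : Set G)⁆, R⁆ = ⊥ := by
    have : ⁅K, R ⊓ Subgroup.centralizer (K : Set G)⁆ = ⊥ :=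
      Subgroup.commutator_eq_bot_iff_le_centralizer.mpr (Subgroup.le_centralizer_iff.mp hCK)
    rw [this, Subgroup.commutator_bot_left]
  have h2 : ⁅⁅R ⊓ Subgroup.centralizer (K : Set G), R⁆, K⁆ = ⊥ := by
    rw [Subgroup.commutator_eq_bot_iff_le_centralizer]
    exact (Subgroup.commutator_mono inf_le_left le_rfl).trans (h.derived_le hR)
  have h3 := Subgroup.commutator_commutator_eq_bot_of_rotate h1 h2
  rw [h.comm_eq hR hK, Subgroup.commutator_eq_bot_iff_le_centralizer] at h3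
  have h4 := Subgroup.mem_centralizer_iff.mp (h3 hx) c ⟨hc, hcK⟩
  exact h4

theorem comm_mem (h : MinConf R K A) {x y : G} (hx : x ∈ R) (hy : y ∈ R) : ⁅x, y⁆ ∈ R := by
  rw [commutatorElement_def]
  exact R.mul_mem (R.mul_mem (R.mul_mem hx hy) (R.inv_mem hx)) (R.inv_mem hy)

theorem comm_mem_centralizer [Finite G] {p : ℕ} [Fact p.Prime] (h : MinConf R K A)
    (hR : IsPGroup p R) {x y : G} (hx : x ∈ R) (hy : y ∈ R) :
    ⁅x, y⁆ ∈ Subgroup.centralizer (K : Set G) :=
  h.derived_le hR (Subgroup.commutator_mem_commutator hx hy)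

theorem comm_commute [Finite G] {p : ℕ} [Fact p.Prime] (h : MinConf R K A) (hR : IsPGroup p R)
    (hK : (Nat.card K).Coprime p) {x y z : G} (hx : x ∈ R) (hy : y ∈ R) (hz : z ∈ R) :
    Commute ⁅x, y⁆ z :=
  h.central hR hK (h.comm_mem hx hy) (h.comm_mem_centralizer hR hx hy) hz


/-- `x ^ p` is centralized by `K` for every `x ∈ R`. -/
theorem pow_mem_centralizer [Finite G] {p : ℕ} [hp : Fact p.Prime] (h : MinConf R K A)
    (hR : IsPGroup p R) (hK : (Nat.card K).Coprime p) {x : G} (hx : x ∈ R) :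
    x ^ p ∈ Subgroup.centralizer (K : Set G) := by
  -- the subgroup of all such `x`
  let R₂ : Subgroup G :=
    { carrier := {x | x ∈ R ∧ x ^ p ∈ Subgroup.centralizer (K : Set G)}
      one_mem' := ⟨R.one_mem, by rw [one_pow]; exact Subgroup.one_mem _⟩
      mul_mem' := by
        rintro x y ⟨hx, hxp⟩ ⟨hy, hyp⟩
        refine ⟨R.mul_mem hx hy, ?_⟩
        rw [mul_pow_class2 (h.comm_commute hR hK hy hx hx) (h.comm_commute hR hK hy hx hy)]
        exact Subgroup.mul_mem _ (Subgroup.mul_mem _ hxp hyp)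
          (Subgroup.pow_mem _ (h.comm_mem_centralizer hR hy hx) _)
      inv_mem' := by
        rintro x ⟨hx, hxp⟩
        refine ⟨R.inv_mem hx, ?_⟩
        rw [inv_pow]
        exact Subgroup.inv_mem _ hxp }
  have hR₂ : ∀ y, y ∈ R₂ ↔ y ∈ R ∧ y ^ p ∈ Subgroup.centralizer (K : Set G) := fun y => Iff.rfl
  have hle : R₂ ≤ R := fun y hy => hy.1
  have hnorm : ∀ B : Subgroup G, B ≤ Subgroup.normalizer (R : Set G) →
      B ≤ Subgroup.normalizer (K : Set G) → B ≤ Subgroup.normalizer (R₂ : Set G) := by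
    intro B hBR hBK
    rw [Subgroup.le_normalizer_iff]
    intro b hb y hy
    rw [hR₂] at hy ⊢
    refine ⟨(Subgroup.le_normalizer_iff.mp hBR) b hb y hy.1, ?_⟩
    rw [conj_pow]
    exact conj_mem_centralizer_of_mem_normalizer' (hBK hb) hy.2
  by_cases heq : R₂ = R
  · have : x ∈ R₂ := heq ▸ hx
    exact this.2
  · exfalso
    have h1 : R₂ ≤ Subgroup.centralizer (K : Set G) :=
      h.proper_le R₂ hle heq (hnorm K h.hKR Subgroup.le_normalizer) (hnorm A h.hAR h.hAK)
    obtain ⟨y, hyR, hyK⟩ := SetLike.not_le_iff_exists.mp h.not_le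
    obtain ⟨e, he⟩ := hR ⟨y, hyR⟩
    have he' : y ^ p ^ e = 1 := by
      have := congrArg Subtype.val he
      simpa using this
    have hex : ∃ j, y ^ p ^ j ∈ Subgroup.centralizer (K : Set G) :=
      ⟨e, by rw [he']; exact Subgroup.one_mem _⟩
    classical
    have hj := Nat.find_spec hex
    have hj0 : Nat.find hex ≠ 0 := by
      intro h0
      rw [h0, pow_zero, pow_one] at hj
      exact hyK hj
    obtain ⟨i, hi⟩ := Nat.exists_eq_succ_of_ne_zero hj0
    have hmin := Nat.find_min hex (m := i) (by omega)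
    have h2 : y ^ p ^ i ∈ R₂ := by
      rw [hR₂]
      refine ⟨R.pow_mem hyR _, ?_⟩
      rw [← pow_mul, ← pow_succ]
      rw [hi] at hj
      exact hj
    exact hmin (h1 h2)

theorem comm_pow_eq_one [Finite G] {p : ℕ} [Fact p.Prime] (h : MinConf R K A)
    (hR : IsPGroup p R) (hK : (Nat.card K).Coprime p) {x y : G} (hx : x ∈ R) (hy : y ∈ R) :
    ⁅x, y⁆ ^ p = 1 := by
  rw [← commutator_pow_left_class2 (h.comm_commute hR hK hx hy hx)]
  rw [commutatorElement_eq_one_iff_commute]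
  exact h.central hR hK (R.pow_mem hx _) (h.pow_mem_centralizer hR hK hx) hy

/-- In a minimal configuration with `p` odd, `R` has exponent `p`. -/
theorem exp [Finite G] {p : ℕ} [hp : Fact p.Prime] (hp2 : p ≠ 2) (h : MinConf R K A)
    (hR : IsPGroup p R) (hK : (Nat.card K).Coprime p) {x : G} (hx : x ∈ R) : x ^ p = 1 := by
  have hdvd : p ∣ p.choose 2 := by
    apply hp.out.dvd_choose_self (by norm_num)
    have := hp.out.two_le
    omega
  have hmulp : ∀ x ∈ R, ∀ y ∈ R, (x * y) ^ p = x ^ p * y ^ p := by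
    intro x hx y hy
    rw [mul_pow_class2 (h.comm_commute hR hK hy hx hx) (h.comm_commute hR hK hy hx hy)]
    obtain ⟨m, hm⟩ := hdvd
    rw [hm, pow_mul, h.comm_pow_eq_one hR hK hy hx, one_pow, mul_one]
  let Ω : Subgroup G :=
    { carrier := {x | x ∈ R ∧ x ^ p = 1}
      one_mem' := ⟨R.one_mem, one_pow _⟩
      mul_mem' := by
        rintro x y ⟨hx, hxp⟩ ⟨hy, hyp⟩
        refine ⟨R.mul_mem hx hy, ?_⟩
        rw [hmulp x hx y hy, hxp, hyp, one_mul]
      inv_mem' := by
        rintro x ⟨hx, hxp⟩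
        exact ⟨R.inv_mem hx, by rw [inv_pow, hxp, inv_one]⟩ }
  have hΩ : ∀ y, y ∈ Ω ↔ y ∈ R ∧ y ^ p = 1 := fun y => Iff.rfl
  have h1 : ⁅R, K⁆ ≤ Ω := by
    rw [Subgroup.commutator_le]
    intro y hy k hk
    rw [hΩ]
    have hconj : k * y⁻¹ * k⁻¹ ∈ R := (Subgroup.le_normalizer_iff.mp h.hKR) k hk _ (R.inv_mem hy)
    have heq : ⁅y, k⁆ = y * (k * y⁻¹ * k⁻¹) := by rw [commutatorElement_def]; group
    refine ⟨heq ▸ R.mul_mem hy hconj, ?_⟩
    rw [heq, hmulp y hy _ hconj, conj_pow, inv_pow]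
    have hc := h.pow_mem_centralizer hR hK hy
    have hc' : k * (y ^ p)⁻¹ = (y ^ p)⁻¹ * k :=
      Subgroup.mem_centralizer_iff.mp (Subgroup.inv_mem _ hc) k hk
    rw [hc']
    group
  rw [h.comm_eq hR hK] at h1
  exact (h1 hx).2

end MinConf

/-- **`Ω₁`-lemma** for odd `p`: a `p'`-group `K` normalizing a `p`-group `R` and centralizing all
elements `x ∈ R` with `x ^ p = 1` centralizes `R`. -/
theorem le_centralizer_of_exp_p [Finite G] {p : ℕ} [Fact p.Prime] (hp2 : p ≠ 2) {R K : Subgroup G}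
    (hR : IsPGroup p R) (hK : (Nat.card K).Coprime p)
    (hKR : K ≤ Subgroup.normalizer (R : Set G))
    (h : ∀ x ∈ R, x ^ p = 1 → x ∈ Subgroup.centralizer (K : Set G)) :
    R ≤ Subgroup.centralizer (K : Set G) := by
  by_contra hnot
  obtain ⟨R₁, hle, hm⟩ := exists_minConf (A := (⊥ : Subgroup G)) (K := K) bot_le _ R rfl hKR bot_le hnot
  have hR₁ : IsPGroup p R₁ := hR.to_le hle
  exact hm.not_le (fun x hx => h x (hle hx) (hm.exp hp2 hR₁ hK hx))

end MinConf


section SProd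

variable {G : Type*} [Group G]

/-- The symmetrized product of a list: the product times the product of the reversed list. -/
def sprod (l : List G) : G := l.prod * l.reverse.prod

theorem sprod_cons (x : G) (l : List G) : sprod (x :: l) = x * sprod l * x := by
  simp [sprod, List.prod_cons, List.reverse_cons, List.prod_append, mul_assoc]

theorem sprod_mem {R : Subgroup G} {l : List G} (h : ∀ x ∈ l, x ∈ R) : sprod l ∈ R :=
  R.mul_mem (Subgroup.list_prod_mem _ h)
    (Subgroup.list_prod_mem _ (fun x hx => h x (List.mem_reverse.mp hx)))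

theorem sprod_map_hom (f : G →* G) (l : List G) : f (sprod l) = sprod (l.map f) := by
  simp [sprod, map_list_prod, List.map_reverse]

/-- In a class-2 setting the symmetrized product does not depend on the order. -/
theorem sprod_perm {R : Subgroup G} (hcl : ∀ x ∈ R, ∀ y ∈ R, ∀ z ∈ R, Commute ⁅x, y⁆ z)
    {l₁ l₂ : List G} (hperm : l₁.Perm l₂) (h : ∀ x ∈ l₁, x ∈ R) : sprod l₁ = sprod l₂ := by
  induction hperm with
  | nil => rfl
  | cons x _ ih =>
    rw [sprod_cons, sprod_cons, ih (fun y hy => h y (List.mem_cons_of_mem _ hy))]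
  | swap x y l =>
    rw [sprod_cons, sprod_cons, sprod_cons, sprod_cons]
    have hx : x ∈ R := h x (by simp)
    have hy : y ∈ R := h y (by simp)
    have hs : sprod l ∈ R := sprod_mem (fun z hz => h z (by simp [hz]))
    have c1 := (hcl y hy x hx x hx).eq
    have c2 := (hcl y hy x hx y hy).eq
    have c3 := (hcl y hy x hx _ hs).eq
    calc y * (x * sprod l * x) * y = (y * x) * sprod l * x * y := by simp only [mul_assoc]
      _ = (⁅y, x⁆ * x) * y * sprod l * x * y := by rw [← swap_eq_comm_mul]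
      _ = x * (⁅y, x⁆ * y) * sprod l * x * y := by rw [c1]; simp only [mul_assoc]
      _ = x * y * (⁅y, x⁆ * sprod l) * x * y := by rw [c2]; simp only [mul_assoc]
      _ = x * y * sprod l * (⁅y, x⁆ * x * y) := by rw [c3]; simp only [mul_assoc]
      _ = x * y * sprod l * (y * x) := by rw [← swap_eq_comm_mul]
      _ = x * (y * sprod l * y) * x := by simp only [mul_assoc]
  | trans h1 _ ih1 ih2 =>
    rw [ih1 h, ih2 (fun x hx => h x (h1.mem_iff.mpr hx))]

theorem prod_map_mul_right (z : G) :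
    ∀ l : List G, (∀ y ∈ l, Commute z y) → (l.map (· * z)).prod = l.prod * z ^ l.length := by
  intro l
  induction l with
  | nil => intro _; simp
  | cons y l ih =>
    intro h
    have h1 : Commute z l.prod := Commute.list_prod_right l z (fun x hx => h x (List.mem_cons_of_mem _ hx))
    rw [List.map_cons, List.prod_cons, ih (fun x hx => h x (List.mem_cons_of_mem _ hx)),
      List.prod_cons, List.length_cons, pow_succ']
    calc y * z * (l.prod * z ^ l.length) = y * (z * l.prod) * z ^ l.length := by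
          simp only [mul_assoc]
      _ = y * (l.prod * z) * z ^ l.length := by rw [h1.eq]
      _ = y * l.prod * (z * z ^ l.length) := by simp only [mul_assoc]

theorem sprod_map_mul_right (z : G) (l : List G) (h : ∀ y ∈ l, Commute z y) :
    sprod (l.map (· * z)) = sprod l * z ^ (2 * l.length) := by
  have h' : ∀ y ∈ l.reverse, Commute z y := fun y hy => h y (List.mem_reverse.mp hy)
  have h1 : Commute (z ^ l.length) l.reverse.prod :=
    (Commute.list_prod_right l.reverse z h').pow_left _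
  unfold sprod
  rw [← List.map_reverse, prod_map_mul_right z l h, prod_map_mul_right z l.reverse h',
    List.length_reverse, two_mul, pow_add]
  calc l.prod * z ^ l.length * (l.reverse.prod * z ^ l.length)
      = l.prod * (z ^ l.length * l.reverse.prod) * z ^ l.length := by simp only [mul_assoc]
    _ = l.prod * (l.reverse.prod * z ^ l.length) * z ^ l.length := by rw [h1.eq]
    _ = l.prod * l.reverse.prod * (z ^ l.length * z ^ l.length) := by simp only [mul_assoc]

/-- The symmetrized "average" of the conjugates of `x` under the elements of a list. -/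
def avg (l : List G) (x : G) : G := sprod (l.map (fun k => k * x * k⁻¹))

theorem avg_mem {R : Subgroup G} {l : List G}
    (hl : ∀ k ∈ l, k ∈ Subgroup.normalizer (R : Set G)) {x : G} (hx : x ∈ R) : avg l x ∈ R := by
  apply sprod_mem
  intro y hy
  obtain ⟨k, hk, rfl⟩ := List.mem_map.mp hy
  exact (Subgroup.mem_normalizer_iff.mp (hl k hk) x).mp hx

theorem conj_avg (g : G) (l : List G) (x : G) :
    g * avg l x * g⁻¹ = avg (l.map (fun k => g * k * g⁻¹)) (g * x * g⁻¹) := by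
  have h := sprod_map_hom (MulAut.conj g).toMonoidHom (l.map (fun k => k * x * k⁻¹))
  simp only [MulEquiv.coe_toMonoidHom, MulAut.conj_apply] at h
  unfold avg
  rw [h, List.map_map, List.map_map]
  congr 1
  apply List.map_congr_left
  intro k _
  simp only [Function.comp_apply, MulAut.conj_apply]
  group

theorem avg_map_mul_left (k₀ : G) (l : List G) (x : G) :
    avg (l.map (fun k => k₀ * k)) x = k₀ * avg l x * k₀⁻¹ := by
  have h := sprod_map_hom (MulAut.conj k₀).toMonoidHom (l.map (fun k => k * x * k⁻¹))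
  simp only [MulEquiv.coe_toMonoidHom, MulAut.conj_apply] at h
  unfold avg
  rw [h, List.map_map, List.map_map]
  congr 1
  apply List.map_congr_left
  intro k _
  simp only [Function.comp_apply, MulAut.conj_apply]
  group

theorem avg_perm {R : Subgroup G} (hcl : ∀ x ∈ R, ∀ y ∈ R, ∀ z ∈ R, Commute ⁅x, y⁆ z)
    {l₁ l₂ : List G} (hperm : l₁.Perm l₂) (hl : ∀ k ∈ l₁, k ∈ Subgroup.normalizer (R : Set G))
    {x : G} (hx : x ∈ R) : avg l₁ x = avg l₂ x := by
  apply sprod_perm hcl (hperm.map _)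
  intro y hy
  obtain ⟨k, hk, rfl⟩ := List.mem_map.mp hy
  exact (Subgroup.mem_normalizer_iff.mp (hl k hk) x).mp hx

theorem avg_mul_right {R : Subgroup G} {l : List G}
    (hl : ∀ k ∈ l, k ∈ Subgroup.normalizer (R : Set G)) {x z : G} (hx : x ∈ R)
    (hzR : ∀ y ∈ R, Commute z y) (hzl : ∀ k ∈ l, k * z = z * k) :
    avg l (x * z) = avg l x * z ^ (2 * l.length) := by
  unfold avg
  have h1 : l.map (fun k => k * (x * z) * k⁻¹) = (l.map (fun k => k * x * k⁻¹)).map (· * z) := by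
    rw [List.map_map]
    apply List.map_congr_left
    intro k hk
    simp only [Function.comp_apply]
    calc k * (x * z) * k⁻¹ = k * x * (z * k⁻¹) := by simp only [mul_assoc]
      _ = k * x * (k⁻¹ * (k * z) * k⁻¹) := by group
      _ = k * x * (k⁻¹ * (z * k) * k⁻¹) := by rw [hzl k hk]
      _ = k * x * k⁻¹ * z := by group
  rw [h1, sprod_map_mul_right, List.length_map]
  intro y hy
  obtain ⟨k, hk, rfl⟩ := List.mem_map.mp hy
  exact hzR _ ((Subgroup.mem_normalizer_iff.mp (hl k hk) x).mp hx)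

end SProd


section Main

variable {G : Type*} [Group G]

theorem exists_enum [Finite G] (K : Subgroup G) :
    ∃ l : List G, l.Nodup ∧ (∀ g, g ∈ l ↔ g ∈ K) ∧ l.length = Nat.card K := by
  classical
  haveI : Fintype K := Fintype.ofFinite K
  refine ⟨(Finset.univ : Finset K).toList.map Subtype.val, ?_, ?_, ?_⟩
  · exact (Finset.nodup_toList _).map Subtype.val_injective
  · intro g
    simp
  · rw [List.length_map, Finset.length_toList, Finset.card_univ, Nat.card_eq_fintype_card]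

theorem pow_card_eq_one_of_mem'' [Finite G] (R : Subgroup G) {z : G} (hz : z ∈ R) :
    z ^ Nat.card R = 1 := by
  have := pow_card_eq_one' (G := ↥R) (x := ⟨z, hz⟩)
  have h2 : (((⟨z, hz⟩ : ↥R) ^ Nat.card R : ↥R) : G) = 1 := by rw [this]; rfl
  simpa only [Subgroup.coe_pow] using h2

/-- a `p`-element of a `p'`-group is trivial -/
theorem eq_one_of_mem_of_mem [Finite G] {p : ℕ} [Fact p.Prime] {R K : Subgroup G}
    (hR : IsPGroup p R) (hK : (Nat.card K).Coprime p) {c : G} (hcR : c ∈ R) (hcK : c ∈ K) :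
    c = 1 := by
  obtain ⟨j, hj⟩ := hR ⟨c, hcR⟩
  have hcj : c ^ p ^ j = 1 := by
    have h2 : (((⟨c, hcR⟩ : ↥R) ^ p ^ j : ↥R) : G) = 1 := by rw [hj]; rfl
    simpa only [Subgroup.coe_pow] using h2
  exact Cfsg.Agent.Lib.Helper40.eq_one_of_pow_eq_one_of_coprime hcj
    (pow_card_eq_one_of_mem'' K hcK) hK

/-- In a `p`-group `R ⊔ A` (`A` normalizing `R`), if `R ≰ C` there is an element of `R` outside
`C` all of whose commutators with `A` lie in `C`. -/
theorem exists_fixed_mod [Finite G] {p : ℕ} [Fact p.Prime] {R A C : Subgroup G}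
    (hR : IsPGroup p R) (hA : IsPGroup p A) (hAR : A ≤ Subgroup.normalizer (R : Set G))
    (hC : ¬ R ≤ C) : ∃ x ∈ R, x ∉ C ∧ ∀ a ∈ A, ⁅x, a⁆ ∈ C := by
  have hT : IsPGroup p (R ⊔ A : Subgroup G) := IsPGroup.to_sup_of_normal_left' hR hA hAR
  haveI : Group.IsNilpotent (R ⊔ A : Subgroup G) := hT.isNilpotent
  haveI : (R.subgroupOf (R ⊔ A)).Normal :=
    (Subgroup.normal_subgroupOf_iff_le_normalizer le_sup_left).mpr
      (sup_le Subgroup.le_normalizer hAR)
  have hnot : ¬ R.subgroupOf (R ⊔ A) ≤ C.subgroupOf (R ⊔ A) := by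
    intro hle
    apply hC
    intro x hx
    have h1 : (⟨x, Subgroup.mem_sup_left hx⟩ : ↥(R ⊔ A)) ∈ R.subgroupOf (R ⊔ A) :=
      Subgroup.mem_subgroupOf.mpr hx
    exact Subgroup.mem_subgroupOf.mp (hle h1)
  obtain ⟨b, hb, hbC, hbt⟩ := Cfsg.Agent.Lib.Helper40.exists_mem_not_mem_commutator_mem
    (C.subgroupOf (R ⊔ A)) (R.subgroupOf (R ⊔ A)) hnot
  refine ⟨b.1, Subgroup.mem_subgroupOf.mp hb, fun h => hbC (Subgroup.mem_subgroupOf.mpr h), ?_⟩
  intro a ha
  have := hbt ⟨a, Subgroup.mem_sup_right ha⟩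
  rw [Subgroup.mem_subgroupOf] at this
  simpa [commutatorElement_def] using this

/-- In a minimal configuration with `p` odd and `A` a `p`-group, `A` fixes a point of `R` not fixed
by `K`. -/
theorem MinConf.exists_fixed [Finite G] {p : ℕ} [hp : Fact p.Prime] (hp2 : p ≠ 2)
    {R K A : Subgroup G} (h : MinConf R K A) (hR : IsPGroup p R)
    (hK : (Nat.card K).Coprime p) (hA : IsPGroup p A) :
    ∃ y ∈ R, y ∈ Subgroup.centralizer (A : Set G) ∧ y ∉ Subgroup.centralizer (K : Set G) := by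
  obtain ⟨l, hnd, hl, hlen⟩ := exists_enum K
  have hcl : ∀ x ∈ R, ∀ y ∈ R, ∀ z ∈ R, Commute ⁅x, y⁆ z :=
    fun x hx y hy z hz => h.comm_commute hR hK hx hy hz
  have hlN : ∀ k ∈ l, k ∈ Subgroup.normalizer (R : Set G) := fun k hk => h.hKR ((hl k).mp hk)
  have T0 : ∀ x ∈ R, avg l x ∈ R := fun x hx => avg_mem hlN hx
  have T1 : ∀ x ∈ R, avg l x ∈ Subgroup.centralizer (K : Set G) := by
    intro x hx
    rw [Subgroup.mem_centralizer_iff]
    intro k₀ hk₀
    have hperm : (l.map (fun k => k₀ * k)).Perm l := by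
      rw [List.perm_ext_iff_of_nodup (hnd.map (mul_right_injective k₀)) hnd]
      intro g
      rw [List.mem_map]
      constructor
      · rintro ⟨k, hk, rfl⟩
        exact (hl _).mpr (K.mul_mem hk₀ ((hl k).mp hk))
      · intro hg
        exact ⟨k₀⁻¹ * g, (hl _).mpr (K.mul_mem (K.inv_mem hk₀) ((hl g).mp hg)), by group⟩
    have h1 : avg (l.map (fun k => k₀ * k)) x = avg l x :=
      avg_perm hcl hperm (fun k hk => hlN k (hperm.mem_iff.mp hk)) hx
    rw [avg_map_mul_left] at h1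
    calc k₀ * avg l x = (k₀ * avg l x * k₀⁻¹) * k₀ := by group
      _ = avg l x * k₀ := by rw [h1]
  have T2 : ∀ a ∈ A, ∀ x ∈ R, a * avg l x * a⁻¹ = avg l (a * x * a⁻¹) := by
    intro a ha x hx
    rw [conj_avg]
    have hinj : Function.Injective (fun k : G => a * k * a⁻¹) := by
      intro k k' hkk'
      simpa using hkk'
    have hperm : (l.map (fun k => a * k * a⁻¹)).Perm l := by
      rw [List.perm_ext_iff_of_nodup (hnd.map hinj) hnd]
      intro g
      rw [List.mem_map]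
      constructor
      · rintro ⟨k, hk, rfl⟩
        exact (hl _).mpr ((Subgroup.mem_normalizer_iff.mp (h.hAK ha) k).mp ((hl k).mp hk))
      · intro hg
        refine ⟨a⁻¹ * g * a, (hl _).mpr ?_, by group⟩
        have := (Subgroup.mem_normalizer_iff.mp (Subgroup.inv_mem _ (h.hAK ha)) g).mp
          ((hl g).mp hg)
        simpa using this
    exact avg_perm hcl hperm (fun k hk => hlN k (hperm.mem_iff.mp hk))
      ((Subgroup.mem_normalizer_iff.mp (h.hAR ha) x).mp hx)
  have T3 : ∀ x ∈ R, ∀ z ∈ R, z ∈ Subgroup.centralizer (K : Set G) →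
      avg l (x * z) = avg l x * z ^ (2 * Nat.card K) := by
    intro x hx z hz hzK
    rw [← hlen]
    exact avg_mul_right hlN hx (fun y hy => h.central hR hK hz hzK hy)
      (fun k hk => (Subgroup.mem_centralizer_iff.mp hzK k ((hl k).mp hk)))
  obtain ⟨e, he⟩ := IsPGroup.iff_card.mp hR
  have hN1 : 1 < Nat.card R := (Subgroup.one_lt_card_iff_ne_bot R).mpr h.ne_bot
  have hcop : (2 * Nat.card K).Coprime (Nat.card R) := by
    rw [he]
    apply Nat.Coprime.pow_right
    exact Nat.Coprime.mul_left ((Nat.coprime_primes Nat.prime_two hp.out).mpr (Ne.symm hp2)) hK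
  obtain ⟨m, -, hm⟩ := Nat.exists_mul_mod_eq_one_of_coprime hcop hN1
  have hpow : ∀ z ∈ R, z ^ (2 * Nat.card K * m) = z := by
    intro z hz
    have hz1 : z ^ Nat.card R = 1 := pow_card_eq_one_of_mem'' R hz
    rw [← Nat.div_add_mod (2 * Nat.card K * m) (Nat.card R), hm, pow_add, pow_mul, hz1, one_pow,
      one_mul, pow_one]
  obtain ⟨x₀, hx₀R, hx₀K, hx₀A⟩ := exists_fixed_mod hR hA h.hAR h.not_le
  obtain ⟨t, ht⟩ : ∃ t, t = avg l x₀ := ⟨_, rfl⟩
  have htR : t ∈ R := ht ▸ T0 x₀ hx₀R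
  have htK : t ∈ Subgroup.centralizer (K : Set G) := ht ▸ T1 x₀ hx₀R
  obtain ⟨z₀, hz₀⟩ : ∃ z₀, z₀ = (t⁻¹) ^ m := ⟨_, rfl⟩
  have hz₀R : z₀ ∈ R := hz₀ ▸ R.pow_mem (R.inv_mem htR) _
  have hz₀K : z₀ ∈ Subgroup.centralizer (K : Set G) :=
    hz₀ ▸ Subgroup.pow_mem _ (Subgroup.inv_mem _ htK) _
  obtain ⟨y, hy⟩ : ∃ y, y = x₀ * z₀ := ⟨_, rfl⟩
  have hyR : y ∈ R := hy ▸ R.mul_mem hx₀R hz₀R
  have hθy : avg l y = 1 := by
    rw [hy, T3 x₀ hx₀R z₀ hz₀R hz₀K, hz₀, ← pow_mul, mul_comm m, hpow _ (R.inv_mem htR), ← ht]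
    exact mul_inv_cancel t
  refine ⟨y, hyR, ?_, ?_⟩
  · rw [Subgroup.mem_centralizer_iff]
    intro a ha
    have hc₁R : ⁅x₀, a⁆ ∈ R := by
      have : ⁅x₀, a⁆ = x₀ * (a * x₀⁻¹ * a⁻¹) := by rw [commutatorElement_def]; group
      rw [this]
      exact R.mul_mem hx₀R ((Subgroup.mem_normalizer_iff.mp (h.hAR ha) _).mp (R.inv_mem hx₀R))
    have hc₁K := hx₀A a ha
    have hz'R : a * z₀ * a⁻¹ ∈ R := (Subgroup.mem_normalizer_iff.mp (h.hAR ha) _).mp hz₀R
    have hz'K : a * z₀ * a⁻¹ ∈ Subgroup.centralizer (K : Set G) :=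
      conj_mem_centralizer_of_mem_normalizer' (h.hAK ha) hz₀K
    obtain ⟨c, hc⟩ : ∃ c, c = z₀⁻¹ * ⁅x₀, a⁆⁻¹ * (a * z₀ * a⁻¹) := ⟨_, rfl⟩
    have hcR : c ∈ R := hc ▸ R.mul_mem (R.mul_mem (R.inv_mem hz₀R) (R.inv_mem hc₁R)) hz'R
    have hcK : c ∈ Subgroup.centralizer (K : Set G) :=
      hc ▸ Subgroup.mul_mem _ (Subgroup.mul_mem _ (Subgroup.inv_mem _ hz₀K)
        (Subgroup.inv_mem _ hc₁K)) hz'K
    have hconj : a * y * a⁻¹ = y * c := by
      have hcomm : Commute (⁅x₀, a⁆⁻¹) x₀ :=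
        h.central hR hK (R.inv_mem hc₁R) (Subgroup.inv_mem _ hc₁K) hx₀R
      calc a * y * a⁻¹ = (⁅x₀, a⁆⁻¹ * x₀) * (a * z₀ * a⁻¹) := by
            rw [hy, commutatorElement_def]; group
        _ = (x₀ * ⁅x₀, a⁆⁻¹) * (a * z₀ * a⁻¹) := by rw [hcomm.eq]
        _ = y * c := by rw [hy, hc]; group
    have h1 : avg l (y * c) = 1 := by
      rw [← hconj, ← T2 a ha y hyR, hθy]; group
    rw [T3 y hyR c hcR hcK, hθy, one_mul] at h1
    have hc1 : c = 1 := by
      have := hpow c hcR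
      rw [pow_mul, h1, one_pow] at this
      exact this.symm
    rw [hc1, mul_one] at hconj
    calc a * y = (a * y * a⁻¹) * a := by group
      _ = y * a := by rw [hconj]
  · intro hyK
    apply hx₀K
    have : x₀ = y * z₀⁻¹ := by rw [hy]; group
    rw [this]
    exact Subgroup.mul_mem _ hyK (Subgroup.inv_mem _ hz₀K)

/-- **Non-commuting `A × B` lemma for odd `p`.** Let the `p`-group `A` normalize the `p'`-group `K`,
both normalizing the `p`-group `R`, `p` odd. If `C_R(A) ≤ C_R(K)` then `K` centralizes `R`. -/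
theorem nc_AxB_odd [Finite G] {p : ℕ} [Fact p.Prime] (hp2 : p ≠ 2) {R K A : Subgroup G}
    (hR : IsPGroup p R) (hK : (Nat.card K).Coprime p) (hA : IsPGroup p A)
    (hKR : K ≤ Subgroup.normalizer (R : Set G)) (hAR : A ≤ Subgroup.normalizer (R : Set G))
    (hAK : A ≤ Subgroup.normalizer (K : Set G))
    (h : R ⊓ Subgroup.centralizer (A : Set G) ≤ Subgroup.centralizer (K : Set G)) :
    R ≤ Subgroup.centralizer (K : Set G) := by
  by_contra hnot
  obtain ⟨R₁, hle, hm⟩ := exists_minConf hAK _ R rfl hKR hAR hnot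
  obtain ⟨y, hyR, hyA, hyK⟩ := hm.exists_fixed hp2 (hR.to_le hle) hK hA
  exact hyK (h ⟨hle hyR, hyA⟩)

end Main

end Cfsg.Agent.Lib.Helper32
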