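import Mathlib
import Cfsg.Prelude.Def_LocalStructure
import Cfsg.Agent.Lib.Helper6.PSLCard

/-!
# S3875, piece PC-CARD (helper32 for helper10)
-/

set_option autoImplicit false

namespace Cfsg.Agent.Lib.Helper10.PC

open Cfsg

/-- PC-CARD -/
theorem card_psl2_bound (F : Type) [Field F] [Fintype F] (p : ℕ) (hp : p.Prime) (hp5 : 5 ≤ p)
    (hF : Fintype.card F = p ∨ ∃ m : ℕ, Fintype.card F = 2 ^ m ∧ p = 2 ^ m + 1) :
    p * (p ^ 2 - 1) / 2 ≤ Nat.card (Matrix.ProjectiveSpecialLinearGroup (Fin 2) F) := by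
  have hodd : Odd p := hp.odd_of_ne_two (by omega)
  rcases hF with hF | ⟨m, hF, hpm⟩
  · have h := Cfsg.Agent.Lib.Helper6.card_psl hF 2 (by norm_num)
    rw [Fin.prod_univ_two] at h
    simp only [Fin.val_zero, Fin.val_one, pow_zero, pow_one] at h
    have hg : Nat.gcd 2 (p - 1) = 2 := by
      obtain ⟨k, hk⟩ := hodd
      have : p - 1 = 2 * k := by omega
      rw [this]
      exact Nat.gcd_mul_right_right k 2
    rw [hg] at h
    -- 2 * ((p-1) * N) = (p^2 - 1) * (p^2 - p)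
    have h1 : p ^ 2 - p = p * (p - 1) := by
      rw [Nat.mul_sub, mul_one, sq]
    rw [h1] at h
    have h2 : (p - 1) * (2 * Nat.card (Matrix.ProjectiveSpecialLinearGroup (Fin 2) F)) =
        (p - 1) * (p * (p ^ 2 - 1)) := by
      calc (p - 1) * (2 * Nat.card (Matrix.ProjectiveSpecialLinearGroup (Fin 2) F))
          = 2 * ((p - 1) * Nat.card (Matrix.ProjectiveSpecialLinearGroup (Fin 2) F)) := by ring
        _ = (p ^ 2 - 1) * (p * (p - 1)) := h
        _ = (p - 1) * (p * (p ^ 2 - 1)) := by ring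
    have h3 := Nat.eq_of_mul_eq_mul_left (by omega : 0 < p - 1) h2
    rw [← h3, Nat.mul_div_cancel_left _ (by norm_num : 0 < 2)]
  · have h := Cfsg.Agent.Lib.Helper6.card_psl hF 2 (by norm_num)
    rw [Fin.prod_univ_two] at h
    simp only [Fin.val_zero, Fin.val_one, pow_zero, pow_one] at h
    have hq : 2 ^ m = p - 1 := by omega
    rw [hq] at h
    have hg : Nat.gcd 2 (p - 1 - 1) = 1 := by
      obtain ⟨k, hk⟩ := hodd
      have : p - 1 - 1 = 2 * k - 1 := by omega
      rw [this]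
      have hk1 : 1 ≤ k := by omega
      have : 2 * k - 1 = 2 * (k - 1) + 1 := by omega
      rw [this]
      simp
    rw [hg, one_mul] at h
    have h1 : (p - 1) ^ 2 - (p - 1) = (p - 1) * (p - 1 - 1) := by
      rw [Nat.mul_sub, mul_one, sq]
    have h0 : (p - 1) ^ 2 - 1 = (p - 1 - 1) * p := by
      obtain ⟨r, rfl⟩ : ∃ r, p = r + 2 := ⟨p - 2, by omega⟩
      have e1 : r + 2 - 1 = r + 1 := by omega
      have e2 : r + 1 - 1 = r := by omega
      rw [e1, e2]
      have e3 : (r + 1) ^ 2 = r * (r + 2) + 1 := by ring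
      rw [e3, Nat.add_sub_cancel]
    rw [h1, h0] at h
    have h2 : (p - 1 - 1) * Nat.card (Matrix.ProjectiveSpecialLinearGroup (Fin 2) F) =
        (p - 1 - 1) * (p * ((p - 1) * (p - 1 - 1))) := by
      rw [h]; ring
    have h3 := Nat.eq_of_mul_eq_mul_left (by omega : 0 < p - 1 - 1) h2
    rw [h3]
    apply Nat.div_le_of_le_mul
    obtain ⟨r, rfl⟩ : ∃ r, p = r + 5 := ⟨p - 5, by omega⟩
    have e1 : r + 5 - 1 = r + 4 := by omega
    have e2 : r + 4 - 1 = r + 3 := by omega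
    have e3 : (r + 5) ^ 2 - 1 = (r + 4) * (r + 6) := by
      have : (r + 5) ^ 2 = (r + 4) * (r + 6) + 1 := by ring
      rw [this, Nat.add_sub_cancel]
    rw [e1, e2, e3]
    have h6 : r + 6 ≤ 2 * (r + 3) := by omega
    calc (r + 5) * ((r + 4) * (r + 6)) ≤ (r + 5) * ((r + 4) * (2 * (r + 3))) :=
          Nat.mul_le_mul_left _ (Nat.mul_le_mul_left _ h6)
      _ = 2 * ((r + 5) * ((r + 4) * (r + 3))) := by ring

end Cfsg.Agent.Lib.Helper10.PC
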