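import Mathlib
import Cfsg.Prelude.Def_LocalStructure
import Cfsg.Agent.S3868

/-!
# S3875, piece PC-NS (helper32 for helper10)
-/

set_option autoImplicit false

namespace Cfsg.Agent.Lib.Helper10.PC

open Cfsg

/-- PC-NS -/
theorem nonsimple_card (p : ℕ) [Fact p.Prime] (H : Type) [Group H] [Finite H]
    (hH : ¬ IsPClosed p H) (hsub : ∀ K : Subgroup H, K ≠ ⊤ → IsPClosed p K)
    (hquo : ∀ (K : Subgroup H) [K.Normal], K ≠ ⊥ → IsPClosed p (H ⧸ K))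
    (hns : ¬ IsSimpleGroup H) :
    ∃ q a : ℕ, q.Prime ∧ 0 < a ∧ q ^ a % p = 1 ∧ Nat.card H = p * q ^ a := by
  have hp : p.Prime := Fact.out
  obtain ⟨q, hq, hqp, hcard, -⟩ := Cfsg.Agent.S3868.result hH hsub hquo hns
  have hu : IsUnit ((q : ℕ) : ZMod p) := by
    rw [ZMod.isUnit_iff_coprime]
    exact (Nat.coprime_primes hq hp).mpr hqp
  have hfin : IsOfFinOrder ((q : ℕ) : ZMod p) := by
    obtain ⟨u, hu'⟩ := hu
    rw [← hu']
    have h1 : IsOfFinOrder u := isOfFinOrder_of_finite u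
    exact (isOfFinOrder_iff_pow_eq_one.mpr (by
      obtain ⟨n, hn, hn1⟩ := isOfFinOrder_iff_pow_eq_one.mp h1
      exact ⟨n, hn, by rw [← Units.val_pow_eq_pow_val, hn1, Units.val_one]⟩))
  refine ⟨q, orderOf ((q : ℕ) : ZMod p), hq, hfin.orderOf_pos, ?_, hcard⟩
  have h1 : ((q : ℕ) : ZMod p) ^ orderOf ((q : ℕ) : ZMod p) = 1 := pow_orderOf_eq_one _
  have h2 : ((q ^ orderOf ((q : ℕ) : ZMod p) : ℕ) : ZMod p) = ((1 : ℕ) : ZMod p) := by
    rw [Nat.cast_pow, h1, Nat.cast_one]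
  have h3 := (ZMod.natCast_eq_natCast_iff' _ _ _).mp h2
  rw [h3]
  exact Nat.mod_eq_of_lt hp.one_lt

end Cfsg.Agent.Lib.Helper10.PC
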