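import Mathlib
import Cfsg.Agent.Lib.Helper52.SP8EBDefs

/-!
# SP8-EB (helper52, S5823), piece MINA (helper32, independent copy)

One factor `≠ ± 1` of an element of `L'` forces `L'` to contain that whole quaternion factor.
-/

set_option autoImplicit false

namespace Cfsg.Agent.Lib.Helper52.SP8EB

open Matrix Cfsg.Geo Cfsg.Agent.Lib.Helper71.Asch

variable {n : ℕ} {F : Type*} [Field F] [Fintype F]

omit [Fintype F] in
/-- a one-factor pure tensor of an invertible matrix is invertible (from `HGlof`) -/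
theorem h32_mina_glof (e : Fin n ≃ (Fin 3 → Fin 2)) (P : GL (Fin n) F) (hglof : HGlof e P)
    (i₀ : Fin 3) (g h : Matrix (Fin 2) (Fin 2) F) (hgh : g * h = 1) :
    ∃ G : GL (Fin n) F,
      G.1 = tw e P (pt (Function.update (fun _ => (1 : Matrix (Fin 2) (Fin 2) F)) i₀ g)) ∧
      (G⁻¹ : GL (Fin n) F).1 =
        tw e P (pt (Function.update (fun _ => (1 : Matrix (Fin 2) (Fin 2) F)) i₀ h)) := by
  refine hglof _ _ ?_
  intro i
  by_cases hi : i = i₀
  · subst hi
    simpa using hgh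
  · simp [Function.update_of_ne hi]

/-- MINA. -/
theorem MINA (f : (Fin n → F) → (Fin n → F) → F) (e : Fin n ≃ (Fin 3 → Fin 2)) (P : GL (Fin n) F)
    (hgen : HQgen F) (hmul : HQmul F) (hinv : HQinv F) (hconj : HQconj F) (hglof : HGlof e P)
    (hpg : HPureG f e P) (L' : Subgroup (GL (Fin n) F)) (hN : Nrm (Gsub f e P) L')
    (cs : Fin 3 → Matrix (Fin 2) (Fin 2) F) (hcs : ∀ i, IsQ (cs i)) (x : GL (Fin n) F)
    (hx : x ∈ L') (hxe : x.1 = tw e P (pt cs)) (i₀ : Fin 3) (h1 : cs i₀ ≠ 1) (h2 : cs i₀ ≠ -1) :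
    HasFactor e P L' i₀ := by
  classical
  -- the `GL` element of a one-factor tensor of an element of the quaternion set
  have hQgl : ∀ y : Matrix (Fin 2) (Fin 2) F, IsQ y →
      ∃ G : GL (Fin n) F, G.1 = tw e P (iota i₀ y) := by
    intro y hy
    obtain ⟨y', -, hyy', -⟩ := hinv y hy
    obtain ⟨G, hG, -⟩ := h32_mina_glof e P hglof i₀ y y' hyy'
    exact ⟨G, by rw [hG, iota_eq_pt]⟩
  -- the `GL` element of a one-factor tensor of a determinant one matrix lies in `G`
  have hGgl : ∀ g h : Matrix (Fin 2) (Fin 2) F, g.det = 1 → g * h = 1 →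
      ∃ G : GL (Fin n) F, G ∈ Gsub f e P ∧ G.1 = tw e P (iota i₀ g) ∧
        (G⁻¹ : GL (Fin n) F).1 = tw e P (iota i₀ h) := by
    intro g h hdet hgh
    obtain ⟨G, hG, hG'⟩ := h32_mina_glof e P hglof i₀ g h hgh
    refine ⟨G, hpg _ ?_ G hG, by rw [hG, iota_eq_pt], by rw [hG', iota_eq_pt]⟩
    intro i
    by_cases hi : i = i₀
    · subst hi
      simpa using hdet
    · simp [Function.update_of_ne hi]
  intro y hy
  have key : y ∈ {y : Matrix (Fin 2) (Fin 2) F |
      IsQ y ∧ ∀ g : GL (Fin n) F, g.1 = tw e P (iota i₀ y) → g ∈ L'} := by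
    refine hgen (cs i₀) (hcs i₀) h1 h2 _ ?_ ?_ ?_ y hy
    · -- products
      rintro y ⟨hyQ, hyL⟩ z ⟨hzQ, hzL⟩
      refine ⟨hmul y z hyQ hzQ, ?_⟩
      intro g hg
      obtain ⟨gy, hgy⟩ := hQgl y hyQ
      obtain ⟨gz, hgz⟩ := hQgl z hzQ
      have hgeq : g = gy * gz := by
        apply Units.ext
        rw [Units.val_mul, hg, hgy, hgz, tw_mul, iota_mul]
      rw [hgeq]
      exact L'.mul_mem (hyL gy hgy) (hzL gz hgz)
    · -- conjugates
      rintro y ⟨hyQ, hyL⟩ g h hdet hgh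
      refine ⟨hconj y hyQ g h hgh, ?_⟩
      intro G' hG'
      obtain ⟨gy, hgy⟩ := hQgl y hyQ
      obtain ⟨G₁, hG₁mem, hG₁, hG₁'⟩ := hGgl g h hdet hgh
      have hgeq : G' = G₁ * gy * G₁⁻¹ := by
        apply Units.ext
        rw [Units.val_mul, Units.val_mul, hG', hgy, hG₁, hG₁', tw_mul, tw_mul, iota_mul, iota_mul]
      rw [hgeq]
      exact hN G₁ hG₁mem gy (hyL gy hgy)
    · -- commutators
      intro a' g h haa' hdet hgh
      obtain ⟨a'', ha''Q, haa'', ha''a⟩ := hinv (cs i₀) (hcs i₀)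
      have ha'eq : a' = a'' := by
        calc a' = (a'' * cs i₀) * a' := by rw [ha''a, one_mul]
          _ = a'' * (cs i₀ * a') := by rw [mul_assoc]
          _ = a'' := by rw [haa', mul_one]
      have ha'Q : IsQ a' := ha'eq ▸ ha''Q
      have hQ2 : IsQ (g * cs i₀ * h) := hconj (cs i₀) (hcs i₀) g h hgh
      refine ⟨hmul _ _ ha'Q hQ2, ?_⟩
      intro G' hG'
      choose ds hds using fun i => hinv (cs i) (hcs i)
      have hds0 : ds i₀ = a' := by
        calc ds i₀ = ds i₀ * (cs i₀ * a') := by rw [haa', mul_one]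
          _ = (ds i₀ * cs i₀) * a' := by rw [mul_assoc]
          _ = a' := by rw [(hds i₀).2.2, one_mul]
      obtain ⟨X, hX, hX'⟩ := hglof cs ds (fun i => (hds i).2.1)
      have hXx : X = x := Units.ext (by rw [hX, hxe])
      rw [hXx] at hX'
      obtain ⟨G₁, hG₁mem, hG₁, hG₁'⟩ := hGgl g h hdet hgh
      have hgeq : G' = x⁻¹ * (G₁ * x * G₁⁻¹) := by
        apply Units.ext
        rw [Units.val_mul, Units.val_mul, Units.val_mul, hG', hX', hxe, hG₁, hG₁', iota_eq_pt,
          iota_eq_pt, iota_eq_pt, tw_mul, tw_mul, tw_mul, pt_mul, pt_mul, pt_mul]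
        congr 2
        funext i
        by_cases hi : i = i₀
        · subst hi
          simp [hds0]
        · simp [Function.update_of_ne hi, (hds i).2.2]
      rw [hgeq]
      exact L'.mul_mem (L'.inv_mem hx) (hN G₁ hG₁mem x hx)
  exact key.2

end Cfsg.Agent.Lib.Helper52.SP8EB
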