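import Mathlib
import Cfsg.Agent.Lib.Helper49.Sp4Base

/-!
# S2460, piece D3 (helper32 for helper49): `(g - a)² = 0`, `a² = 1`, `g ≠ a` gives `TameE ω g a`
-/

set_option autoImplicit false
set_option linter.style.haveILetI false
set_option linter.unusedSectionVars false
set_option linter.unusedVariables false

namespace Cfsg.Agent.Lib.Helper32.Sp4T

open Cfsg.Agent.Lib.Helper49.Sp4T

variable {F : Type*} [Field F] {V : Type*} [AddCommGroup V] [Module F V]
  (ω : LinearMap.BilinForm F V) (g : V ≃ₗ[F] V)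

/-- if `k` is not a multiple of `k'` there is `v` with `ω k v = 1`, `ω k' v = 0` -/
theorem d3_dual (hω : Symp ω) (k k' : V) (h : ∀ t : F, k ≠ t • k') :
    ∃ v : V, ω k v = 1 ∧ ω k' v = 0 := by
  by_contra hcon
  push Not at hcon
  have h1 : ∀ v, ω k' v = 0 → ω k v = 0 := by
    intro v hv
    by_contra hne
    apply hcon ((ω k v)⁻¹ • v)
    · rw [map_smul, smul_eq_mul, inv_mul_cancel₀ hne]
    · rw [map_smul, hv, smul_zero]
  by_cases hk' : ∀ v, ω k' v = 0
  · apply h 0
    rw [zero_smul]
    exact hω.nondeg k (fun y => h1 y (hk' y))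
  · push Not at hk'
    obtain ⟨u, hu⟩ := hk'
    apply h (ω k ((ω k' u)⁻¹ • u))
    have h2 : ∀ y, ω (k - ω k ((ω k' u)⁻¹ • u) • k') y = 0 := by
      intro y
      have h3 : ω k' (y - (ω k' y) • ((ω k' u)⁻¹ • u)) = 0 := by
        rw [map_sub, map_smul, map_smul, smul_eq_mul, smul_eq_mul, inv_mul_cancel₀ hu]
        ring
      have h4 := h1 _ h3
      rw [map_sub, map_smul, smul_eq_mul] at h4
      rw [map_sub, LinearMap.sub_apply, map_smul, LinearMap.smul_apply, smul_eq_mul]
      linear_combination h4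
    exact sub_eq_zero.mp (hω.nondeg _ h2)

/-- PIECE D3 -/
theorem tame_D3 (hω : Symp ω) (hg : Isom ω g) (a : F) (ha : a * a = 1)
    (hD : ∀ v, hh g v = (a + a) • v) (hga : ∃ v, g v ≠ a • v) : TameE ω g a := by
  classical
  haveI : Module.Finite F V := Module.finite_of_finrank_pos (by rw [hω.dim]; norm_num)
  -- the image of `M = a g - 1` is totally isotropic
  have hiso : ∀ x y, ω (a • g x - x) (a • g y - y) = 0 := by
    intro x y
    have h1 := hg x y
    have h2 := hg.hh_left x y
    rw [hD, map_smul, LinearMap.smul_apply, smul_eq_mul] at h2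
    simp only [map_sub, map_smul, LinearMap.sub_apply, LinearMap.smul_apply, smul_eq_mul]
    linear_combination (a * a) * h1 + a * h2 - (ω x y) * ha
  obtain ⟨x0, hx0⟩ := hga
  have hk1 : a • g x0 - x0 ≠ 0 := by
    intro h
    apply hx0
    have h1 : a • g x0 = x0 := sub_eq_zero.mp h
    calc g x0 = (a * a) • g x0 := by rw [ha, one_smul]
      _ = a • (a • g x0) := by rw [smul_smul]
      _ = a • x0 := by rw [h1]
  set k1 : V := a • g x0 - x0 with hk1def
  -- the second vector
  obtain ⟨k2, hk2, hk12, hk2M⟩ : ∃ k2 : V, (∀ t : F, k2 ≠ t • k1) ∧ ω k1 k2 = 0 ∧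
      ∀ x, ω k2 (a • g x - x) = 0 := by
    by_cases hc : ∃ x1, ∀ t : F, a • g x1 - x1 ≠ t • k1
    · obtain ⟨x1, hx1⟩ := hc
      exact ⟨a • g x1 - x1, hx1, hiso x0 x1, fun x => hiso x1 x⟩
    · push Not at hc
      obtain ⟨k2, hk2a, hk2b⟩ : ∃ k2 : V, ω k1 k2 = 0 ∧ k2 ∉ Submodule.span F ({k1} : Set V) := by
        by_contra hcon
        push Not at hcon
        have hle : LinearMap.ker (ω k1) ≤ Submodule.span F ({k1} : Set V) := by
          intro y hy
          exact hcon y (LinearMap.mem_ker.mp hy)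
        have h1 := LinearMap.finrank_range_add_finrank_ker (ω k1)
        have h2 : Module.finrank F (LinearMap.range (ω k1)) ≤ 1 := by
          have := Submodule.finrank_le (LinearMap.range (ω k1))
          rwa [Module.finrank_self] at this
        have h3 : Module.finrank F (Submodule.span F ({k1} : Set V)) ≤ 1 :=
          (finrank_span_singleton hk1).le
        have h6 := Submodule.finrank_mono hle
        rw [hω.dim] at h1
        omega
      refine ⟨k2, ?_, hk2a, ?_⟩
      · intro t ht
        apply hk2b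
        rw [ht]
        exact Submodule.smul_mem _ _ (Submodule.subset_span (Set.mem_singleton _))
      · intro x
        obtain ⟨t, ht⟩ := hc x
        rw [ht, map_smul, smul_eq_mul, hω.swap k2 k1, hk2a]
        ring
  have hk1M : ∀ x, ω k1 (a • g x - x) = 0 := fun x => hiso x0 x
  have hk1k2 : ∀ t : F, k1 ≠ t • k2 := by
    intro t ht
    by_cases ht0 : t = 0
    · rw [ht0, zero_smul] at ht
      exact hk1 ht
    · apply hk2 t⁻¹
      rw [ht, smul_smul, inv_mul_cancel₀ ht0, one_smul]
  obtain ⟨l1, hl11, hl12⟩ := d3_dual ω hω k1 k2 hk1k2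
  obtain ⟨l2', hl22, hl21⟩ := d3_dual ω hω k2 k1 hk2
  have hk21 : ω k2 k1 = 0 := by rw [hω.swap, hk12, neg_zero]
  have hl1k1 : ω l1 k1 = -1 := by rw [hω.swap, hl11]
  -- `l2 = l2' + ω(l1, l2') k1`
  have e1 : ω k1 (l2' + ω l1 l2' • k1) = 0 := by
    rw [map_add, map_smul, hl21, hω.alt, smul_zero, add_zero]
  have e2 : ω k2 (l2' + ω l1 l2' • k1) = 1 := by
    rw [map_add, map_smul, hl22, hk21, smul_zero, add_zero]
  have e3 : ω l1 (l2' + ω l1 l2' • k1) = 0 := by
    rw [map_add, map_smul, hl1k1, smul_eq_mul]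
    ring
  generalize l2' + ω l1 l2' • k1 = l2 at e1 e2 e3
  refine ⟨l1, l2, ?_, e3, ?_, ?_⟩
  · rw [LinearIndependent.pair_iff]
    intro s t hst
    have h1 : ω k1 (s • l1 + t • l2) = 0 := by rw [hst, map_zero]
    have h2 : ω k2 (s • l1 + t • l2) = 0 := by rw [hst, map_zero]
    rw [map_add, map_smul, map_smul, hl11, e1, smul_eq_mul, smul_eq_mul] at h1
    rw [map_add, map_smul, map_smul, hl12, e2, smul_eq_mul, smul_eq_mul] at h2
    constructor
    · linear_combination h1
    · linear_combination h2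
  · rw [← hg.hh_left, hD, map_smul, LinearMap.smul_apply, e3, smul_zero]
  · intro s t hz
    obtain ⟨c, d, hcd⟩ := Submodule.mem_span_pair.mp hz
    have h1 := hk1M (s • l1 + t • l2)
    have h2 := hk2M (s • l1 + t • l2)
    rw [← hcd] at h1 h2
    simp only [map_sub, map_add, map_smul, smul_eq_mul, hl11, hl12, e1, e2] at h1 h2
    have hc : a * c = s := by linear_combination h1
    have hd : a * d = t := by linear_combination h2
    rw [← hcd, ← hc, ← hd]
    have e : a • ((a * c) • l1 + (a * d) • l2) = (a * a) • (c • l1 + d • l2) := by module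
    rw [e, ha, one_smul]

end Cfsg.Agent.Lib.Helper32.Sp4T
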