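import Cfsg.Agent.Lib.Helper4.TPDefs

/-!
# Project TP (S4033), piece N4G (helper32 for helper4)

Glue: for `H` the subgroup of `p`-regular elements of `Cen y`, the image `K` of `N_G(H)` in
`MulAut H` satisfies the hypotheses of N4ABS.
-/

set_option autoImplicit false

namespace Cfsg.Agent.Lib.Helper4.TP

universe u

theorem n4g_helper32_conj_cen {G : Type u} [Group G] (n a b : G) (h : a ∈ Cen b) :
    n * a * n⁻¹ ∈ Cen (n * b * n⁻¹) := by
  rw [Subgroup.mem_centralizer_iff] at h ⊢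
  intro x hx
  rw [Set.mem_singleton_iff] at hx
  subst hx
  have h1 := h b rfl
  calc n * b * n⁻¹ * (n * a * n⁻¹) = n * (b * a) * n⁻¹ := by group
    _ = n * (a * b) * n⁻¹ := by rw [h1]
    _ = n * a * n⁻¹ * (n * b * n⁻¹) := by group

theorem n4g_helper32_orderOf_conj {G : Type u} [Group G] (n a : G) :
    orderOf (n * a * n⁻¹) = orderOf a := by
  have h := (MulAut.conj n).orderOf_eq a
  rwa [MulAut.conj_apply] at h

theorem n4g_helper32_conj_not_center {G : Type u} [Group G] (n a : G)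
    (h : a ∉ Subgroup.center G) : n * a * n⁻¹ ∉ Subgroup.center G := by
  intro hc
  apply h
  have h0 := (Subgroup.mem_center_iff.1 hc) n⁻¹
  have h1 : n * a * n⁻¹ = a := by
    calc n * a * n⁻¹ = (n * a * n⁻¹ * n⁻¹) * n := by group
      _ = (n⁻¹ * (n * a * n⁻¹)) * n := by rw [h0]
      _ = a := by group
  rw [h1] at hc
  exact hc

theorem n4g_helper32_cen_eq {G : Type u} [Group G] [Finite G] (p m : ℕ) (hH : Hyp G p m)
    (hA1 : A1Prop G p) (g w : G) (hg : NC p g) (hw : NC p w) (hwg : w ∈ Cen g) :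
    Cen g = Cen w := by
  have hle : Cen g ≤ Cen w := hA1 g w hg hw.1 hwg
  have h1 := Subgroup.relIndex_mul_index hle
  rw [hH.2.2 g hg, hH.2.2 w hw] at h1
  have hm : 0 < m := by have := hH.1; omega
  have h2 : (Cen g).relIndex (Cen w) = 1 := by
    have h3 : (Cen g).relIndex (Cen w) * m = 1 * m := by rw [h1, one_mul]
    exact Nat.eq_of_mul_eq_mul_right hm h3
  exact le_antisymm hle (Subgroup.relIndex_eq_one.1 h2)

theorem n4g_helper32_dvd_card {G : Type u} [Group G] [Finite G] (H : Subgroup G) (q : ℕ)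
    (hq : q.Prime) (n : G) (hnN : n ∈ Subgroup.normalizer (H : Set G))
    (hn : ∃ k, orderOf n = q ^ k) (hnc : n ∉ Subgroup.centralizer (H : Set G)) :
    q ∣ Nat.card (H.normalizerMonoidHom.range) := by
  obtain ⟨k, hk⟩ := hn
  have hx1 : H.normalizerMonoidHom ⟨n, hnN⟩ ≠ 1 := by
    intro h1
    have h2 : (⟨n, hnN⟩ : Subgroup.normalizer (H : Set G)) ∈ H.normalizerMonoidHom.ker := h1
    rw [Subgroup.normalizerMonoidHom_ker, Subgroup.mem_subgroupOf] at h2
    exact hnc h2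
  have hdvd : orderOf (H.normalizerMonoidHom ⟨n, hnN⟩) ∣ q ^ k := by
    have h2 := orderOf_map_dvd H.normalizerMonoidHom
      (⟨n, hnN⟩ : Subgroup.normalizer (H : Set G))
    rw [Subgroup.orderOf_mk, hk] at h2
    exact h2
  obtain ⟨j, -, hj⟩ := (Nat.dvd_prime_pow hq).1 hdvd
  have hj0 : j ≠ 0 := by
    rintro rfl
    rw [pow_zero, orderOf_eq_one_iff] at hj
    exact hx1 hj
  have hqx : q ∣ orderOf (H.normalizerMonoidHom ⟨n, hnN⟩) := by
    rw [hj]
    exact dvd_pow_self q hj0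
  have hmem : H.normalizerMonoidHom ⟨n, hnN⟩ ∈ H.normalizerMonoidHom.range := ⟨_, rfl⟩
  have h3 := orderOf_dvd_natCard (⟨_, hmem⟩ : H.normalizerMonoidHom.range)
  rw [Subgroup.orderOf_mk] at h3
  exact hqx.trans h3

theorem n4g_helper32_abs (habs : N4AbsStmt.{u}) (G : Type u) [Group G] [Finite G]
    (H : Subgroup G) (hcomm : ∀ a ∈ H, ∀ b ∈ H, a * b = b * a) (s t : ℕ) (hs : s.Prime)
    (ht : t.Prime) (hst : s ≠ t) (K : Subgroup (MulAut H))
    (hfix : ∀ x y : MulAut H, x ∈ K → y ∈ K → x ≠ 1 → y ≠ 1 → ∀ v : H, x v = v ↔ y v = v)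
    (hms : ∃ k ∈ K, ∃ a : H, (∃ i, orderOf a = s ^ i) ∧ k a ≠ a)
    (hmt : ∃ k ∈ K, ∃ a : H, (∃ i, orderOf a = t ^ i) ∧ k a ≠ a)
    (hsK : s ∣ Nat.card K) (htK : t ∣ Nat.card K) (hs2 : ¬ s ^ 2 ∣ Nat.card K)
    (ht2 : ¬ t ^ 2 ∣ Nat.card K) : False := by
  let _ : CommGroup H :=
    { (inferInstance : Group H) with
      mul_comm := fun a b => Subtype.ext (hcomm a a.2 b b.2) }
  exact habs H K s t hs ht hst hfix hms hmt hsK htK hs2 ht2

theorem n4g_helper32_norm_grow {G : Type u} [Group G] [Finite G] {p : ℕ} [Fact p.Prime]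
    (U P : Subgroup G) (hU : IsPGroup p U) (hne : ∃ v ∈ U, v ∉ P) (hPU : P ≤ U) :
    ∃ u ∈ U, u ∉ P ∧ u ∈ Subgroup.normalizer (P : Set G) := by
  have : Group.IsNilpotent ↥U := hU.isNilpotent
  have hlt : P.subgroupOf U < ⊤ := by
    rw [lt_top_iff_ne_top]
    intro h
    obtain ⟨v, hvU, hvP⟩ := hne
    have h1 : (⟨v, hvU⟩ : U) ∈ P.subgroupOf U := by rw [h]; trivial
    exact hvP (Subgroup.mem_subgroupOf.mp h1)
  have h1 := Group.normalizerCondition_of_isNilpotent (G := ↥U) (P.subgroupOf U) hlt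
  obtain ⟨u, hu, hu'⟩ := SetLike.exists_of_lt h1
  refine ⟨u, u.2, fun h => hu' (Subgroup.mem_subgroupOf.mpr h), ?_⟩
  apply Subgroup.mem_normalizer_fintype
  intro n hn
  have h2 := (Subgroup.mem_normalizer_iff.mp hu ⟨n, hPU hn⟩).mp (Subgroup.mem_subgroupOf.mpr hn)
  exact Subgroup.mem_subgroupOf.mp h2

theorem n4g : N4AbsStmt.{u} → Y2Stmt.{u} → IdxStmt.{u} → NCRStmt.{u} → HCStmt.{u} →
    UCStmt.{u} → N4Stmt.{u} := by
  intro habs hy2 hidx hncr hhc huc G _ _ p m s t hp hH hA1 hs ht hsp htp hst hsm htm hs2 ht2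
  have : Fact s.Prime := ⟨hs⟩
  have : Fact t.Prime := ⟨ht⟩
  have hm0 : m ≠ 0 := by have := hH.1; omega
  obtain ⟨T⟩ : Nonempty (Sylow t G) := inferInstance
  obtain ⟨y, hyT, hyZ, hycomm, -⟩ := hy2 G p m t hp hH ht htp htm T
  have hyord : ∃ k, orderOf y = t ^ k := by
    have h1 := (IsPGroup.iff_orderOf.1 T.isPGroup') ⟨y, hyT⟩
    rwa [Subgroup.orderOf_mk] at h1
  have hpreg_of_pow : ∀ (q : ℕ), q.Prime → q ≠ p → ∀ x : G, (∃ k, orderOf x = q ^ k) →
      PReg p x := by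
    intro q hq hqp x ⟨k, hk⟩
    unfold PReg
    rw [hk]
    exact Nat.Coprime.pow_left k ((Nat.coprime_primes hq hp).2 hqp)
  have hyNC : NC p y := ⟨hpreg_of_pow t ht htp y hyord, hyZ⟩
  have hyy : y ∈ Cen y := by
    rw [Subgroup.mem_centralizer_iff]
    intro h hh
    rw [Set.mem_singleton_iff] at hh
    rw [hh]
  obtain ⟨H, hHmem, hHcent⟩ := hhc G p hp hA1 y hyNC
  have hyH : y ∈ H := (hHmem y).2 ⟨hyy, hyNC.1⟩
  have hHcomm : ∀ a ∈ H, ∀ b ∈ H, a * b = b * a :=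
    fun a ha b hb => hHcent b hb a ((hHmem a).1 ha).1
  have hcentH : Subgroup.centralizer (H : Set G) = Cen y := by
    ext c
    constructor
    · intro hc
      rw [Subgroup.mem_centralizer_iff] at hc ⊢
      intro h hh
      rw [Set.mem_singleton_iff] at hh
      rw [hh]
      exact hc y hyH
    · intro hc
      rw [Subgroup.mem_centralizer_iff]
      intro w hw
      exact (hHcent w hw c hc).symm
  have hnorm : ∀ n : G, n * y * n⁻¹ ∈ Cen y → n ∈ Subgroup.normalizer (H : Set G) := by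
    intro n hn
    have hy'NC : NC p (n * y * n⁻¹) :=
      ⟨by unfold PReg; rw [n4g_helper32_orderOf_conj]; exact hyNC.1,
        n4g_helper32_conj_not_center n y hyZ⟩
    have heq : Cen y = Cen (n * y * n⁻¹) := n4g_helper32_cen_eq p m hH hA1 y _ hyNC hy'NC hn
    apply Subgroup.mem_normalizer_fintype
    intro w hw
    have hw' := (hHmem w).1 hw
    refine (hHmem _).2 ⟨?_, ?_⟩
    · rw [heq]
      exact n4g_helper32_conj_cen n w y hw'.1
    · unfold PReg
      rw [n4g_helper32_orderOf_conj]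
      exact hw'.2
  have hnorm2 : ∀ n w : G, NC p w → w ∈ Cen y → n * w * n⁻¹ ∈ Cen y →
      n * y * n⁻¹ ∈ Cen y := by
    intro n w hwNC hwy hnw
    have h1 : Cen y = Cen w := n4g_helper32_cen_eq p m hH hA1 y w hyNC hwNC hwy
    have hw'NC : NC p (n * w * n⁻¹) :=
      ⟨by unfold PReg; rw [n4g_helper32_orderOf_conj]; exact hwNC.1,
        n4g_helper32_conj_not_center n w hwNC.2⟩
    have h2 : Cen y = Cen (n * w * n⁻¹) := n4g_helper32_cen_eq p m hH hA1 y _ hyNC hw'NC hnw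
    rw [h2]
    apply n4g_helper32_conj_cen
    rw [← h1]
    exact hyy
  -- the `t`-part
  have hidx' := hidx G p m t hp hH ht htp T y hyT hyZ hycomm
  have hfac : 0 < m.factorization t := ht.factorization_pos_of_dvd hm0 htm
  obtain ⟨g, hgT, hgC⟩ : ∃ g ∈ (T : Subgroup G), g ∉ Cen y := by
    by_contra hcon
    push Not at hcon
    have hle : (T : Subgroup G) ≤ Cen y := hcon
    have h1 := Subgroup.relIndex_eq_one.2 hle
    rw [hidx'] at h1
    rcases Nat.pow_eq_one.1 h1 with h | h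
    · exact ht.one_lt.ne' h
    · omega
  have hgy : g * y * g⁻¹ ∈ Cen y := by
    have hz := hycomm g hgT
    rw [Subgroup.mem_centralizer_iff]
    intro h hh
    rw [Set.mem_singleton_iff] at hh
    rw [hh]
    have hzc := (Subgroup.mem_center_iff.1 hz) y
    calc y * (g * y * g⁻¹) = (y * (g * y * g⁻¹ * y⁻¹)) * y := by group
      _ = ((g * y * g⁻¹ * y⁻¹) * y) * y := by rw [hzc]
      _ = g * y * g⁻¹ * y := by group
  have hgN : g ∈ Subgroup.normalizer (H : Set G) := hnorm g hgy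
  have hgord : ∃ k, orderOf g = t ^ k := by
    have h1 := (IsPGroup.iff_orderOf.1 T.isPGroup') ⟨g, hgT⟩
    rwa [Subgroup.orderOf_mk] at h1
  have htK : t ∣ Nat.card (H.normalizerMonoidHom.range) :=
    n4g_helper32_dvd_card H t ht g hgN hgord (by rw [hcentH]; exact hgC)
  -- the `s`-part
  obtain ⟨S0⟩ : Nonempty (Sylow s G) := inferInstance
  obtain ⟨y', hy'S, hy'Z, -, -⟩ := hy2 G p m s hp hH hs hsp hsm S0
  have hy'ord : ∃ k, orderOf y' = s ^ k := by
    have h1 := (IsPGroup.iff_orderOf.1 S0.isPGroup') ⟨y', hy'S⟩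
    rwa [Subgroup.orderOf_mk] at h1
  obtain ⟨w, hwC, hwZ, hword⟩ := hncr G p m s hp hH hs hsp y' hy'Z hy'ord y hyNC
  have hwNC : NC p w := ⟨hpreg_of_pow s hs hsp w hword, hwZ⟩
  obtain ⟨U, hUmem, -⟩ := huc G p s hp hs hsp hA1 y hyNC
  have hwU : w ∈ U := (hUmem w).2 ⟨hwC, hword⟩
  have hUp : IsPGroup s U := by
    rw [IsPGroup.iff_orderOf]
    intro x
    have h1 := ((hUmem x).1 x.2).2
    rwa [Subgroup.orderOf_coe] at h1
  obtain ⟨S, hUS⟩ := hUp.exists_le_sylow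
  have hUneS : ∃ v ∈ (S : Subgroup G), v ∉ U := by
    by_contra hcon
    push Not at hcon
    have hSle : (S : Subgroup G) ≤ Cen y := fun v hv => ((hUmem v).1 (hcon v hv)).1
    have h1 := Subgroup.index_dvd_of_le hSle
    rw [hH.2.2 y hyNC] at h1
    exact S.not_dvd_index (hsm.trans h1)
  obtain ⟨g', hg'S, hg'U, hg'N⟩ :=
    n4g_helper32_norm_grow (S : Subgroup G) U S.isPGroup' hUneS hUS
  have hg'ord : ∃ k, orderOf g' = s ^ k := by
    have h1 := (IsPGroup.iff_orderOf.1 S.isPGroup') ⟨g', hg'S⟩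
    rwa [Subgroup.orderOf_mk] at h1
  have hg'C : g' ∉ Cen y := fun h => hg'U ((hUmem g').2 ⟨h, hg'ord⟩)
  have hg'w : g' * w * g'⁻¹ ∈ Cen y := by
    have h1 := (Subgroup.mem_normalizer_iff.1 hg'N w).1 hwU
    exact ((hUmem _).1 h1).1
  have hg'N' : g' ∈ Subgroup.normalizer (H : Set G) :=
    hnorm g' (hnorm2 g' w hwNC hwC hg'w)
  have hsK : s ∣ Nat.card (H.normalizerMonoidHom.range) :=
    n4g_helper32_dvd_card H s hs g' hg'N' hg'ord (by rw [hcentH]; exact hg'C)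
  -- the order of `K` divides `m`
  have hKm : Nat.card (H.normalizerMonoidHom.range) ∣ m := by
    rw [← Subgroup.index_ker, Subgroup.normalizerMonoidHom_ker, hcentH]
    have h1 : Cen y ≤ Subgroup.normalizer (H : Set G) := by
      rw [← hcentH]
      exact Subgroup.centralizer_le_normalizer _
    have h2 := Subgroup.relIndex_dvd_index_of_le h1
    rw [hH.2.2 y hyNC] at h2
    exact h2
  have hs2K : ¬ s ^ 2 ∣ Nat.card (H.normalizerMonoidHom.range) := fun h => hs2 (h.trans hKm)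
  have ht2K : ¬ t ^ 2 ∣ Nat.card (H.normalizerMonoidHom.range) := fun h => ht2 (h.trans hKm)
  -- fixed points
  have hker : ∀ n : Subgroup.normalizer (H : Set G),
      H.normalizerMonoidHom n = 1 ↔ (n : G) ∈ Cen y := by
    intro n
    rw [← MonoidHom.mem_ker, Subgroup.normalizerMonoidHom_ker, Subgroup.mem_subgroupOf, hcentH]
  have hfixpt : ∀ n : Subgroup.normalizer (H : Set G), H.normalizerMonoidHom n ≠ 1 →
      ∀ v : H, (H.normalizerMonoidHom n v = v ↔ (v : G) ∈ Subgroup.center G) := by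
    intro n hn v
    have hnC : (n : G) ∉ Cen y := fun h => hn ((hker n).2 h)
    have hval : ((H.normalizerMonoidHom n v : H) : G) = (n : G) * v * (n : G)⁻¹ := rfl
    constructor
    · intro hfix
      by_contra hvZ
      have hv := (hHmem v).1 v.2
      have hvNC : NC p (v : G) := ⟨hv.2, hvZ⟩
      have heq : Cen y = Cen (v : G) := n4g_helper32_cen_eq p m hH hA1 y v hyNC hvNC hv.1
      apply hnC
      rw [heq, Subgroup.mem_centralizer_iff]
      intro h hh
      rw [Set.mem_singleton_iff] at hh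
      rw [hh]
      have h1 : (n : G) * v * (n : G)⁻¹ = v := by rw [← hval, hfix]
      calc (v : G) * n = ((n : G) * v * (n : G)⁻¹) * n := by rw [h1]
        _ = n * v := by group
    · intro hvZ
      apply Subtype.ext
      rw [hval]
      have h1 := (Subgroup.mem_center_iff.1 hvZ) (n : G)
      rw [h1]
      group
  have hSame : ∀ x x' : MulAut H, x ∈ H.normalizerMonoidHom.range →
      x' ∈ H.normalizerMonoidHom.range → x ≠ 1 → x' ≠ 1 → ∀ v : H, x v = v ↔ x' v = v := by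
    rintro x x' ⟨n, rfl⟩ ⟨n', rfl⟩ hx hx' v
    rw [hfixpt n hx v, hfixpt n' hx' v]
  have hgK1 : H.normalizerMonoidHom ⟨g, hgN⟩ ≠ 1 := fun h => hgC ((hker ⟨g, hgN⟩).1 h)
  have hMs : ∃ k ∈ H.normalizerMonoidHom.range, ∃ a : H,
      (∃ i, orderOf a = s ^ i) ∧ k a ≠ a := by
    refine ⟨_, ⟨⟨g, hgN⟩, rfl⟩, ⟨w, (hHmem w).2 ⟨hwC, hwNC.1⟩⟩, ?_, ?_⟩
    · obtain ⟨i, hi⟩ := hword
      exact ⟨i, by rw [Subgroup.orderOf_mk, hi]⟩
    · intro h
      exact hwZ ((hfixpt _ hgK1 _).1 h)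
  have hMt : ∃ k ∈ H.normalizerMonoidHom.range, ∃ a : H,
      (∃ i, orderOf a = t ^ i) ∧ k a ≠ a := by
    refine ⟨_, ⟨⟨g, hgN⟩, rfl⟩, ⟨y, hyH⟩, ?_, ?_⟩
    · obtain ⟨i, hi⟩ := hyord
      exact ⟨i, by rw [Subgroup.orderOf_mk, hi]⟩
    · intro h
      exact hyZ ((hfixpt _ hgK1 _).1 h)
  exact n4g_helper32_abs habs G H hHcomm s t hs ht hst _ hSame hMs hMt hsK htK hs2K ht2K

end Cfsg.Agent.Lib.Helper4.TP
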