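import Cfsg.Agent.Lib.Helper41.TW3

/-!
# Thompson–Wielandt, step 4c: `O_p(X) ∩ Y ≤ O_p(Y)`
-/

set_option autoImplicit false

namespace Cfsg.Agent.Lib.Helper32.TWP

open Cfsg Cfsg.Agent.Lib.Helper66 Cfsg.Agent.Lib.Helper41.TW

variable {G : Type*} [Group G] [Finite G] {X Y A1 B1 A2 B2 : Subgroup G}

theorem step4c (S : Setting X Y A1 B1 A2 B2) {p q : ℕ} (hp : p.Prime) (hq : q.Prime)
    (hpq : p ≠ q) {Q : Subgroup G} (hQA : Q ≤ A2) (hQ : IsPGroup q Q)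
    (h4b : Subgroup.normalizer (Q : Set G) ⊓ Y ≤ X)
    (hFR : ∀ R : Subgroup G, IsPGroup p R → Q ≤ Subgroup.normalizer (R : Set G) →
      R ≤ Subgroup.normalizer (B1 : Set G) → ∀ r ∈ R, ∃ w ∈ R ⊓ B1,
        w⁻¹ * r ∈ Subgroup.normalizer (Q : Set G)) :
    rp p X ⊓ Y ≤ rp p Y := by
  -- D := O_p(X) ∩ Y
  have hDp : IsPGroup p ↥(rp p X ⊓ Y : Subgroup G) := (rp_isPGroup p X).to_le inf_le_left
  have hB1D : B1 ≤ Subgroup.normalizer ((rp p X ⊓ Y : Subgroup G) : Set G) := by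
    apply inf_le_normalizer_inf
    · exact S.B1_le_X.trans (le_normalizer_rp p X)
    · exact S.B1_le_Y.trans Subgroup.le_normalizer
  -- claim
  have claim : ∀ d ∈ (rp p X ⊓ Y : Subgroup G), ∀ y ∈ Y, y * d * y⁻¹ ∈ X := by
    intro d hd y hy
    have hRp : IsPGroup p ↥((rp p X ⊓ Y : Subgroup G).map (MulAut.conj y).toMonoidHom) :=
      hDp.map _
    have hRY : (rp p X ⊓ Y : Subgroup G).map (MulAut.conj y).toMonoidHom ≤ Y := by
      intro x hx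
      rw [Cfsg.Agent.Lib.Helper41.mem_map_conj_iff] at hx
      have h1 : y * (y⁻¹ * x * y) * y⁻¹ ∈ Y := Y.mul_mem (Y.mul_mem hy hx.2) (Y.inv_mem hy)
      have e : y * (y⁻¹ * x * y) * y⁻¹ = x := by group
      rwa [e] at h1
    have hRB1 : (rp p X ⊓ Y : Subgroup G).map (MulAut.conj y).toMonoidHom ≤
        Subgroup.normalizer (B1 : Set G) := hRY.trans S.Y_norm_B1
    have hQR : Q ≤ Subgroup.normalizer
        (((rp p X ⊓ Y : Subgroup G).map (MulAut.conj y).toMonoidHom : Subgroup G) : Set G) := by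
      apply le_normalizer_of_conj
      intro c hc x hx
      rw [Cfsg.Agent.Lib.Helper41.mem_map_conj_iff] at hx ⊢
      have hcB1 : c ∈ B1 := S.A2_le_B1 (hQA hc)
      have hc' : y⁻¹ * c * y ∈ B1 := conj_mem' (S.Y_norm_B1 hy) hcB1
      have h1 := conj_mem (hB1D hc') hx
      have e : y⁻¹ * (c * x * c⁻¹) * y = y⁻¹ * c * y * (y⁻¹ * x * y) * (y⁻¹ * c * y)⁻¹ := by
        group
      rw [e]; exact h1
    have hmem : y * d * y⁻¹ ∈ (rp p X ⊓ Y : Subgroup G).map (MulAut.conj y).toMonoidHom := by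
      rw [Cfsg.Agent.Lib.Helper41.mem_map_conj_iff]
      have e : y⁻¹ * (y * d * y⁻¹) * y = d := by group
      rw [e]; exact hd
    obtain ⟨w, hw, hn⟩ := hFR _ hRp hQR hRB1 _ hmem
    have hwY : w ∈ Y := hRY hw.1
    have hnY : w⁻¹ * (y * d * y⁻¹) ∈ Y :=
      Y.mul_mem (Y.inv_mem hwY) (Y.mul_mem (Y.mul_mem hy hd.2) (Y.inv_mem hy))
    have hnX : w⁻¹ * (y * d * y⁻¹) ∈ X := h4b ⟨hn, hnY⟩
    have hwX : w ∈ X := S.B1_le_X hw.2
    have e : y * d * y⁻¹ = w * (w⁻¹ * (y * d * y⁻¹)) := by group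
    rw [e]; exact X.mul_mem hwX hnX
  have hDB1 : (rp p X ⊓ Y : Subgroup G) ≤ B1 := fun d hd =>
    (S.mB1 d).mpr ⟨hd.2, fun y hy => claim d hd y hy⟩
  exact (le_rp hDB1 hB1D hDp).trans (S.rp_B1_le_rp_Y p)

end Cfsg.Agent.Lib.Helper32.TWP
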