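import Cfsg.Agent.Lib.Helper12.Subnormal
import Cfsg.Agent.Lib.Helper32.Coprime

set_option autoImplicit false
open scoped Pointwise

namespace Cfsg.Agent.Lib.Helper32

/-- Relative subnormality inside one ambient group: `RSN S K` means `S` is subnormal in `K`. -/
inductive RSN {G : Type*} [Group G] : Subgroup G → Subgroup G → Prop
  | refl (K : Subgroup G) : RSN K K
  | step (S H K : Subgroup G) : S ≤ H → H ≤ Subgroup.normalizer (S : Set G) → RSN H K → RSN S K

theorem RSN.le {G : Type*} [Group G] {S K : Subgroup G} (h : RSN S K) : S ≤ K := by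
  induction h with
  | refl K => exact le_rfl
  | step S H K hSH _ _ ih => exact hSH.trans ih

theorem RSN.trans {G : Type*} [Group G] {S H K : Subgroup G} (h₁ : RSN S H) :
    RSN H K → RSN S K := by
  induction h₁ with
  | refl K' => exact id
  | step S H' K' hSH hN _ ih => exact fun h₂ => RSN.step _ _ _ hSH hN (ih h₂)

theorem RSN.inf {G : Type*} [Group G] {S K : Subgroup G} (h : RSN S K) :
    ∀ X : Subgroup G, X ≤ K → RSN (S ⊓ X) X := by
  induction h with
  | refl K => intro X hX; rw [inf_eq_right.mpr hX]; exact RSN.refl X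
  | step S H K hSH hN _ ih =>
    intro X hX
    refine RSN.step _ (H ⊓ X) _ (inf_le_inf_right X hSH) ?_ (ih X hX)
    exact (inf_le_inf hN Subgroup.le_normalizer).trans Subgroup.inf_normalizer_le_normalizer_inf

theorem RSN.of_le {G : Type*} [Group G] {S K X : Subgroup G} (h : RSN S K) (hSX : S ≤ X)
    (hXK : X ≤ K) : RSN S X := by
  have := h.inf X hXK
  rwa [inf_eq_left.mpr hSX] at this

theorem RSN.conj {G : Type*} [Group G] {S K : Subgroup G} (h : RSN S K) (x : G) :
    RSN (cj x S) (cj x K) := by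
  induction h with
  | refl K => exact RSN.refl _
  | step S H K hSH hN _ ih =>
    refine RSN.step _ (cj x H) _ (cj_mono x hSH) ?_ ih
    apply le_normalizer_of_cj_eq
    intro a ha
    rw [mem_cj] at ha
    have h1 := cj_eq_self_of_le_normalizer hN ha
    have h2 : a * x = x * (x⁻¹ * a * x) := by group
    rw [← cj_mul, h2, cj_mul, h1]

theorem rsn_of_isSubnormal {G : Type*} [Group G] {K : Subgroup G} (H' : Subgroup K)
    (h : H'.IsSubnormal) : RSN (H'.map K.subtype) K := by
  induction h with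
  | top =>
    have : (⊤ : Subgroup K).map K.subtype = K := by
      rw [← MonoidHom.range_eq_map, Subgroup.range_subtype]
    rw [this]; exact RSN.refl K
  | step H' K' hle hK' hN ih =>
    refine RSN.step _ (K'.map K.subtype) _ (Subgroup.map_mono hle) ?_ ih
    rw [Subgroup.le_normalizer_iff]
    rintro _ ⟨k, hk, rfl⟩ _ ⟨h, hh, rfl⟩
    have := hN.conj_mem ⟨h, hle hh⟩ (Subgroup.mem_subgroupOf.mpr hh) ⟨k, hk⟩
    exact ⟨k * h * k⁻¹, Subgroup.mem_subgroupOf.mp this, rfl⟩

theorem rsn_of_subgroupOf {G : Type*} [Group G] {A K : Subgroup G} (hAK : A ≤ K)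
    (h : (A.subgroupOf K).IsSubnormal) : RSN A K := by
  have := rsn_of_isSubnormal _ h
  rwa [Subgroup.map_subgroupOf_eq_of_le hAK] at this

theorem RSN.subgroupOf {G : Type*} [Group G] {A K : Subgroup G} (h : RSN A K) :
    (A.subgroupOf K).IsSubnormal := by
  induction h with
  | refl K => rw [Subgroup.subgroupOf_self]; exact Subgroup.IsSubnormal.top
  | step S H K hSH hN hHK ih =>
    refine Subgroup.IsSubnormal.step _ (H.subgroupOf K) (Subgroup.comap_mono hSH) ih ?_
    apply Subgroup.normal_subgroupOf_of_le_normalizer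
    intro h hh
    rw [Subgroup.mem_subgroupOf] at hh
    rw [Subgroup.mem_normalizer_iff]
    intro s
    simp only [Subgroup.mem_subgroupOf, Subgroup.coe_mul, Subgroup.coe_inv]
    exact (Subgroup.mem_normalizer_iff.mp (hN hh)) s

theorem RSN.isSubnormal {G : Type*} [Group G] {A K : Subgroup G} (h : RSN A K) (hK : K = ⊤) :
    A.IsSubnormal := by
  induction h with
  | refl K => rw [hK]; exact Subgroup.IsSubnormal.top
  | step S H K hSH hN _ ih =>
    exact Subgroup.IsSubnormal.step S H hSH (ih hK) (Subgroup.normal_subgroupOf_of_le_normalizer hN)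

theorem rsn_top_of_isSubnormal {G : Type*} [Group G] {A : Subgroup G} (h : A.IsSubnormal) :
    RSN A ⊤ := by
  induction h with
  | top => exact RSN.refl _
  | step H K hle _ hN ih =>
    refine RSN.step H K _ hle ?_ ih
    exact (Subgroup.normal_subgroupOf_iff_le_normalizer hle).mp hN

theorem RSN.sup {G : Type*} [Group G] [Finite G] {S S' H : Subgroup G} (h : RSN S H)
    (h' : RSN S' H) : RSN (S ⊔ S') H := by
  apply rsn_of_subgroupOf (sup_le h.le h'.le)
  rw [Subgroup.subgroupOf_sup h.le h'.le]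
  exact Cfsg.Agent.Lib.Helper12.isSubnormal_sup h.subgroupOf h'.subgroupOf

theorem RSN.exists_normal {G : Type*} [Group G] {S K : Subgroup G} (h : RSN S K) :
    S ≠ K → ∃ X : Subgroup G, S ≤ X ∧ X ≤ K ∧ X ≠ K ∧ K ≤ Subgroup.normalizer (X : Set G) ∧
      RSN S X := by
  induction h with
  | refl K => intro h; exact absurd rfl h
  | step S H K hSH hN hHK ih =>
    intro hne
    by_cases hHK' : H = K
    · subst hHK'
      exact ⟨S, le_rfl, hSH, hne, hN, RSN.refl S⟩
    · obtain ⟨X, hHX, hXK, hXne, hKX, hsn⟩ := ih hHK'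
      exact ⟨X, hSH.trans hHX, hXK, hXne, hKX, RSN.step S H X hSH hN hsn⟩

theorem card_lt_of_le_of_ne' {G : Type*} [Group G] [Finite G] {X K : Subgroup G} (h : X ≤ K)
    (hne : X ≠ K) : Nat.card X < Nat.card K := by
  by_contra hlt
  exact hne (Subgroup.eq_of_le_of_card_ge h (not_lt.mp hlt))

theorem exists_two_step {G : Type*} [Group G] [Finite G] (S : Subgroup G) :
    ∀ (n : ℕ) (K : Subgroup G), Nat.card K ≤ n → RSN S K →
      ¬ K ≤ Subgroup.normalizer (S : Set G) →
      ∃ H₁ H₂ : Subgroup G, S ≤ H₁ ∧ H₁ ≤ H₂ ∧ H₂ ≤ K ∧ H₁ ≤ Subgroup.normalizer (S : Set G) ∧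
        H₂ ≤ Subgroup.normalizer (H₁ : Set G) ∧ ¬ H₂ ≤ Subgroup.normalizer (S : Set G) := by
  intro n
  induction n with
  | zero =>
    intro K hK
    have := Nat.card_pos (α := K)
    omega
  | succ n ih =>
    intro K hK hSK hnot
    have hne : S ≠ K := fun h => hnot (h ▸ Subgroup.le_normalizer)
    obtain ⟨X, hSX, hXK, hXne, hKX, hSnX⟩ := hSK.exists_normal hne
    by_cases hX : X ≤ Subgroup.normalizer (S : Set G)
    · exact ⟨X, K, hSX, hXK, le_rfl, hX, hKX, hnot⟩
    · have hcard : Nat.card X ≤ n := by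
        have := card_lt_of_le_of_ne' hXK hXne
        omega
      obtain ⟨H₁, H₂, h1, h2, h3, h4, h5, h6⟩ := ih X hcard hSnX hX
      exact ⟨H₁, H₂, h1, h2, h3.trans hXK, h4, h5, h6⟩

/-- `M` is a maximal proper subgroup of `K`. -/
def IsMaxIn {G : Type*} [Group G] (M K : Subgroup G) : Prop :=
  M ≤ K ∧ M ≠ K ∧ ∀ X : Subgroup G, M ≤ X → X ≤ K → X ≠ K → X = M

theorem exists_isMaxIn {G : Type*} [Group G] [Finite G] {A K : Subgroup G} (hAK : A ≤ K)
    (hne : A ≠ K) : ∃ M, A ≤ M ∧ IsMaxIn M K := by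
  obtain ⟨M, hAM, ⟨hMK, hMne⟩, hmax⟩ :=
    exists_maximal_above (fun X : Subgroup G => X ≤ K ∧ X ≠ K) ⟨hAK, hne⟩
  exact ⟨M, hAM, hMK, hMne, fun X hMX hXK hXne => hmax X ⟨hXK, hXne⟩ hMX⟩

/-- Wielandt's zipper lemma, inside a subgroup `K`. -/
theorem zipper {G : Type*} [Group G] [Finite G] (K : Subgroup G) :
    ∀ (n : ℕ) (S : Subgroup G), Nat.card K - Nat.card S ≤ n → S ≤ K →
      (∀ H : Subgroup G, S ≤ H → H ≤ K → H ≠ K → RSN S H) → ¬ RSN S K →
      ∀ M₁ M₂ : Subgroup G, IsMaxIn M₁ K → IsMaxIn M₂ K → S ≤ M₁ → S ≤ M₂ → M₁ = M₂ := by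
  intro n
  induction n with
  | zero =>
    intro S hcard hSK _ hnsn
    have h1 : S = K := Subgroup.eq_of_le_of_card_ge hSK (by omega)
    exact absurd (h1 ▸ RSN.refl S) hnsn
  | succ n ih =>
    intro S hcard hSK hall hnsn
    have hnorm : ¬ K ≤ Subgroup.normalizer (S : Set G) :=
      fun h => hnsn (RSN.step S K K hSK h (RSN.refl K))
    have hNK : Subgroup.normalizer (S : Set G) ⊓ K ≠ K := fun h => hnorm (inf_eq_right.mp h)
    obtain ⟨M, hNM, hM⟩ := exists_isMaxIn
      (inf_le_right : Subgroup.normalizer (S : Set G) ⊓ K ≤ K) hNK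
    have key : ∀ K₁, IsMaxIn K₁ K → S ≤ K₁ → K₁ = M := by
      intro K₁ hK₁ hSK₁
      have hsn₁ : RSN S K₁ := hall K₁ hSK₁ hK₁.1 hK₁.2.1
      by_cases hK₁N : K₁ ≤ Subgroup.normalizer (S : Set G)
      · exact (hK₁.2.2 M ((le_inf hK₁N hK₁.1).trans hNM) hM.1 hM.2.1).symm
      · obtain ⟨H₁, H₂, hSH₁, hH₁₂, hH₂K₁, hH₁N, hH₂N, hH₂S⟩ :=
          exists_two_step S _ K₁ le_rfl hsn₁ hK₁N
        obtain ⟨x, hxH₂, hxS⟩ := SetLike.not_le_iff_exists.mp hH₂S
        have hxK : x ∈ K := hK₁.1 (hH₂K₁ hxH₂)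
        have hcjH₁ : cj x S ≤ H₁ := by
          have := cj_mono x hSH₁
          rwa [cj_eq_self_of_le_normalizer hH₂N hxH₂] at this
        have hTH₁ : S ⊔ cj x S ≤ H₁ := sup_le hSH₁ hcjH₁
        have hTN : S ⊔ cj x S ≤ Subgroup.normalizer (S : Set G) := hTH₁.trans hH₁N
        have hTK₁ : S ⊔ cj x S ≤ K₁ := hTH₁.trans (hH₁₂.trans hH₂K₁)
        have hTK : S ⊔ cj x S ≤ K := hTK₁.trans hK₁.1
        have hTM : S ⊔ cj x S ≤ M := (le_inf hTN hTK).trans hNM
        have hST : S ≤ S ⊔ cj x S := le_sup_left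
        have hSneT : S ≠ S ⊔ cj x S := by
          intro h
          have h1 : cj x S ≤ S := by
            have h0 : cj x S ≤ S ⊔ cj x S := le_sup_right
            rwa [← h] at h0
          have h2 : cj x S = S := Subgroup.eq_of_le_of_card_ge h1 (by rw [card_cj])
          exact hxS (cj_eq_self_iff.mp h2)
        have hcardT : Nat.card K - Nat.card ↥(S ⊔ cj x S) ≤ n := by
          have h1 := card_lt_of_le_of_ne' hST hSneT
          have h2 := Subgroup.card_le_of_le hTK
          omega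
        have hT1 : ∀ H : Subgroup G, S ⊔ cj x S ≤ H → H ≤ K → H ≠ K → RSN (S ⊔ cj x S) H := by
          intro H hTH hHK hHne
          have h1 : RSN S H := hall H (hST.trans hTH) hHK hHne
          have h2 : RSN (cj x S) H := by
            have hx' : x⁻¹ ∈ K := K.inv_mem hxK
            have h3 : RSN S (cj x⁻¹ H) := by
              refine hall _ ?_ (cj_le_of_mem hx' hHK) ?_
              · have := cj_mono x⁻¹ (le_sup_right.trans hTH : cj x S ≤ H)
                rwa [cj_inv_cj] at this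
              · intro h
                exact hHne (Subgroup.eq_of_le_of_card_ge hHK (by rw [← h, card_cj]))
            have h4 := h3.conj x
            rwa [cj_cj_inv] at h4
          exact h1.sup h2
        have hT2 : ¬ RSN (S ⊔ cj x S) K := fun h => hnsn (RSN.step S _ K hST hTN h)
        exact ih _ hcardT hTK hT1 hT2 K₁ M hK₁ hM hTK₁ hTM
    intro M₁ M₂ h₁ h₂ hS₁ hS₂
    rw [key M₁ h₁ hS₁, key M₂ h₂ hS₂]

/-- Wielandt's subnormality criterion, inside a subgroup `K`. -/
theorem wielandt_rel {G : Type*} [Group G] [Finite G] :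
    ∀ (n : ℕ) (K A : Subgroup G), Nat.card K ≤ n → A ≤ K →
      (∀ g ∈ K, RSN A (A ⊔ cj g A)) → RSN A K := by
  intro n
  induction n with
  | zero =>
    intro K A hK
    have := Nat.card_pos (α := K)
    omega
  | succ n ih =>
    intro K A hK hAK hyp
    by_contra hnsn
    have hall : ∀ H : Subgroup G, A ≤ H → H ≤ K → H ≠ K → RSN A H := by
      intro H hAH hHK hHne
      have hc : Nat.card H ≤ n := by
        have := card_lt_of_le_of_ne' hHK hHne
        omega
      exact ih H A hc hAH (fun g hg => hyp g (hHK hg))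
    have hAne : A ≠ K := fun h => hnsn (h ▸ RSN.refl A)
    obtain ⟨M, hAM, hM⟩ := exists_isMaxIn hAK hAne
    have hcjM : ∀ g ∈ K, cj g A ≤ M := by
      intro g hg
      have hle : A ⊔ cj g A ≤ K := sup_le hAK (cj_le_of_mem hg hAK)
      have hne : A ⊔ cj g A ≠ K := fun h => hnsn (h ▸ hyp g hg)
      obtain ⟨M', hM'le, hM'⟩ := exists_isMaxIn hle hne
      have := zipper K _ A le_rfl hAK hall hnsn M' M hM' hM (le_sup_left.trans hM'le) hAM
      exact this ▸ (le_sup_right.trans hM'le)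
    have hAN : A ≤ ⨆ g : K, cj g.1 A := by
      have := le_iSup (fun g : K => cj g.1 A) 1
      simpa [cj_one] using this
    have hNM : (⨆ g : K, cj g.1 A) ≤ M := iSup_le (fun g => hcjM g.1 g.2)
    have hNK : (⨆ g : K, cj g.1 A) ≤ K := hNM.trans hM.1
    have hNne : (⨆ g : K, cj g.1 A) ≠ K := fun h => hM.2.1 (le_antisymm hM.1 (h ▸ hNM))
    have hKN : K ≤ Subgroup.normalizer ((⨆ g : K, cj g.1 A : Subgroup G) : Set G) := by
      apply le_normalizer_of_cj_eq
      intro k hk
      refine Subgroup.eq_of_le_of_card_ge ?_ (by rw [card_cj])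
      unfold cj
      rw [Subgroup.map_iSup]
      apply iSup_le
      intro g
      have h1 : ((A.map (MulAut.conj g.1).toMonoidHom).map (MulAut.conj k).toMonoidHom) =
          cj (k * g.1) A := by rw [cj_mul]; rfl
      rw [h1]
      exact le_iSup (fun g : K => cj g.1 A) ⟨k * g.1, K.mul_mem hk g.2⟩
    exact hnsn ((hall _ hAN hNK hNne).trans (RSN.step _ K K hNK hKN (RSN.refl K)))

theorem smul_eq_cj {G : Type*} [Group G] (g : G) (A : Subgroup G) :
    MulAut.conj g • A = cj g A := rfl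

/-- Wielandt's subnormality criterion. -/
theorem wielandt {G : Type*} [Group G] [Finite G] (A : Subgroup G)
    (h : ∀ g : G, (A.subgroupOf (A ⊔ MulAut.conj g • A)).IsSubnormal) : A.IsSubnormal := by
  have h' : ∀ g ∈ (⊤ : Subgroup G), RSN A (A ⊔ cj g A) :=
    fun g _ => rsn_of_subgroupOf le_sup_left (h g)
  exact (wielandt_rel _ ⊤ A le_rfl le_top h').isSubnormal rfl

end Cfsg.Agent.Lib.Helper32
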