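import Cfsg.Agent.Lib.Helper32.Wielandt

set_option autoImplicit false
open scoped Pointwise

namespace Cfsg.Agent.Lib.Helper32

theorem isMaxIn_normalizer {G : Type*} [Group G] {M K : Subgroup G} (hM : IsMaxIn M K) :
    Subgroup.normalizer (M : Set G) ⊓ K = M ∨ K ≤ Subgroup.normalizer (M : Set G) := by
  by_cases h : Subgroup.normalizer (M : Set G) ⊓ K = K
  · right; exact inf_eq_right.mp h
  · left
    exact hM.2.2 _ (le_inf Subgroup.le_normalizer hM.1) inf_le_right h

theorem isMaxIn_cj {G : Type*} [Group G] [Finite G] {M K : Subgroup G} (hM : IsMaxIn M K) {x : G}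
    (hx : x ∈ K) : IsMaxIn (cj x M) K := by
  refine ⟨cj_le_of_mem hx hM.1, ?_, ?_⟩
  · intro h
    exact hM.2.1 (Subgroup.eq_of_le_of_card_ge hM.1 (by rw [← h, card_cj]))
  · intro X hMX hXK hXne
    have h1 : M ≤ cj x⁻¹ X := by
      have := cj_mono x⁻¹ hMX
      rwa [cj_inv_cj] at this
    have h2 : cj x⁻¹ X ≤ K := cj_le_of_mem (K.inv_mem hx) hXK
    have h3 : cj x⁻¹ X ≠ K := by
      intro h
      exact hXne (Subgroup.eq_of_le_of_card_ge hXK (by rw [← h, card_cj]))
    have h4 := hM.2.2 _ h1 h2 h3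
    rw [← h4, cj_cj_inv]

/-- If all `K`-conjugates of `A` lie in a proper subgroup `M` of `K` and `A` is subnormal in
every proper subgroup of `K` containing it, then `A` is subnormal in `K`. -/
theorem rsn_of_conj_le {G : Type*} [Group G] [Finite G] {A M K : Subgroup G}
    (hMK : M ≤ K) (hMne : M ≠ K)
    (hall : ∀ H : Subgroup G, A ≤ H → H ≤ K → H ≠ K → RSN A H)
    (hcjM : ∀ g ∈ K, cj g A ≤ M) : RSN A K := by
  have hAN : A ≤ ⨆ g : K, cj g.1 A := by
    have := le_iSup (fun g : K => cj g.1 A) 1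
    simpa [cj_one] using this
  have hNM : (⨆ g : K, cj g.1 A) ≤ M := iSup_le (fun g => hcjM g.1 g.2)
  have hNK : (⨆ g : K, cj g.1 A) ≤ K := hNM.trans hMK
  have hNne : (⨆ g : K, cj g.1 A) ≠ K := fun h => hMne (le_antisymm hMK (h ▸ hNM))
  have hKN : K ≤ Subgroup.normalizer ((⨆ g : K, cj g.1 A : Subgroup G) : Set G) := by
    apply le_normalizer_of_cj_eq
    intro k hk
    refine Subgroup.eq_of_le_of_card_ge ?_ (by rw [card_cj])
    unfold cj
    rw [Subgroup.map_iSup]
    apply iSup_le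
    intro g
    have h1 : ((A.map (MulAut.conj g.1).toMonoidHom).map (MulAut.conj k).toMonoidHom) =
        cj (k * g.1) A := by rw [cj_mul]; rfl
    rw [h1]
    exact le_iSup (fun g : K => cj g.1 A) ⟨k * g.1, K.mul_mem hk g.2⟩
  exact (hall _ hAN hNK hNne).trans (RSN.step _ K K hNK hKN (RSN.refl K))

/-- The sharpened Wielandt criterion, inside a subgroup `K`. -/
theorem wielandt_sharp_rel {G : Type*} [Group G] [Finite G] :
    ∀ (n : ℕ) (K A : Subgroup G), Nat.card K ≤ n → A ≤ K →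
      (∀ a ∈ A, ∀ g ∈ K, RSN A (A ⊔ cj (g⁻¹ * a * g) A)) → RSN A K := by
  intro n
  induction n with
  | zero =>
    intro K A hK
    have := Nat.card_pos (α := K)
    omega
  | succ n ih =>
    intro K A hK hAK hyp
    by_contra hnsn
    have hall : ∀ H : Subgroup G, A ≤ H → H ≤ K → H ≠ K → RSN A H := by
      intro H hAH hHK hHne
      have hc : Nat.card H ≤ n := by
        have := card_lt_of_le_of_ne' hHK hHne
        omega
      exact ih H A hc hAH (fun a ha g hg => hyp a ha g (hHK hg))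
    have hAne : A ≠ K := fun h => hnsn (h ▸ RSN.refl A)
    obtain ⟨M, hAM, hM⟩ := exists_isMaxIn hAK hAne
    have hxN : ∀ a ∈ A, ∀ g ∈ K, g⁻¹ * a * g ∈ Subgroup.normalizer (M : Set G) := by
      intro a ha g hg
      have hxK : g⁻¹ * a * g ∈ K := K.mul_mem (K.mul_mem (K.inv_mem hg) (hAK ha)) hg
      have hle : A ⊔ cj (g⁻¹ * a * g) A ≤ K := sup_le hAK (cj_le_of_mem hxK hAK)
      have hne : A ⊔ cj (g⁻¹ * a * g) A ≠ K := fun h => hnsn (h ▸ hyp a ha g hg)
      obtain ⟨M', hM'le, hM'⟩ := exists_isMaxIn hle hne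
      have h1 := zipper K _ A le_rfl hAK hall hnsn M' M hM' hM (le_sup_left.trans hM'le) hAM
      have h2 : cj (g⁻¹ * a * g) A ≤ M := h1 ▸ (le_sup_right.trans hM'le)
      have h3 : A ≤ cj (g⁻¹ * a * g)⁻¹ M := by
        have := cj_mono (g⁻¹ * a * g)⁻¹ h2
        rwa [cj_inv_cj] at this
      have h4 := zipper K _ A le_rfl hAK hall hnsn _ M (isMaxIn_cj hM (K.inv_mem hxK)) hM h3 hAM
      have h5 := cj_eq_self_iff.mp h4
      have h6 := Subgroup.inv_mem _ h5
      rwa [inv_inv] at h6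
    rcases isMaxIn_normalizer hM with hNM | hNM
    · apply hnsn
      apply rsn_of_conj_le hM.1 hM.2.1 hall
      intro g hg z hz
      rw [mem_cj] at hz
      have h1 := hxN _ hz g⁻¹ (K.inv_mem hg)
      rw [inv_inv] at h1
      have h2 : g * (g⁻¹ * z * g) * g⁻¹ = z := by group
      rw [h2] at h1
      have hzK : z ∈ K := by
        rw [← h2]
        exact K.mul_mem (K.mul_mem hg (hAK hz)) (K.inv_mem hg)
      have h3 : z ∈ Subgroup.normalizer (M : Set G) ⊓ K := ⟨h1, hzK⟩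
      rwa [hNM] at h3
    · exact hnsn ((hall M hAM hM.1 hM.2.1).trans (RSN.step M K K hM.1 hNM (RSN.refl K)))

/-- The sharpened Wielandt criterion. -/
theorem wielandt_sharp {G : Type*} [Group G] [Finite G] (A : Subgroup G)
    (h : ∀ a ∈ A, ∀ g : G, (A.subgroupOf (A ⊔ MulAut.conj (g⁻¹ * a * g) • A)).IsSubnormal) :
    A.IsSubnormal := by
  have h' : ∀ a ∈ A, ∀ g ∈ (⊤ : Subgroup G), RSN A (A ⊔ cj (g⁻¹ * a * g) A) :=
    fun a ha g _ => rsn_of_subgroupOf le_sup_left (h a ha g)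
  exact (wielandt_sharp_rel _ ⊤ A le_rfl le_top h').isSubnormal rfl

end Cfsg.Agent.Lib.Helper32
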